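import Cfsg.Agent.H539.PrimRed
import Cfsg.Agent.H539.IdxOK

set_option autoImplicit false
set_option linter.unusedSectionVars false

/-!
# Class numbers of primitive groups with a regular normal subgroup

* `of_large`: degree at least 32;
* `center_bot`, `of_card_le`: a primitive group of order at most `2 ^ n` has at most `2 ^ (n - 1)`
  classes;
* `of_odd`: a regular abelian normal subgroup of odd order `n ≥ 7`.
-/

open MulAction

namespace Cfsg.Agent.H539.CaseA

open Cfsg.Agent.H540.ClassNum Cfsg.Agent.H539.BlockRed Cfsg.Agent.H539.PrimRed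

/-! ### automorphisms are determined by few values -/

theorem exists_gens (R : Type*) [Group R] [Finite R] :
    ∃ s : Finset R, Subgroup.closure (s : Set R) = ⊤ ∧ 2 ^ s.card ≤ Nat.card R := by
  classical
  have := Fintype.ofFinite R
  let P : Finset (Finset R) :=
    Finset.univ.filter fun s => 2 ^ s.card ≤ Nat.card (Subgroup.closure (s : Set R))
  have h0 : P.Nonempty := by
    refine ⟨∅, ?_⟩
    rw [Finset.mem_filter]
    refine ⟨Finset.mem_univ _, ?_⟩
    simp
  obtain ⟨s, hs, hmax⟩ := Finset.exists_max_image P Finset.card h0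
  rw [Finset.mem_filter] at hs
  refine ⟨s, ?_, hs.2.trans (Subgroup.card_le_card_group _)⟩
  by_contra hne
  obtain ⟨x, hx⟩ : ∃ x, x ∉ Subgroup.closure (s : Set R) := by
    by_contra hcon
    push Not at hcon
    exact hne (eq_top_iff.2 fun x _ => hcon x)
  have hxs : x ∉ s := fun h => hx (Subgroup.subset_closure h)
  have h1 : insert x s ∈ P := by
    rw [Finset.mem_filter]
    refine ⟨Finset.mem_univ _, ?_⟩
    rw [Finset.card_insert_of_notMem hxs, pow_succ']
    have hle : Subgroup.closure (s : Set R) ≤ Subgroup.closure ((insert x s : Finset R) : Set R) := by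
      apply Subgroup.closure_mono
      rw [Finset.coe_insert]
      exact Set.subset_insert _ _
    have hxm : x ∈ Subgroup.closure ((insert x s : Finset R) : Set R) :=
      Subgroup.subset_closure (by simp)
    have h2 := Subgroup.card_dvd_of_le hle
    have h3 : Nat.card (Subgroup.closure (s : Set R)) ≠
        Nat.card (Subgroup.closure ((insert x s : Finset R) : Set R)) := by
      intro h
      have h4 := Subgroup.eq_of_le_of_card_ge hle h.ge
      exact hx (by rw [h4]; exact hxm)
    obtain ⟨c, hc⟩ := h2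
    have hpos : 0 < Nat.card (Subgroup.closure ((insert x s : Finset R) : Set R)) := Nat.card_pos
    have hc2 : 2 ≤ c := by
      rcases c with _ | _ | c
      · omega
      · exfalso
        apply h3
        rw [hc, zero_add, mul_one]
      · omega
    calc 2 * 2 ^ s.card ≤ 2 * Nat.card (Subgroup.closure (s : Set R)) :=
          Nat.mul_le_mul_left _ hs.2
      _ ≤ c * Nat.card (Subgroup.closure (s : Set R)) := Nat.mul_le_mul_right _ hc2
      _ = _ := by rw [hc, mul_comm]
  have h2 := hmax _ h1
  rw [Finset.card_insert_of_notMem hxs] at h2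
  omega

theorem card_le_pow {R H : Type*} [Group R] [Finite R] [Group H] (f : H →* MulAut R)
    (hf : Function.Injective f) : ∃ k, 2 ^ k ≤ Nat.card R ∧ Nat.card H ≤ Nat.card R ^ k := by
  obtain ⟨s, hs, hs2⟩ := exists_gens R
  refine ⟨s.card, hs2, ?_⟩
  have h1 : Function.Injective fun (h : H) (x : s) => f h x := by
    intro h h' hh
    apply hf
    have h2 : Set.EqOn (f h).toMonoidHom (f h').toMonoidHom (Subgroup.closure (s : Set R)) := by
      apply MonoidHom.eqOn_closure
      intro x hx
      exact congrFun hh ⟨x, hx⟩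
    ext x
    exact h2 (by rw [hs]; trivial : x ∈ (Subgroup.closure (s : Set R) : Set R))
  have h2 := Nat.card_le_card_of_injective _ h1
  rw [Nat.card_fun, Nat.card_eq_fintype_card (α := s), Fintype.card_coe] at h2
  exact h2

theorem six_pow {n : ℕ} (h1 : 32 ≤ n) (h2 : n < 64) : n ^ 6 ≤ 2 ^ (n - 1) := by
  interval_cases n <;> norm_num

theorem num_large {n k : ℕ} (hn : 32 ≤ n) (hk : 2 ^ k ≤ n) : n ^ (k + 1) ≤ 2 ^ (n - 1) := by
  have hkL : k ≤ Nat.log 2 n := Nat.le_log_of_pow_le (by norm_num) hk
  have h1 : n ^ (k + 1) ≤ n ^ (Nat.log 2 n + 1) := Nat.pow_le_pow_right (by omega) (by omega)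
  refine h1.trans ?_
  have h5 : 5 ≤ Nat.log 2 n := Nat.le_log_of_pow_le (by norm_num) (by omega)
  rcases Nat.lt_or_ge n 64 with h | h
  · have h6 : Nat.log 2 n < 6 := Nat.log_lt_of_lt_pow (by omega) (by omega)
    have h7 : Nat.log 2 n = 5 := by omega
    rw [h7]
    exact six_pow hn h
  · have h6 : 6 ≤ Nat.log 2 n := Nat.le_log_of_pow_le (by norm_num) (by omega)
    set L := Nat.log 2 n with hL
    have h7 : n < 2 ^ (L + 1) := Nat.lt_pow_succ_log_self (by norm_num) n
    have h8 : 2 ^ L ≤ n := Nat.pow_log_le_self 2 (by omega)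
    have h9 : ∀ m, 6 ≤ m → (m + 1) * (m + 1) + 1 ≤ 2 ^ m := by
      intro m hm
      induction m, hm using Nat.le_induction with
      | base => norm_num
      | succ m hm ih => rw [pow_succ]; nlinarith
    have h10 := h9 L h6
    calc n ^ (L + 1) ≤ (2 ^ (L + 1)) ^ (L + 1) := Nat.pow_le_pow_left h7.le _
      _ = 2 ^ ((L + 1) * (L + 1)) := by rw [← pow_mul]
      _ ≤ 2 ^ (n - 1) := Nat.pow_le_pow_right (by norm_num) (by omega)

section Prim

variable {G α : Type*} [Group G] [Finite G] [MulAction G α] [Finite α] [FaithfulSMul G α]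

theorem card_eq [IsPretransitive G α] (a : α) :
    Nat.card G = Nat.card α * Nat.card (stabilizer G a) := by
  rw [← (stabilizer G a).card_mul_index, index_stabilizer_of_transitive G a, mul_comm]

theorem le_mul [IsPretransitive G α] (a : α) :
    Nat.card (ConjClasses G) ≤ Nat.card α * Nat.card (ConjClasses (stabilizer G a)) := by
  have h := le_index_mul' (stabilizer G a)
  rwa [index_stabilizer_of_transitive G a] at h

theorem center_bot [IsPreprimitive G α] (a : α) (hH : stabilizer G a ≠ ⊥) :
    Subgroup.center G = ⊥ := by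
  by_contra hne
  apply hH
  rw [eq_bot_iff]
  intro h hh
  have hfix : fixedPoints (Subgroup.center G) α ≠ Set.univ := by
    intro hu
    apply hne
    rw [eq_bot_iff]
    intro z hz
    apply FaithfulSMul.eq_of_smul_eq_smul (α := α)
    intro x
    have hx : x ∈ fixedPoints (Subgroup.center G) α := by rw [hu]; trivial
    rw [one_smul]
    exact hx ⟨z, hz⟩
  have htr : IsPretransitive (Subgroup.center G) α :=
    IsQuasiPreprimitive.isPretransitive_of_normal hfix
  apply FaithfulSMul.eq_of_smul_eq_smul (α := α)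
  intro x
  obtain ⟨z, hz⟩ := htr.exists_smul_eq a x
  rw [one_smul, ← hz]
  have h1 : (z : G) * h = h * z := ((Subgroup.mem_center_iff.1 z.2) h).symm
  have h2 : h • a = a := hh
  calc h • (z • a) = (h * (z : G)) • a := by rw [mul_smul]; rfl
    _ = ((z : G) * h) • a := by rw [h1]
    _ = (z : G) • a := by rw [mul_smul, h2]
    _ = z • a := rfl

/-- a primitive group of order at most `2 ^ n` -/
theorem of_card_le [IsPreprimitive G α] (a : α) (hc : Nat.card G ≤ 2 ^ Nat.card α) :
    Nat.card (ConjClasses G) ≤ 2 ^ (Nat.card α - 1) := by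
  have hα : 0 < Nat.card α := Nat.card_pos_iff.2 ⟨⟨a⟩, inferInstance⟩
  by_cases hH : stabilizer G a = ⊥
  · have h1 := card_eq (G := G) a
    rw [hH, Subgroup.card_bot, mul_one] at h1
    refine card_conjClasses_le_card.trans ?_
    rw [h1]
    have : Nat.card α - 1 < 2 ^ (Nat.card α - 1) := Nat.lt_two_pow_self
    omega
  · have h1 := card_sub_one_mul_le (b := 2) (center_bot a hH) (fun K hK => by
      have h2 : K.index ≠ 0 := Subgroup.index_ne_zero_of_finite
      have h3 : K.index ≠ 1 := fun h => hK (Subgroup.index_eq_one.1 h)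
      omega)
    have h2 : 2 ^ Nat.card α = 2 * 2 ^ (Nat.card α - 1) := by
      rw [← pow_succ', Nat.sub_add_cancel hα]
    have h3 : 0 < 2 ^ (Nat.card α - 1) := pow_pos (by norm_num) _
    omega

end Prim

section Regular

variable {G α : Type*} [Group G] [Finite G] [MulAction G α] [Finite α] [FaithfulSMul G α]
  (R : Subgroup G) [R.Normal] [IsPretransitive R α] (a : α)

/-- the point stabilizer acts on the regular normal subgroup -/
def conjHom : stabilizer G a →* MulAut R := (MulAut.conjNormal).comp (stabilizer G a).subtype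

theorem conjHom_injective : Function.Injective (conjHom R a) := by
  rw [← MonoidHom.ker_eq_bot_iff, eq_bot_iff]
  intro h hh
  rw [Subgroup.mem_bot]
  apply Subtype.ext
  apply FaithfulSMul.eq_of_smul_eq_smul (α := α)
  intro x
  obtain ⟨r, hr⟩ := IsPretransitive.exists_smul_eq (M := R) a x
  have h1 := congrArg (fun f : MulAut R => ((f r : R) : G)) hh
  have h2 : (h : G) * r * (h : G)⁻¹ = r := by
    have h3 : ((MulAut.conjNormal (h : G) r : R) : G) = r := h1
    rwa [MulAut.conjNormal_apply] at h3
  rw [mul_inv_eq_iff_eq_mul] at h2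
  have h4 : (h : G) • a = a := h.2
  have h5 : ((1 : stabilizer G a) : G) • x = x := by
    rw [Subgroup.coe_one, one_smul]
  rw [h5, ← hr]
  calc (h : G) • (r • a) = ((h : G) * (r : G)) • a := by rw [mul_smul]; rfl
    _ = ((r : G) * (h : G)) • a := by rw [h2]
    _ = (r : G) • a := by rw [mul_smul, h4]
    _ = r • a := rfl

theorem card_regular (hreg : stabilizer R a = ⊥) : Nat.card R = Nat.card α := by
  rw [← index_stabilizer_of_transitive R a, hreg, Subgroup.index_bot]

include R in
theorem isPretransitive : IsPretransitive G α := by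
  refine ⟨fun x y => ?_⟩
  obtain ⟨r, hr⟩ := IsPretransitive.exists_smul_eq (M := R) x y
  exact ⟨r, hr⟩

/-- degree at least `32` -/
theorem of_large (hreg : stabilizer R a = ⊥) (h32 : 32 ≤ Nat.card α) :
    Nat.card (ConjClasses G) ≤ 2 ^ (Nat.card α - 1) := by
  have htr : IsPretransitive G α := isPretransitive R
  obtain ⟨k, hk, hk2⟩ := card_le_pow (conjHom R a) (conjHom_injective R a)
  rw [card_regular R a hreg] at hk hk2
  refine card_conjClasses_le_card.trans ?_
  rw [card_eq (G := G) a]
  calc Nat.card α * Nat.card (stabilizer G a) ≤ Nat.card α * Nat.card α ^ k :=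
        Nat.mul_le_mul_left _ hk2
    _ = Nat.card α ^ (k + 1) := (pow_succ' _ _).symm
    _ ≤ _ := num_large h32 hk

end Regular

/-! ### pairs `{v, v⁻¹}` -/

section Pairs

variable {R : Type*} [Group R] [Finite R] (hcomm : ∀ x y : R, x * y = y * x)
  (hodd : Odd (Nat.card R))

/-- the pairs `{v, v⁻¹}` -/
def rel (R : Type*) [Group R] : Setoid R where
  r v w := w = v ∨ w = v⁻¹
  iseqv := by
    refine ⟨fun v => Or.inl rfl, ?_, ?_⟩
    · rintro v w (h | h)
      · exact Or.inl h.symm
      · right
        rw [h, inv_inv]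
    · rintro u v w (h | h) (h' | h')
      · left; rw [h', h]
      · right; rw [h', h]
      · right; rw [h', h]
      · left; rw [h', h, inv_inv]

theorem rel_iff {v w : R} : rel R v w ↔ w = v ∨ w = v⁻¹ := Iff.rfl

include hodd in
theorem sq_ne {v : R} (hv : v ≠ 1) : v ≠ v⁻¹ := by
  intro h
  have h1 : v ^ 2 = 1 := by
    rw [pow_two]
    nth_rewrite 2 [h]
    exact mul_inv_cancel v
  have h2 : orderOf v ∣ 2 := orderOf_dvd_of_pow_eq_one h1
  have h3 : orderOf v ∣ Nat.card R := orderOf_dvd_natCard v
  have h4 : orderOf v ∣ Nat.gcd 2 (Nat.card R) := Nat.dvd_gcd h2 h3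
  have h5 : Nat.gcd 2 (Nat.card R) = 1 := (Nat.coprime_two_left).2 hodd
  rw [h5, Nat.dvd_one, orderOf_eq_one_iff] at h4
  exact hv h4

variable {A : Type*} [Group A] (f : A →* MulAut R) (hf : Function.Injective f)

/-- the action on nontrivial elements -/
@[instance_reducible] def actV : MulAction A {v : R // v ≠ 1} where
  smul a v := ⟨f a v.1, fun h => v.2 (by
    have h1 : f a v.1 = f a 1 := by rw [h, map_one]
    exact (f a).injective h1)⟩
  one_smul v := by
    apply Subtype.ext
    show f 1 v.1 = v.1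
    rw [map_one, MulAut.one_apply]
  mul_smul a b v := by
    apply Subtype.ext
    show f (a * b) v.1 = f a (f b v.1)
    rw [map_mul, MulAut.mul_apply]

include hcomm hodd hf in
/-- automorphism groups of abelian groups of odd order -/
theorem pairs (hR : 3 ≤ Nat.card R) (ih : ∀ m, 2 * m < Nat.card R → Bd 2 m) :
    ∃ m, 2 * m < Nat.card R ∧ Nat.card (ConjClasses A) ≤ 2 ^ m := by
  classical
  have : Fintype R := Fintype.ofFinite R
  have hfinA : Finite (MulAut R) := inferInstance
  have : Finite A := Finite.of_injective f hf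
  let : MulAction A {v : R // v ≠ 1} := actV f
  have hsm : ∀ (a : A) (v : {v : R // v ≠ 1}), ((a • v : {v : R // v ≠ 1}) : R) = f a v.1 :=
    fun _ _ => rfl
  let r : Setoid {v : R // v ≠ 1} := (rel R).comap Subtype.val
  have hr : ∀ (a : A) (x y : {v : R // v ≠ 1}), r x y → r (a • x) (a • y) := by
    intro a x y hxy
    have h1 : (y : R) = x ∨ (y : R) = (x : R)⁻¹ := hxy
    show ((a • y : {v : R // v ≠ 1}) : R) = (a • x : {v : R // v ≠ 1}) ∨
      ((a • y : {v : R // v ≠ 1}) : R) = ((a • x : {v : R // v ≠ 1}) : R)⁻¹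
    rw [hsm, hsm]
    rcases h1 with h1 | h1
    · left; rw [h1]
    · right; rw [h1, map_inv]
  have hfq : Fintype (Quotient r) := Fintype.ofFinite _
  -- the number of pairs
  have hsum : ∑ q : Quotient r, Fintype.card {x // Quotient.mk r x = q} =
      Fintype.card {v : R // v ≠ 1} := by
    rw [← Fintype.card_sigma]
    exact Fintype.card_congr (Equiv.sigmaFiberEquiv (Quotient.mk r))
  have hfib : ∀ q : Quotient r, 2 ≤ Fintype.card {x // Quotient.mk r x = q} := by
    intro q
    obtain ⟨x, hx⟩ := Quotient.exists_rep q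
    have h1 : (x : R)⁻¹ ≠ 1 := fun h => x.2 (inv_eq_one.1 h)
    have h2 : Quotient.mk r ⟨(x : R)⁻¹, h1⟩ = q := by
      rw [← hx]
      apply Quotient.sound
      show (x : R) = (x : R)⁻¹ ∨ (x : R) = ((x : R)⁻¹)⁻¹
      right
      rw [inv_inv]
    have h3 : 1 < Fintype.card {x // Quotient.mk r x = q} := by
      rw [Fintype.one_lt_card_iff]
      refine ⟨⟨x, hx⟩, ⟨⟨(x : R)⁻¹, h1⟩, h2⟩, ?_⟩
      intro h
      have h4 := congrArg (fun y : {x // Quotient.mk r x = q} => ((y : {v : R // v ≠ 1}) : R)) h
      exact sq_ne hodd x.2 h4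
    exact h3
  have hV : Fintype.card {v : R // v ≠ 1} + 1 = Nat.card R := by
    rw [Fintype.card_subtype_compl, Nat.card_eq_fintype_card, Fintype.card_subtype_eq]
    have : 0 < Fintype.card R := Fintype.card_pos
    omega
  have hm : 2 * Fintype.card (Quotient r) < Nat.card R := by
    have h1 : Fintype.card (Quotient r) * 2 ≤
        ∑ q : Quotient r, Fintype.card {x // Quotient.mk r x = q} := by
      rw [← smul_eq_mul, ← Finset.card_univ]
      exact Finset.card_nsmul_le_sum _ _ _ fun q _ => hfib q
    omega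
  have hpos : 0 < Fintype.card (Quotient r) := by
    have h1 : Nonempty {v : R // v ≠ 1} := Fintype.card_pos_iff.1 (by omega)
    exact Fintype.card_pos_iff.2 (h1.map (Quotient.mk r))
  refine ⟨Fintype.card (Quotient r), hm, ?_⟩
  have hrange := (ih _ hm).subgroup rfl (quotHom r hr).range
  -- the kernel
  have hk : ∀ a ∈ (quotHom r hr).ker, ∀ v : R, f a v = v ∨ f a v = v⁻¹ := by
    intro a ha v
    by_cases hv : v = 1
    · left
      rw [hv, map_one]
    · have h1 := congrArg (fun σ : Equiv.Perm (Quotient r) => σ (Quotient.mk r ⟨v, hv⟩)) ha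
      have h2 : Quotient.mk r (a • (⟨v, hv⟩ : {v : R // v ≠ 1})) = Quotient.mk r ⟨v, hv⟩ := h1
      have h3 : v = f a v ∨ v = (f a v)⁻¹ := Quotient.exact h2
      rcases h3 with h3 | h3
      · left; exact h3.symm
      · right
        nth_rewrite 2 [h3]
        rw [inv_inv]
  have hinv : ∀ a ∈ (quotHom r hr).ker, a ≠ 1 → ∀ v : R, f a v = v⁻¹ := by
    intro a ha ha1 v
    obtain ⟨w, hw⟩ : ∃ w, f a w ≠ w := by
      by_contra hcon
      push Not at hcon
      apply ha1
      apply hf
      ext x
      rw [hcon x, map_one, MulAut.one_apply]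
    have hw1 : w ≠ 1 := by
      rintro rfl
      exact hw (map_one _)
    have hw2 : f a w = w⁻¹ := (hk a ha w).resolve_left hw
    rcases hk a ha v with h | h
    · by_cases hv : v = 1
      · rw [hv, map_one, inv_one]
      · exfalso
        have h1 : f a (v * w) = v * w⁻¹ := by rw [map_mul, h, hw2]
        rcases hk a ha (v * w) with h2 | h2
        · rw [h1] at h2
          exact sq_ne hodd hw1 (mul_left_cancel h2).symm
        · rw [h1, mul_inv_rev, hcomm w⁻¹] at h2
          exact sq_ne hodd hv (mul_right_cancel h2)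
    · exact h
  have hker : Nat.card (quotHom r hr).ker ≤ 2 := by
    by_contra hcon
    push Not at hcon
    have hfk : Fintype (quotHom r hr).ker := Fintype.ofFinite _
    have h1 : 2 < Fintype.card (quotHom r hr).ker := by
      rwa [← Nat.card_eq_fintype_card]
    rw [Fintype.two_lt_card_iff] at h1
    obtain ⟨a, b, c, hab, hac, hbc⟩ := h1
    have key : ∀ x y : (quotHom r hr).ker, x ≠ 1 → y ≠ 1 → x = y := by
      intro x y hx hy
      apply Subtype.ext
      apply hf
      ext v
      rw [hinv x.1 x.2 (fun h => hx (Subtype.ext h)) v,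
        hinv y.1 y.2 (fun h => hy (Subtype.ext h)) v]
    by_cases ha : a = 1
    · exact hbc (key b c (fun h => hab (ha.trans h.symm)) (fun h => hac (ha.trans h.symm)))
    · by_cases hb : b = 1
      · exact hac (key a c ha (fun h => hbc (hb.trans h.symm)))
      · exact hab (key a b ha hb)
  calc Nat.card (ConjClasses A) ≤ _ := le_ker_mul_range (quotHom r hr)
    _ ≤ 2 * 2 ^ (Fintype.card (Quotient r) - 1) :=
        Nat.mul_le_mul (card_conjClasses_le_card.trans hker) hrange
    _ = 2 ^ Fintype.card (Quotient r) := by rw [← pow_succ', Nat.sub_add_cancel hpos]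

end Pairs

theorem num_odd {n m : ℕ} (h7 : 7 ≤ n) (hm : 2 * m < n) : n * 2 ^ m ≤ 2 ^ (n - 1) := by
  have h1 : ∀ k, 3 ≤ k → 2 * k + 2 ≤ 2 ^ k := by
    intro k hk
    induction k, hk using Nat.le_induction with
    | base => norm_num
    | succ k hk ih => rw [pow_succ]; omega
  have h2 : n ≤ 2 ^ (n - 1 - m) := by
    have h3 := h1 ((n - 1) / 2) (by omega)
    calc n ≤ 2 * ((n - 1) / 2) + 2 := by omega
      _ ≤ 2 ^ ((n - 1) / 2) := h3
      _ ≤ 2 ^ (n - 1 - m) := Nat.pow_le_pow_right (by norm_num) (by omega)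
  calc n * 2 ^ m ≤ 2 ^ (n - 1 - m) * 2 ^ m := Nat.mul_le_mul_right _ h2
    _ = 2 ^ (n - 1) := by
      rw [← pow_add]
      congr 1
      omega

section Odd

variable {G α : Type*} [Group G] [Finite G] [MulAction G α] [Finite α] [FaithfulSMul G α]
  (R : Subgroup G) [R.Normal] [IsPretransitive R α] (a : α)

/-- a regular abelian normal subgroup of odd order `≥ 7` -/
theorem of_odd (hreg : stabilizer R a = ⊥) (hcomm : ∀ x y : R, x * y = y * x)
    (hodd : Odd (Nat.card α)) (h7 : 7 ≤ Nat.card α) (ih : ∀ m, m < Nat.card α → Bd 2 m) :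
    Nat.card (ConjClasses G) ≤ 2 ^ (Nat.card α - 1) := by
  have htr : IsPretransitive G α := isPretransitive R
  have hc := card_regular R a hreg
  obtain ⟨m, hm, hk⟩ := pairs hcomm (by rwa [hc]) (conjHom R a) (conjHom_injective R a)
    (by omega) (fun m hm => ih m (by omega))
  rw [hc] at hm
  exact (le_mul (G := G) a).trans ((Nat.mul_le_mul_left _ hk).trans (num_odd h7 hm))

end Odd

end Cfsg.Agent.H539.CaseA
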