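import Mathlib.Algebra.Group.ConjFinite
import Mathlib.Data.Nat.Fib.Basic
import Mathlib.GroupTheory.SpecificGroups.Alternating.Centralizer
import Mathlib.Tactic

set_option autoImplicit false

/-! # Counting classes of symmetric and alternating groups

* `card_conjClasses_perm_le_fib`: `k(S_n) ≤ fib (n+1)`.
* `fib_le_two_pow`: `fib (n+1) ≤ 2 ^ (n-2)` for `n ≥ 5`.
* `card_conjClasses_alternating_lt`: `k(A_n) < k(S_n)` for `n ≥ 5`.
-/

namespace Cfsg.Agent.H539.PartCount

theorem exists_finset (n : ℕ) : ∃ F : Finset (Multiset ℕ), F.card ≤ Nat.fib (n + 1) ∧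
    ∀ s : Multiset ℕ, (∀ x ∈ s, 2 ≤ x) → s.sum ≤ n → s ∈ F := by
  induction n using Nat.twoStepInduction with
  | zero =>
    refine ⟨{0}, by simp, ?_⟩
    intro s hs hsum
    rw [Finset.mem_singleton]
    refine Multiset.eq_zero_of_forall_notMem ?_
    intro a ha
    have h1 := Multiset.single_le_sum (fun x _ => Nat.zero_le x) a ha
    have h2 := hs a ha
    omega
  | one =>
    refine ⟨{0}, by simp, ?_⟩
    intro s hs hsum
    rw [Finset.mem_singleton]
    refine Multiset.eq_zero_of_forall_notMem ?_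
    intro a ha
    have h1 := Multiset.single_le_sum (fun x _ => Nat.zero_le x) a ha
    have h2 := hs a ha
    omega
  | more n ih0 ih1 =>
    classical
    obtain ⟨F0, hF0, hm0⟩ := ih0
    obtain ⟨F1, hF1, hm1⟩ := ih1
    refine ⟨F1 ∪ F0.image (fun t => (n + 2 - t.sum) ::ₘ t), ?_, ?_⟩
    · calc (F1 ∪ F0.image (fun t => (n + 2 - t.sum) ::ₘ t)).card
          ≤ F1.card + (F0.image (fun t => (n + 2 - t.sum) ::ₘ t)).card := Finset.card_union_le _ _
        _ ≤ Nat.fib (n + 1 + 1) + Nat.fib (n + 1) :=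
            Nat.add_le_add hF1 (Finset.card_image_le.trans hF0)
        _ = Nat.fib (n + 2 + 1) := by
            have h := Nat.fib_add_two (n := n + 1)
            have h' : Nat.fib (n + 2 + 1) = Nat.fib (n + 1) + Nat.fib (n + 1 + 1) := h
            omega
    · intro s hs hsum
      rw [Finset.mem_union]
      by_cases h : s.sum ≤ n + 1
      · exact Or.inl (hm1 s hs h)
      · right
        have h2 : s.sum = n + 2 := by omega
        have hne : s ≠ 0 := by
          rintro rfl
          simp at h2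
        obtain ⟨a, ha⟩ := Multiset.exists_mem_of_ne_zero hne
        obtain ⟨t, rfl⟩ := Multiset.exists_cons_of_mem ha
        rw [Finset.mem_image]
        rw [Multiset.sum_cons] at h2
        have h3 := hs a (Multiset.mem_cons_self a t)
        refine ⟨t, hm0 t (fun x hx => hs x (Multiset.mem_cons_of_mem hx)) (by omega), ?_⟩
        congr 1
        omega

theorem card_conjClasses_perm_le_fib (α : Type*) [Fintype α] [DecidableEq α] :
    Nat.card (ConjClasses (Equiv.Perm α)) ≤ Nat.fib (Fintype.card α + 1) := by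
  obtain ⟨F, hF, hm⟩ := exists_finset (Fintype.card α)
  refine le_trans ?_ hF
  let f : ConjClasses (Equiv.Perm α) → F := fun c =>
    ⟨(Quotient.out c : Equiv.Perm α).cycleType, hm _
      (fun x hx => Equiv.Perm.two_le_of_mem_cycleType hx) (Equiv.Perm.sum_cycleType_le _)⟩
  have hf : Function.Injective f := by
    intro c d h
    have h1 : (Quotient.out c : Equiv.Perm α).cycleType = (Quotient.out d : Equiv.Perm α).cycleType :=
      congrArg Subtype.val h
    rw [← Equiv.Perm.isConj_iff_cycleType_eq] at h1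
    rw [← Quotient.out_eq c, ← Quotient.out_eq d]
    exact ConjClasses.mk_eq_mk_iff_isConj.2 h1
  have := Nat.card_le_card_of_injective f hf
  simpa using this

theorem fib_le_two_pow (n : ℕ) : Nat.fib (n + 6) ≤ 2 ^ (n + 3) := by
  induction n using Nat.twoStepInduction with
  | zero => decide
  | one => decide
  | more n ih0 ih1 =>
    rw [show n + 2 + 6 = (n + 6) + 2 by ring, Nat.fib_add_two]
    have h1 : Nat.fib (n + 6 + 1) ≤ 2 ^ (n + 1 + 3) := ih1
    have h2 : 2 ^ (n + 2 + 3) = 2 ^ (n + 1 + 3) + 2 ^ (n + 1 + 3) := by ring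
    have h3 : 2 ^ (n + 3) ≤ 2 ^ (n + 1 + 3) := Nat.pow_le_pow_right (by norm_num) (by omega)
    omega


/-- two even permutations conjugate in the symmetric group by an odd permutation to the same
third one are conjugate in the alternating group. -/
theorem isConj_of_not {α : Type*} [Fintype α] [DecidableEq α] (g h k : alternatingGroup α)
    (h1 : IsConj (g : Equiv.Perm α) h) (h2 : IsConj (g : Equiv.Perm α) k)
    (h3 : ¬ IsConj g h) (h4 : ¬ IsConj g k) : IsConj h k := by
  obtain ⟨a, ha⟩ := isConj_iff.1 h1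
  obtain ⟨b, hb⟩ := isConj_iff.1 h2
  have ha' : Equiv.Perm.sign a = -1 := by
    rcases Int.units_eq_one_or (Equiv.Perm.sign a) with h | h
    · exfalso
      apply h3
      exact isConj_iff.2 ⟨⟨a, Equiv.Perm.mem_alternatingGroup.2 h⟩, Subtype.ext ha⟩
    · exact h
  have hb' : Equiv.Perm.sign b = -1 := by
    rcases Int.units_eq_one_or (Equiv.Perm.sign b) with h | h
    · exfalso
      apply h4
      exact isConj_iff.2 ⟨⟨b, Equiv.Perm.mem_alternatingGroup.2 h⟩, Subtype.ext hb⟩
    · exact h
  refine isConj_iff.2 ⟨⟨b * a⁻¹, Equiv.Perm.mem_alternatingGroup.2 ?_⟩, Subtype.ext ?_⟩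
  · rw [Equiv.Perm.sign_mul, Equiv.Perm.sign_inv, ha', hb']; decide
  · show b * a⁻¹ * (h : Equiv.Perm α) * (b * a⁻¹)⁻¹ = k
    rw [← hb, ← ha]
    simp [mul_assoc]

/-- if an element of the alternating group is centralised by an odd permutation then its
class does not split. -/
theorem isConj_of_isConj_of_not_le {α : Type*} [Fintype α] [DecidableEq α]
    (g h : alternatingGroup α) (h1 : IsConj (g : Equiv.Perm α) h)
    (hc : ¬ Subgroup.centralizer {(g : Equiv.Perm α)} ≤ alternatingGroup α) : IsConj g h := by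
  by_contra h3
  obtain ⟨a, ha⟩ := isConj_iff.1 h1
  have ha' : Equiv.Perm.sign a = -1 := by
    rcases Int.units_eq_one_or (Equiv.Perm.sign a) with h | h
    · exfalso
      apply h3
      exact isConj_iff.2 ⟨⟨a, Equiv.Perm.mem_alternatingGroup.2 h⟩, Subtype.ext ha⟩
    · exact h
  obtain ⟨c, hc1, hc2⟩ := SetLike.not_le_iff_exists.1 hc
  rw [Subgroup.mem_centralizer_singleton_iff] at hc1
  have hc' : Equiv.Perm.sign c = -1 := by
    rcases Int.units_eq_one_or (Equiv.Perm.sign c) with h | h
    · exact absurd (Equiv.Perm.mem_alternatingGroup.2 h) hc2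
    · exact h
  apply h3
  refine isConj_iff.2 ⟨⟨a * c, Equiv.Perm.mem_alternatingGroup.2 ?_⟩, Subtype.ext ?_⟩
  · rw [Equiv.Perm.sign_mul, ha', hc']; decide
  · show a * c * (g : Equiv.Perm α) * (a * c)⁻¹ = h
    rw [mul_assoc a c, hc1, ← ha]
    simp [mul_assoc]

/-- for a non-zero multiset of odd numbers `≥ 3`, an associated multiset with exactly one even
member. -/
noncomputable def tw (s : Multiset ℕ) (h : s ≠ 0) : Multiset ℕ :=
  ((Multiset.exists_mem_of_ne_zero h).choose - 1) ::ₘ
    s.erase (Multiset.exists_mem_of_ne_zero h).choose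

theorem tw_spec (s : Multiset ℕ) (h : s ≠ 0) :
    ∃ (M : ℕ) (t : Multiset ℕ), s = M ::ₘ t ∧ tw s h = (M - 1) ::ₘ t :=
  ⟨_, _, (Multiset.cons_erase (Multiset.exists_mem_of_ne_zero h).choose_spec).symm, rfl⟩

theorem filter_cons_odd (M : ℕ) (t : Multiset ℕ) (hM : Odd M) (ht : ∀ x ∈ t, Odd x) :
    ((M - 1) ::ₘ t).filter (fun x => Odd x) = t ∧
    ((M - 1) ::ₘ t).filter (fun x => Even x) = {M - 1} := by
  have hM1 : Even (M - 1) := by
    obtain ⟨k, rfl⟩ := hM
    exact ⟨k, by omega⟩
  constructor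
  · rw [Multiset.filter_cons_of_neg, Multiset.filter_eq_self.2 ht]
    rwa [Nat.not_odd_iff_even]
  · rw [Multiset.filter_cons_of_pos _ hM1, Multiset.filter_eq_nil.2]
    · rfl
    · intro x hx
      rw [Nat.not_even_iff_odd]
      exact ht x hx

theorem tw_injective (s s' : Multiset ℕ) (h : s ≠ 0) (h' : s' ≠ 0) (ho : ∀ x ∈ s, Odd x)
    (ho' : ∀ x ∈ s', Odd x) (he : tw s h = tw s' h') : s = s' := by
  obtain ⟨M, t, rfl, h2⟩ := tw_spec s h
  obtain ⟨M', t', rfl, h2'⟩ := tw_spec s' h'
  rw [h2, h2'] at he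
  have hM := ho M (Multiset.mem_cons_self _ _)
  have hM' := ho' M' (Multiset.mem_cons_self _ _)
  obtain ⟨h3, h4⟩ := filter_cons_odd M t hM (fun x hx => ho x (Multiset.mem_cons_of_mem hx))
  obtain ⟨h3', h4'⟩ := filter_cons_odd M' t' hM' (fun x hx => ho' x (Multiset.mem_cons_of_mem hx))
  rw [he, h3'] at h3
  rw [he, h4', Multiset.singleton_inj] at h4
  have h5 : M = M' := by
    obtain ⟨k, rfl⟩ := hM
    obtain ⟨k', rfl⟩ := hM'
    omega
  rw [h3, h5]

theorem neg_one_pow_tw (s : Multiset ℕ) (h : s ≠ 0) (ho : ∀ x ∈ s, Odd x) :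
    (-1 : ℤˣ) ^ ((tw s h).sum + Multiset.card (tw s h)) = -1 := by
  obtain ⟨M, t, rfl, h2⟩ := tw_spec s h
  rw [h2]
  have hM := ho M (Multiset.mem_cons_self _ _)
  have ht : Even (t.sum + Multiset.card t) := by
    have ht : ∀ x ∈ t, Odd x := fun x hx => ho x (Multiset.mem_cons_of_mem hx)
    clear h2 ho h
    induction t using Multiset.induction_on with
    | empty => simp
    | cons a t ih =>
      rw [Multiset.sum_cons, Multiset.card_cons]
      have h1 := ih (fun x hx => ht x (Multiset.mem_cons_of_mem hx))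
      have h2 := ht a (Multiset.mem_cons_self _ _)
      have h3 : a + t.sum + (Multiset.card t + 1) = (t.sum + Multiset.card t) + (a + 1) := by ring
      rw [h3]
      exact h1.add h2.add_one
  rw [Multiset.sum_cons, Multiset.card_cons]
  have h3 : M - 1 + t.sum + (Multiset.card t + 1) = (t.sum + Multiset.card t) + ((M - 1) + 1) := by
    ring
  rw [h3, pow_add, ht.neg_one_pow, one_mul, Nat.sub_add_cancel hM.pos, hM.neg_one_pow]

/-- `k(A_n) < k(S_n)` for `n ≥ 5`. -/
theorem card_conjClasses_alternating_lt {α : Type*} [Fintype α] [DecidableEq α]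
    (hn : 5 ≤ Fintype.card α) :
    Nat.card (ConjClasses (alternatingGroup α)) < Nat.card (ConjClasses (Equiv.Perm α)) := by
  classical
  -- the natural map on classes
  let φ : ConjClasses (alternatingGroup α) → ConjClasses (Equiv.Perm α) :=
    ConjClasses.map (alternatingGroup α).subtype
  -- chosen class over every class of the symmetric group
  let r : ConjClasses (Equiv.Perm α) → ConjClasses (alternatingGroup α) :=
    Function.invFun φ
  have hr : ∀ c, φ (r (φ c)) = φ c := fun c => Function.invFun_eq ⟨c, rfl⟩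
  -- the split classes
  have hsplit : ∀ g : alternatingGroup α, ConjClasses.mk g ≠ r (φ (ConjClasses.mk g)) →
      (∀ c ∈ (g : Equiv.Perm α).cycleType, Odd c) ∧
        Fintype.card α ≤ (g : Equiv.Perm α).cycleType.sum + 1 ∧
          ∀ i, (g : Equiv.Perm α).cycleType.count i ≤ 1 := by
    intro g hg
    rw [← Equiv.Perm.centralizer_le_alternating_iff]
    by_contra hcon
    apply hg
    obtain ⟨h, hh⟩ := ConjClasses.exists_rep (r (φ (ConjClasses.mk g)))
    rw [← hh]
    refine ConjClasses.mk_eq_mk_iff_isConj.2 (isConj_of_isConj_of_not_le g h ?_ hcon)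
    have h1 := hr (ConjClasses.mk g)
    rw [← hh] at h1
    exact (ConjClasses.mk_eq_mk_iff_isConj.1 h1).symm
  have hne : ∀ g : alternatingGroup α, ConjClasses.mk g ≠ r (φ (ConjClasses.mk g)) →
      (g : Equiv.Perm α).cycleType ≠ 0 := by
    intro g hg h0
    have := (hsplit g hg).2.1
    rw [h0] at this
    simp at this
    omega
  -- existence of the twisted class
  have hex : ∀ g : alternatingGroup α, ConjClasses.mk g ≠ r (φ (ConjClasses.mk g)) →
      ∃ τ : Equiv.Perm α, ∃ h : (g : Equiv.Perm α).cycleType ≠ 0,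
        τ.cycleType = tw (g : Equiv.Perm α).cycleType h := by
    intro g hg
    obtain ⟨ho, hcard, -⟩ := hsplit g hg
    have h0 := hne g hg
    suffices h : ∃ τ : Equiv.Perm α, τ.cycleType = tw (g : Equiv.Perm α).cycleType h0 by
      obtain ⟨τ, hτ⟩ := h
      exact ⟨τ, h0, hτ⟩
    rw [Equiv.Perm.exists_with_cycleType_iff]
    obtain ⟨M, t, h1, h2⟩ := tw_spec _ h0
    rw [h2]
    have hM : 2 ≤ M := Equiv.Perm.two_le_of_mem_cycleType (σ := (g : Equiv.Perm α)) (by
      rw [h1]; exact Multiset.mem_cons_self _ _)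
    have hM' : Odd M := ho M (by rw [h1]; exact Multiset.mem_cons_self _ _)
    have hM3 : 3 ≤ M := by
      obtain ⟨k, rfl⟩ := hM'
      omega
    constructor
    · have h3 := Equiv.Perm.sum_cycleType_le (g : Equiv.Perm α)
      rw [h1, Multiset.sum_cons] at h3
      rw [Multiset.sum_cons]
      omega
    · intro a ha
      rw [Multiset.mem_cons] at ha
      rcases ha with rfl | ha
      · omega
      · exact Equiv.Perm.two_le_of_mem_cycleType (σ := (g : Equiv.Perm α)) (by
          rw [h1]; exact Multiset.mem_cons_of_mem ha)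
  -- the same for classes
  have hex' : ∀ c : ConjClasses (alternatingGroup α), c ≠ r (φ c) →
      ∃ d : ConjClasses (Equiv.Perm α), ∃ (g : alternatingGroup α) (τ : Equiv.Perm α)
        (h : (g : Equiv.Perm α).cycleType ≠ 0), ConjClasses.mk g = c ∧ ConjClasses.mk τ = d ∧
        τ.cycleType = tw (g : Equiv.Perm α).cycleType h := by
    intro c hc
    obtain ⟨g, rfl⟩ := ConjClasses.exists_rep c
    obtain ⟨τ, h, hτ⟩ := hex g hc
    exact ⟨_, g, τ, h, rfl, rfl, hτ⟩
  let F : ConjClasses (alternatingGroup α) → ConjClasses (Equiv.Perm α) := fun c =>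
    if h : c = r (φ c) then φ c else (hex' c h).choose
  have hF1 : ∀ c, c = r (φ c) → F c = φ c := fun c h => dif_pos h
  have hF2 : ∀ c, c ≠ r (φ c) → ∃ (g : alternatingGroup α) (τ : Equiv.Perm α)
        (h : (g : Equiv.Perm α).cycleType ≠ 0), ConjClasses.mk g = c ∧ ConjClasses.mk τ = F c ∧
        τ.cycleType = tw (g : Equiv.Perm α).cycleType h := by
    intro c h
    have h1 : F c = (hex' c h).choose := dif_neg h
    rw [h1]
    exact (hex' c h).choose_spec
  have hsign : ∀ c, c ≠ r (φ c) → ∀ c', F c ≠ φ c' := by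
    intro c hc c' he
    obtain ⟨g, τ, h, h1, h2, h3⟩ := hF2 c hc
    obtain ⟨g', hg'⟩ := ConjClasses.exists_rep c'
    rw [← hg', ← h2] at he
    have h4 : IsConj τ (g' : Equiv.Perm α) := ConjClasses.mk_eq_mk_iff_isConj.1 he
    rw [Equiv.Perm.isConj_iff_cycleType_eq] at h4
    subst h1
    obtain ⟨ho, -, -⟩ := hsplit g hc
    have h5 := neg_one_pow_tw _ h ho
    rw [← h3, h4, ← Equiv.Perm.sign_of_cycleType, Equiv.Perm.mem_alternatingGroup.1 g'.2] at h5
    exact absurd h5 (by decide)
  have hinj : Function.Injective F := by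
    intro c c' he
    by_cases hc : c = r (φ c) <;> by_cases hc' : c' = r (φ c')
    · rw [hF1 c hc, hF1 c' hc'] at he
      rw [hc, hc', he]
    · rw [hF1 c hc] at he
      exact absurd he.symm (hsign c' hc' c)
    · rw [hF1 c' hc'] at he
      exact absurd he (hsign c hc c')
    · obtain ⟨g, τ, h, h1, h2, h3⟩ := hF2 c hc
      obtain ⟨g', τ', h', h1', h2', h3'⟩ := hF2 c' hc'
      subst h1
      subst h1'
      obtain ⟨ho, -, -⟩ := hsplit g hc
      obtain ⟨ho', -, -⟩ := hsplit g' hc'
      rw [← h2, ← h2'] at he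
      have h4 : IsConj τ τ' := ConjClasses.mk_eq_mk_iff_isConj.1 he
      rw [Equiv.Perm.isConj_iff_cycleType_eq, h3, h3'] at h4
      have h5 := tw_injective _ _ h h' ho ho' h4
      rw [← Equiv.Perm.isConj_iff_cycleType_eq] at h5
      have h6 : φ (ConjClasses.mk g) = φ (ConjClasses.mk g') :=
        ConjClasses.mk_eq_mk_iff_isConj.2 h5
      obtain ⟨k, hk⟩ := ConjClasses.exists_rep (r (φ (ConjClasses.mk g)))
      have h7 := hr (ConjClasses.mk g)
      rw [← hk] at h7
      have h8 : IsConj (k : Equiv.Perm α) g := ConjClasses.mk_eq_mk_iff_isConj.1 h7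
      refine ConjClasses.mk_eq_mk_iff_isConj.2
        (isConj_of_not k g g' h8 (h8.trans h5) ?_ ?_)
      · intro h9
        apply hc
        rw [← hk]
        exact ConjClasses.mk_eq_mk_iff_isConj.2 h9.symm
      · intro h9
        apply hc'
        rw [← h6, ← hk]
        exact ConjClasses.mk_eq_mk_iff_isConj.2 h9.symm
  -- the class of a transposition is missed
  obtain ⟨τ0, hτ0⟩ : ∃ τ0 : Equiv.Perm α, τ0.cycleType = {2} := by
    rw [Equiv.Perm.exists_with_cycleType_iff]
    simp
    omega
  have hmiss : ConjClasses.mk τ0 ∉ Set.range F := by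
    rintro ⟨c, hc⟩
    by_cases h : c = r (φ c)
    · rw [hF1 c h] at hc
      obtain ⟨g, hg⟩ := ConjClasses.exists_rep c
      rw [← hg] at hc
      have h4 : IsConj (g : Equiv.Perm α) τ0 := ConjClasses.mk_eq_mk_iff_isConj.1 hc
      rw [Equiv.Perm.isConj_iff_cycleType_eq, hτ0] at h4
      have h5 := Equiv.Perm.sign_of_cycleType (g : Equiv.Perm α)
      rw [h4, Equiv.Perm.mem_alternatingGroup.1 g.2] at h5
      exact absurd h5 (by decide)
    · obtain ⟨g, τ, h0, h1, h2, h3⟩ := hF2 c h
      rw [← h2] at hc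
      have h4 : IsConj τ τ0 := ConjClasses.mk_eq_mk_iff_isConj.1 hc
      rw [Equiv.Perm.isConj_iff_cycleType_eq, hτ0, h3] at h4
      subst h1
      obtain ⟨ho, hcard, -⟩ := hsplit g h
      obtain ⟨M, t, h5, h6⟩ := tw_spec _ h0
      rw [h6] at h4
      have h7 : t = 0 := by
        have := congrArg Multiset.card h4
        simpa using this
      subst h7
      have h8 : M - 1 = 2 := by
        have := congrArg Multiset.sum h4
        simpa using this
      rw [h5] at hcard
      simp at hcard
      omega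
  have : Fintype (ConjClasses (alternatingGroup α)) := Fintype.ofFinite _
  have : Fintype (ConjClasses (Equiv.Perm α)) := Fintype.ofFinite _
  have h1 : Fintype.card (ConjClasses (alternatingGroup α)) <
      Fintype.card (ConjClasses (Equiv.Perm α)) :=
    Fintype.card_lt_of_injective_of_notMem F hinj hmiss
  rwa [Nat.card_eq_fintype_card, Nat.card_eq_fintype_card]

end Cfsg.Agent.H539.PartCount
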