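import Cfsg.Agent.H539.PrimRed
import Cfsg.Agent.H539.IdxOK
import Cfsg.Agent.H941.PiSimple

set_option autoImplicit false
set_option linter.unusedSectionVars false

/-!
# Groups with a normal subgroup `T ^ m`, `T` non-abelian simple, with trivial centralizer

`card_conjClasses_le`: there is a homomorphism `π : G →* Perm (Fin m)` with
`k(G) ≤ (|Out T| k(T)) ^ m * k(π(G))`.
-/

open MulAction

namespace Cfsg.Agent.H539.SocBound

open Cfsg.Agent.H540.ClassNum Cfsg.Agent.H539.BlockRed Cfsg.Agent.H539.PrimRed

section Single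

variable {T : Type*} [Group T] [IsSimpleGroup T] {m : ℕ}

omit [IsSimpleGroup T] in
theorem single_injective (i : Fin m) :
    Function.Injective (MonoidHom.mulSingle (fun _ : Fin m => T) i) := by
  intro s t h
  have h1 := congrFun h i
  simpa using h1

theorem exists_single [Finite T] (hT : ¬ IsMulCommutative T) (θ : (Fin m → T) ≃* (Fin m → T))
    (i : Fin m) :
    ∃ j, (MonoidHom.mulSingle (fun _ : Fin m => T) i).range.map θ.toMonoidHom =
      (MonoidHom.mulSingle (fun _ : Fin m => T) j).range := by
  classical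
  set N1 := (MonoidHom.mulSingle (fun _ : Fin m => T) i).range.map θ.toMonoidHom with hN1
  have hn0 : (MonoidHom.mulSingle (fun _ : Fin m => T) i).range.Normal := by
    constructor
    rintro _ ⟨t, rfl⟩ g
    refine ⟨g i * t * (g i)⁻¹, ?_⟩
    ext j
    by_cases hj : j = i
    · subst hj
      simp
    · simp [Pi.mulSingle_eq_of_ne hj]
  have hn1 : N1.Normal := Subgroup.Normal.map hn0 _ θ.surjective
  obtain ⟨t, ht⟩ := exists_ne (1 : T)
  have h1 : θ (Pi.mulSingle i t) ≠ 1 := by
    intro h
    apply ht
    rw [← map_one θ, θ.injective.eq_iff] at h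
    have h2 := congrFun h i
    simpa using h2
  obtain ⟨j, hj⟩ : ∃ j, θ (Pi.mulSingle i t) j ≠ 1 := by
    by_contra hcon
    push Not at hcon
    exact h1 (funext hcon)
  have h2 : θ (Pi.mulSingle i t) ∈ N1 := ⟨_, ⟨t, rfl⟩, rfl⟩
  have h3 := H941.PiSimple.singleSub_eq_top hT h2 hj
  refine ⟨j, ?_⟩
  have h4 : (MonoidHom.mulSingle (fun _ : Fin m => T) j).range ≤ N1 := by
    rintro _ ⟨s, rfl⟩
    have : s ∈ H941.PiSimple.singleSub N1 j := by rw [h3]; trivial
    exact H941.PiSimple.mem_singleSub.1 this
  symm
  apply Subgroup.eq_of_le_of_card_ge h4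
  rw [hN1]
  have h5 : Nat.card ((MonoidHom.mulSingle (fun _ : Fin m => T) i).range.map θ.toMonoidHom) =
      Nat.card (MonoidHom.mulSingle (fun _ : Fin m => T) i).range :=
    (Nat.card_congr (Subgroup.equivMapOfInjective _ θ.toMonoidHom θ.injective).toEquiv).symm
  rw [h5]
  have h6 : ∀ i : Fin m, Nat.card (MonoidHom.mulSingle (fun _ : Fin m => T) i).range = Nat.card T :=
    fun i => (Nat.card_congr (MonoidHom.ofInjective (f := MonoidHom.mulSingle (fun _ : Fin m => T) i)
      (single_injective i)).toEquiv).symm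
  rw [h6, h6]

end Single

section Main

variable {G : Type*} [Group G] (N : Subgroup G) [N.Normal] {T : Type*} [Group T]
  {m : ℕ} (e : N ≃* (Fin m → T))

/-- the embedding of the `i`-th factor -/
def io (i : Fin m) : T →* G :=
  N.subtype.comp (e.symm.toMonoidHom.comp (MonoidHom.mulSingle (fun _ : Fin m => T) i))

theorem io_injective (i : Fin m) : Function.Injective (io N e i) :=
  (Subtype.coe_injective.comp e.symm.injective).comp (single_injective i)

theorem io_mem (i : Fin m) (t : T) : io N e i t ∈ N := (e.symm (Pi.mulSingle i t)).2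

theorem io_comm {i j : Fin m} (hij : i ≠ j) (s t : T) : Commute (io N e i s) (io N e j t) := by
  have h1 : Commute (MonoidHom.mulSingle (fun _ : Fin m => T) i s)
      (MonoidHom.mulSingle (fun _ : Fin m => T) j t) :=
    Pi.mulSingle_commute (f := fun _ : Fin m => T) hij s t
  exact (h1.map e.symm.toMonoidHom).map N.subtype

/-- the `i`-th factor -/
def F (i : Fin m) : Subgroup G := (io N e i).range

theorem F_le (i : Fin m) : F N e i ≤ N := by
  rintro _ ⟨t, rfl⟩
  exact io_mem N e i t

theorem F_injective [Nontrivial T] : Function.Injective (F N e) := by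
  intro i j hij
  by_contra hne
  obtain ⟨t, ht⟩ := exists_ne (1 : T)
  have h1 : io N e i t ∈ F N e j := by rw [← hij]; exact ⟨t, rfl⟩
  obtain ⟨s, hs⟩ := h1
  have h2 : (e.symm (Pi.mulSingle j s) : N) = e.symm (Pi.mulSingle i t) := Subtype.ext hs
  have h3 := congrFun (e.symm.injective h2) i
  rw [Pi.mulSingle_eq_same, Pi.mulSingle_eq_of_ne hne] at h3
  exact ht h3.symm

theorem F_conj [Finite G] [IsSimpleGroup T] (hT : ¬ IsMulCommutative T) (g : G) (i : Fin m) :
    ∃ j, F N e j = (F N e i).map (MulAut.conj g).toMonoidHom := by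
  have hfin : Finite T := Finite.of_injective _ (io_injective N e i)
  let c : N ≃* N := MulAut.conjNormal g
  let θ : (Fin m → T) ≃* (Fin m → T) := e.symm.trans (c.trans e)
  obtain ⟨j, hj⟩ := exists_single hT θ i
  refine ⟨j, ?_⟩
  have h1 : ∀ k, F N e k = (MonoidHom.mulSingle (fun _ : Fin m => T) k).range.map
      (N.subtype.comp e.symm.toMonoidHom) := by
    intro k
    rw [MonoidHom.map_range]
    rfl
  rw [h1, h1, ← hj, Subgroup.map_map, Subgroup.map_map]
  congr 1
  ext x
  show ((e.symm (θ x) : N) : G) = g * ((e.symm x : N) : G) * g⁻¹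
  have h2 : e.symm (θ x) = c (e.symm x) := by
    show e.symm (e (c (e.symm x))) = _
    rw [e.symm_apply_apply]
  rw [h2]
  exact MulAut.conjNormal_apply g (e.symm x)

variable [Finite G] [IsSimpleGroup T] (hT : ¬ IsMulCommutative T)

/-- the action on the factors -/
@[instance_reducible] noncomputable def act (hT : ¬ IsMulCommutative T) : MulAction G (Fin m) where
  smul g i := Classical.choose (F_conj N e hT g i)
  one_smul i := by
    apply F_injective N e
    refine (Classical.choose_spec (F_conj N e hT 1 i)).trans ?_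
    ext x
    simp
  mul_smul g h i := by
    apply F_injective N e
    refine (Classical.choose_spec (F_conj N e hT (g * h) i)).trans ?_
    refine Eq.trans ?_ (Classical.choose_spec (F_conj N e hT g _)).symm
    refine Eq.trans ?_ (congrArg _ (Classical.choose_spec (F_conj N e hT h i)).symm)
    rw [Subgroup.map_map]
    congr 1
    ext x
    simp [mul_assoc]

/-- the action on the factors -/
noncomputable def perm : G →* Equiv.Perm (Fin m) :=
  @MulAction.toPermHom G (Fin m) _ (act N e hT)

theorem F_perm (g : G) (i : Fin m) :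
    F N e (perm N e hT g i) = (F N e i).map (MulAut.conj g).toMonoidHom :=
  Classical.choose_spec (F_conj N e hT g i)

theorem mem_normalizer (g : (perm N e hT).ker) (i : Fin m) :
    (g : G) ∈ Subgroup.normalizer (F N e i : Set G) := by
  have h1 : perm N e hT g = 1 := g.2
  have h2 := F_perm N e hT g i
  rw [h1, Equiv.Perm.one_apply] at h2
  rw [Subgroup.mem_normalizer_iff]
  intro x
  constructor
  · intro hx
    rw [h2]
    exact ⟨x, hx, rfl⟩
  · intro hx
    rw [h2] at hx
    obtain ⟨y, hy, hyx⟩ := hx
    have h3 : (g : G) * y * (g : G)⁻¹ = g * x * (g : G)⁻¹ := hyx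
    rw [mul_left_inj, mul_right_inj] at h3
    rwa [← h3]

/-- the action of the kernel on the `i`-th factor -/
noncomputable def fac (i : Fin m) : (perm N e hT).ker →* MulAut (F N e i) :=
  ((F N e i).normalizerMonoidHom).comp
    (Subgroup.inclusion (fun g hg => mem_normalizer N e hT ⟨g, hg⟩ i))

theorem fac_apply (i : Fin m) (g : (perm N e hT).ker) (x : F N e i) :
    ((fac N e hT i g x : F N e i) : G) = g * x * (g : G)⁻¹ := rfl

theorem mem_ker_of_mem (i : Fin m) (t : T) : io N e i t ∈ (perm N e hT).ker := by
  rw [MonoidHom.mem_ker]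
  ext1 j
  apply F_injective N e
  rw [F_perm, Equiv.Perm.one_apply]
  by_cases hij : i = j
  · subst hij
    have h1 : io N e i t ∈ F N e i := ⟨t, rfl⟩
    apply le_antisymm
    · rintro _ ⟨x, hx, rfl⟩
      exact mul_mem (mul_mem h1 hx) (inv_mem h1)
    · intro x hx
      refine ⟨(io N e i t)⁻¹ * x * io N e i t, mul_mem (mul_mem (inv_mem h1) hx) h1, ?_⟩
      show io N e i t * ((io N e i t)⁻¹ * x * io N e i t) * (io N e i t)⁻¹ = x
      group
  · have h2 : ∀ x ∈ F N e j, io N e i t * x * (io N e i t)⁻¹ = x := by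
      rintro _ ⟨s, rfl⟩
      rw [(io_comm N e hij t s).eq, mul_inv_cancel_right]
    apply le_antisymm
    · rintro _ ⟨x, hx, rfl⟩
      show io N e i t * x * (io N e i t)⁻¹ ∈ _
      rw [h2 x hx]
      exact hx
    · intro x hx
      exact ⟨x, hx, h2 x hx⟩

theorem eq_one_of_fac (hC : Subgroup.centralizer (N : Set G) = ⊥) (g : (perm N e hT).ker)
    (h : ∀ i, fac N e hT i g = 1) : g = 1 := by
  have h1 : (g : G) ∈ Subgroup.centralizer (N : Set G) := by
    rw [Subgroup.mem_centralizer_iff]
    intro x hx
    -- the elements commuting with `g`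
    have h2 : ∀ f : Fin m → T, ((e.symm f : N) : G) * g = g * ((e.symm f : N) : G) := by
      have h3 : ∀ f : Fin m → T, f ∈ (Subgroup.centralizer ({(g : G)} : Set G)).comap
          (N.subtype.comp e.symm.toMonoidHom) := by
        intro f
        refine Subgroup.pi_mem_of_mulSingle_mem f fun i => ?_
        rw [Subgroup.mem_comap, Subgroup.mem_centralizer_singleton_iff]
        have h4 := congrArg (fun a : MulAut (F N e i) => ((a ⟨io N e i (f i), ⟨f i, rfl⟩⟩ : F N e i) : G))
          (h i)
        have h5 : (g : G) * io N e i (f i) * (g : G)⁻¹ = io N e i (f i) := h4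
        rw [mul_inv_eq_iff_eq_mul] at h5
        exact h5.symm
      intro f
      have h4 := h3 f
      rw [Subgroup.mem_comap, Subgroup.mem_centralizer_singleton_iff] at h4
      exact h4
    have h3 := h2 (e ⟨x, hx⟩)
    rw [e.symm_apply_apply] at h3
    exact h3
  rw [hC] at h1
  exact Subtype.ext (Subgroup.mem_bot.1 h1)

end Main

/-- subgroups of `Aut T` containing `Inn T` -/
theorem out_bound {T : Type*} [Group T] [Finite T] (hZ : Subgroup.center T = ⊥)
    (M : Subgroup (MulAut T)) (hM : (MulAut.conj : T →* MulAut T).range ≤ M) :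
    Nat.card (ConjClasses M) ≤ Nat.card (Cfsg.Out T) * Nat.card (ConjClasses T) := by
  have h1 := le_index_mul' ((MulAut.conj : T →* MulAut T).range.subgroupOf M)
  have hinj : Function.Injective (MulAut.conj : T →* MulAut T) := by
    rw [← MonoidHom.ker_eq_bot_iff, eq_bot_iff]
    intro x hx
    have h2 : x ∈ Subgroup.center T := by
      rw [Subgroup.mem_center_iff]
      intro y
      have h3 := congrArg (fun a : MulAut T => a y) hx
      have h4 : x * y * x⁻¹ = y := h3
      rw [mul_inv_eq_iff_eq_mul] at h4
      exact h4.symm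
    rwa [hZ] at h2
  have h2 : Nat.card (ConjClasses ((MulAut.conj : T →* MulAut T).range.subgroupOf M)) =
      Nat.card (ConjClasses T) := by
    rw [card_conjClasses_congr (Subgroup.subgroupOfEquivOfLe hM),
      card_conjClasses_congr (MonoidHom.ofInjective hinj)]
  rw [h2] at h1
  refine h1.trans (Nat.mul_le_mul_right _ ?_)
  have h3 : ((MulAut.conj : T →* MulAut T).range.subgroupOf M).index * M.index =
      (MulAut.conj : T →* MulAut T).range.index := Subgroup.relIndex_mul_index hM
  have h4 : Nat.card (Cfsg.Out T) = (MulAut.conj : T →* MulAut T).range.index := rfl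
  rw [h4, ← h3]
  exact Nat.le_mul_of_pos_right _ (Nat.pos_of_ne_zero Subgroup.index_ne_zero_of_finite)

/-- **the class number bound for groups with socle `T ^ m`** -/
theorem card_conjClasses_le {G : Type*} [Group G] [Finite G] (N : Subgroup G) [N.Normal]
    (hC : Subgroup.centralizer (N : Set G) = ⊥) {T : Type*} [Group T] [IsSimpleGroup T]
    (hT : ¬ IsMulCommutative T) {m : ℕ} (e : N ≃* (Fin m → T)) :
    ∃ π : G →* Equiv.Perm (Fin m), Nat.card (ConjClasses G) ≤
      (Nat.card (Cfsg.Out T) * Nat.card (ConjClasses T)) ^ m * Nat.card (ConjClasses π.range) := by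
  refine ⟨perm N e hT, (le_ker_mul_range (perm N e hT)).trans (Nat.mul_le_mul_right _ ?_)⟩
  refine (family' (fac N e hT) (fun i => (MulAut.conj : F N e i →* MulAut (F N e i)).range)
    (fun _ => Nat.card (Cfsg.Out T) * Nat.card (ConjClasses T)) ?_ ?_ ?_).trans ?_
  · intro i M hM
    have hfin : Finite T := Finite.of_injective _ (io_injective N e i)
    let ε : T ≃* F N e i := MonoidHom.ofInjective (io_injective N e i)
    have hZ : Subgroup.center (F N e i) = ⊥ := by
      have : IsSimpleGroup (F N e i) := (MulEquiv.isSimpleGroup_congr ε).1 inferInstance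
      apply center_eq_bot
      intro h
      apply hT
      refine ⟨⟨fun a b => ?_⟩⟩
      apply ε.injective
      rw [map_mul, map_mul]
      exact h.is_comm.comm _ _
    have h1 := out_bound hZ M hM
    rwa [← H55.OutGen.card_out_congr ε, ← card_conjClasses_congr ε] at h1
  · rintro i _ ⟨⟨_, t, rfl⟩, rfl⟩
    refine ⟨⟨io N e i t, mem_ker_of_mem N e hT i t⟩, ?_, ?_⟩
    · ext x
      rfl
    intro j hj
    ext x
    obtain ⟨_, s, rfl⟩ := x
    show io N e i t * io N e j s * (io N e i t)⁻¹ = io N e j s
    rw [(io_comm N e hj.symm t s).eq, mul_inv_cancel_right]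
  · intro x hx
    exact eq_one_of_fac N e hT hC x hx
  · rw [Finset.prod_const, Finset.card_univ, Fintype.card_fin]

end Cfsg.Agent.H539.SocBound
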