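import Cfsg.Agent.H540.ClassNum
import Cfsg.Agent.H539.PartCount

set_option autoImplicit false

/-!
# Class numbers of groups between `A_n` and `S_n`

`le_of_alternating_le`: if `A_n ≤ S ≤ S_n`, `n ≥ 5`, then `k(S) ≤ 2 ^ (n - 1)`.
-/

namespace Cfsg.Agent.H539.AltCase

open Cfsg.Agent.H540.ClassNum Cfsg.Agent.H539.PartCount

theorem card_perm_le {α : Type*} [Fintype α] [DecidableEq α] (hn : 5 ≤ Fintype.card α) :
    Nat.card (ConjClasses (Equiv.Perm α)) ≤ 2 ^ (Fintype.card α - 2) := by
  refine (card_conjClasses_perm_le_fib α).trans ?_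
  obtain ⟨m, hm⟩ := Nat.exists_eq_add_of_le hn
  rw [hm, show 5 + m + 1 = m + 6 by ring, show 5 + m - 2 = m + 3 by omega]
  exact fib_le_two_pow m

theorem le_of_alternating_le {α : Type*} [Fintype α] [DecidableEq α] (hn : 5 ≤ Fintype.card α)
    (S : Subgroup (Equiv.Perm α)) (hS : alternatingGroup α ≤ S) :
    Nat.card (ConjClasses S) ≤ 2 ^ (Fintype.card α - 1) := by
  have h1 := le_index_mul' ((alternatingGroup α).subgroupOf S)
  have h2 : ((alternatingGroup α).subgroupOf S).index ≤ 2 := by
    have hnt : Nontrivial α := by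
      rw [← Fintype.one_lt_card_iff_nontrivial]; omega
    have h3 : (alternatingGroup α).index = 2 := alternatingGroup.index_eq_two
    have h4 : (alternatingGroup α).relIndex S ∣ (alternatingGroup α).index := by
      exact Subgroup.relIndex_dvd_index_of_normal _ _
    rw [h3] at h4
    exact Nat.le_of_dvd (by norm_num) h4
  have h5 : Nat.card (ConjClasses ((alternatingGroup α).subgroupOf S)) =
      Nat.card (ConjClasses (alternatingGroup α)) :=
    card_conjClasses_congr (Subgroup.subgroupOfEquivOfLe hS)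
  rw [h5] at h1
  have h6 := card_conjClasses_alternating_lt (α := α) hn
  have h7 := card_perm_le (α := α) hn
  obtain ⟨m, hm⟩ := Nat.exists_eq_add_of_le hn
  rw [hm] at h7 ⊢
  have h8 : 5 + m - 1 = (5 + m - 2) + 1 := by omega
  rw [h8, pow_succ]
  calc Nat.card (ConjClasses S) ≤ _ := h1
    _ ≤ 2 * 2 ^ (5 + m - 2) := Nat.mul_le_mul h2 (h6.le.trans h7)
    _ = _ := mul_comm _ _

end Cfsg.Agent.H539.AltCase
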