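import Cfsg.Agent.H539.SocBound

set_option autoImplicit false
set_option linter.unusedSectionVars false

/-!
# Class numbers of primitive groups with a unique non-abelian minimal normal subgroup

`product_one` (`m = 1`), `product_two` (`m ≥ 2`, product action), `diagonal`.
-/

open MulAction

namespace Cfsg.Agent.H539.CaseB

open Cfsg.Agent.H540.ClassNum Cfsg.Agent.H539.BlockRed Cfsg.Agent.H539.PrimRed

/-! ### arithmetic -/

theorem mul_le_pow {d m : ℕ} (hd : 2 ≤ d) (hm : 1 ≤ m) : d * m ≤ d ^ m := by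
  obtain ⟨k, rfl⟩ : ∃ k, m = k + 1 := ⟨m - 1, by omega⟩
  rw [pow_succ']
  refine Nat.mul_le_mul_left _ ?_
  have : k < 2 ^ k := Nat.lt_two_pow_self
  calc k + 1 ≤ 2 ^ k := this
    _ ≤ d ^ k := Nat.pow_le_pow_left hd k

theorem sq_mul_le {d m : ℕ} (hd : 2 ≤ d) (hm : 2 ≤ m) : d ^ 2 * m ≤ 2 * d ^ m := by
  obtain ⟨k, rfl⟩ : ∃ k, m = k + 2 := ⟨m - 2, by omega⟩
  have h1 : k + 2 ≤ 2 * 2 ^ k := by
    have : k < 2 ^ k := Nat.lt_two_pow_self
    omega
  calc d ^ 2 * (k + 2) ≤ d ^ 2 * (2 * 2 ^ k) := Nat.mul_le_mul_left _ h1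
    _ ≤ d ^ 2 * (2 * d ^ k) := Nat.mul_le_mul_left _ (Nat.mul_le_mul_left _ (Nat.pow_le_pow_left hd k))
    _ = 2 * d ^ (k + 2) := by ring

theorem num_one {C d m n : ℕ} (hd : 2 ≤ d) (hm : 1 ≤ m) (hC : C ≤ 2 ^ (d - 1)) (hn : d ^ m ≤ n) :
    C ^ m * 2 ^ (m - 1) ≤ 2 ^ (n - 1) := by
  calc C ^ m * 2 ^ (m - 1) ≤ (2 ^ (d - 1)) ^ m * 2 ^ (m - 1) :=
        Nat.mul_le_mul_right _ (Nat.pow_le_pow_left hC m)
    _ = 2 ^ ((d - 1) * m + (m - 1)) := by rw [← pow_mul, ← pow_add]
    _ ≤ 2 ^ (n - 1) := by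
        apply Nat.pow_le_pow_right (by norm_num)
        have h1 := mul_le_pow hd hm
        obtain ⟨k, rfl⟩ : ∃ k, d = k + 1 := ⟨d - 1, by omega⟩
        have h2 : (k + 1) * m = k * m + m := by ring
        rw [Nat.add_sub_cancel]
        omega

theorem num_two {C d m n : ℕ} (hd : 2 ≤ d) (hm : 2 ≤ m) (hC : (2 * C) ^ 2 ≤ 2 ^ (d ^ 2))
    (hn : d ^ m ≤ n) : C ^ m * 2 ^ (m - 1) ≤ 2 ^ (n - 1) := by
  have hn1 : 1 ≤ n := le_trans (Nat.one_le_pow _ _ (by omega)) hn
  have h1 : (2 * C) ^ m ≤ 2 ^ n := by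
    rw [← Nat.pow_le_pow_iff_left (n := 2) (by norm_num)]
    calc ((2 * C) ^ m) ^ 2 = ((2 * C) ^ 2) ^ m := by rw [← pow_mul, ← pow_mul, mul_comm m 2]
      _ ≤ (2 ^ (d ^ 2)) ^ m := Nat.pow_le_pow_left hC m
      _ = 2 ^ (d ^ 2 * m) := by rw [← pow_mul]
      _ ≤ 2 ^ (2 * n) := Nat.pow_le_pow_right (by norm_num)
          ((sq_mul_le hd hm).trans (Nat.mul_le_mul_left _ hn))
      _ = (2 ^ n) ^ 2 := by rw [← pow_mul, mul_comm]
  have h2 : 2 * (C ^ m * 2 ^ (m - 1)) = (2 * C) ^ m := by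
    obtain ⟨k, rfl⟩ : ∃ k, m = k + 1 := ⟨m - 1, by omega⟩
    rw [Nat.add_sub_cancel, mul_pow, pow_succ 2 k]
    ring
  have h3 : 2 * 2 ^ (n - 1) = 2 ^ n := by
    rw [← pow_succ', Nat.sub_add_cancel hn1]
  omega

theorem num_diag {C t m s n : ℕ} (ht : 2 ≤ t) (hs : 1 ≤ s) (hm : 1 ≤ m) (hms : m ≤ 2 * s)
    (hC : C ≤ 2 ^ (t / 2 - 1)) (hn : t ^ s ≤ n) : C ^ m * 2 ^ (m - 1) ≤ 2 ^ (n - 1) := by
  calc C ^ m * 2 ^ (m - 1) ≤ (2 ^ (t / 2 - 1)) ^ m * 2 ^ (m - 1) :=
        Nat.mul_le_mul_right _ (Nat.pow_le_pow_left hC m)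
    _ = 2 ^ ((t / 2 - 1) * m + (m - 1)) := by rw [← pow_mul, ← pow_add]
    _ ≤ 2 ^ (n - 1) := by
        apply Nat.pow_le_pow_right (by norm_num)
        have h1 := mul_le_pow ht hs
        obtain ⟨k, hk⟩ : ∃ k, t / 2 = k + 1 := ⟨t / 2 - 1, by omega⟩
        have h2 : (k + 1) * m ≤ t * s := by
          calc (k + 1) * m ≤ (k + 1) * (2 * s) := Nat.mul_le_mul_left _ hms
            _ = (2 * (k + 1)) * s := by ring
            _ ≤ t * s := Nat.mul_le_mul_right _ (by omega)
        have h3 : (k + 1) * m = k * m + m := by ring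
        rw [hk, Nat.add_sub_cancel]
        omega

/-! ### degrees -/

section Degree

variable {G α : Type*} [Group G] [Finite G] [MulAction G α] [Finite α]
  (N : Subgroup G) [N.Normal] [IsPretransitive N α] {T : Type*} [Group T] {m : ℕ}
  (e : N ≃* (Fin m → T)) (a : α)

theorem degree_product (K : Fin m → Subgroup T)
    (hstab : ∀ n : N, (n : G) ∈ stabilizer G a ↔ ∀ i, e n i ∈ K i) :
    Nat.card α = ∏ i, (K i).index := by
  rw [← index_stabilizer_of_transitive N a, ← Subgroup.index_pi,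
    ← Subgroup.index_comap_of_surjective _ (f := e.toMonoidHom) e.surjective]
  congr 1
  ext x
  rw [Subgroup.mem_comap, Subgroup.mem_pi]
  have h1 : x ∈ stabilizer N a ↔ (x : G) ∈ stabilizer G a := Iff.rfl
  rw [h1, hstab]
  simp

theorem degree_diagonal [Finite T] (c : Fin m → Fin m)
    (hstab : ∀ n : N, (n : G) ∈ stabilizer G a ↔ ∀ i j : Fin m, c i = c j → e n i = e n j) :
    Nat.card α * Nat.card T ^ Nat.card (Set.range c) = Nat.card T ^ m := by
  classical
  let D : Subgroup (Fin m → T) :=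
    { carrier := {f | ∀ i j : Fin m, c i = c j → f i = f j}
      mul_mem' := fun {f g} hf hg i j hij => by
        rw [Pi.mul_apply, Pi.mul_apply, hf i j hij, hg i j hij]
      one_mem' := fun i j _ => rfl
      inv_mem' := fun {f} hf i j hij => by
        rw [Pi.inv_apply, Pi.inv_apply, hf i j hij] }
  have h1 : Nat.card α = D.index := by
    rw [← index_stabilizer_of_transitive N a,
      ← Subgroup.index_comap_of_surjective D (f := e.toMonoidHom) e.surjective]
    congr 1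
    ext x
    rw [Subgroup.mem_comap]
    have h1 : x ∈ stabilizer N a ↔ (x : G) ∈ stabilizer G a := Iff.rfl
    rw [h1, hstab]
    rfl
  have h2 : Nat.card D = Nat.card T ^ Nat.card (Set.range c) := by
    rw [← Nat.card_fun]
    let φ : Set.range c → Fin m := fun y => Classical.choose y.2
    have hφ : ∀ y, c (φ y) = y := fun y => Classical.choose_spec y.2
    refine Nat.card_congr
      { toFun := fun f y => f.1 (φ y)
        invFun := fun g => ⟨fun i => g ⟨c i, ⟨i, rfl⟩⟩, fun i j hij => by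
          show g ⟨c i, _⟩ = g ⟨c j, _⟩
          congr 1
          exact Subtype.ext hij⟩
        left_inv := fun f => by
          apply Subtype.ext
          funext i
          exact f.2 _ _ (hφ ⟨c i, ⟨i, rfl⟩⟩)
        right_inv := fun g => by
          funext y
          show g ⟨c (φ y), _⟩ = g y
          congr 1
          exact Subtype.ext (hφ y) }
  rw [h1, ← h2, mul_comm, D.card_mul_index, Nat.card_fun, Nat.card_eq_fintype_card (α := Fin m),
    Fintype.card_fin]

end Degree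

/-- blocks of a common size `k ≥ 2` -/
theorem two_mul_card_range_le {m k : ℕ} (hk : 2 ≤ k) (c : Fin m → Fin m)
    (hc : ∀ j : Fin m, Nat.card {i : Fin m // c i = j} = k ∨
      Nat.card {i : Fin m // c i = j} = 0) : 2 * Nat.card (Set.range c) ≤ m := by
  classical
  have h1 : m = ∑ j : Fin m, Nat.card {i : Fin m // c i = j} := by
    have h2 := Fintype.card_congr (Equiv.sigmaFiberEquiv c)
    rw [Fintype.card_sigma, Fintype.card_fin] at h2
    refine h2.symm.trans ?_
    exact Finset.sum_congr rfl fun j _ => by rw [Nat.card_eq_fintype_card]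
  have h3 : Nat.card (Set.range c) = ∑ j : Fin m, if j ∈ Set.range c then 1 else 0 := by
    rw [Nat.card_eq_fintype_card, Finset.sum_boole, Fintype.card_subtype]
    rfl
  rw [h3, Finset.mul_sum]
  conv_rhs => rw [h1]
  refine Finset.sum_le_sum fun j _ => ?_
  split_ifs with hj
  · obtain ⟨i, hi⟩ := hj
    rcases hc j with h | h
    · omega
    · exfalso
      have : Nonempty {i : Fin m // c i = j} := ⟨⟨i, hi⟩⟩
      have := Nat.card_pos (α := {i : Fin m // c i = j})
      omega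
  · omega

section Main

variable {G α : Type*} [Group G] [Finite G] [MulAction G α] [Finite α]
  (N : Subgroup G) [N.Normal] [IsPretransitive N α] {T : Type*} [Group T] [IsSimpleGroup T]
  (hT : ¬ IsMulCommutative T) (hC : Subgroup.centralizer (N : Set G) = ⊥) {m : ℕ}
  (e : N ≃* (Fin m → T)) (a : α) (ih : ∀ k, k < Nat.card α → Bd 2 k)

include hT hC ih e

theorem aux (hm : m < Nat.card α) : Nat.card (ConjClasses G) ≤
    (Nat.card (Cfsg.Out T) * Nat.card (ConjClasses T)) ^ m * 2 ^ (m - 1) := by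
  obtain ⟨π, hπ⟩ := SocBound.card_conjClasses_le N hC hT e
  exact hπ.trans (Nat.mul_le_mul_left _ ((ih m hm) _))

theorem exists_min [Finite T] (hm0 : 0 < m) (K : Fin m → Subgroup T) (hK : ∀ i, K i ≠ ⊤)
    (hstab : ∀ n : N, (n : G) ∈ stabilizer G a ↔ ∀ i, e n i ∈ K i) :
    ∃ i, 2 ≤ (K i).index ∧ (K i).index ^ m ≤ Nat.card α ∧
      (m = 1 → (K i).index = Nat.card α) := by
  have h0 := degree_product N e a K hstab
  obtain ⟨i, _, hi⟩ := Finset.exists_min_image Finset.univ (fun i => (K i).index)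
    ⟨⟨0, hm0⟩, Finset.mem_univ _⟩
  refine ⟨i, ?_, ?_, ?_⟩
  · have h1 : (K i).index ≠ 0 := Subgroup.index_ne_zero_of_finite
    have h2 : (K i).index ≠ 1 := fun h => hK i (Subgroup.index_eq_one.1 h)
    omega
  · rw [h0]
    have h1 := Finset.pow_card_le_prod (s := (Finset.univ : Finset (Fin m))) (f := fun i => (K i).index)
      (n := (K i).index) (fun j hj => hi j hj)
    simpa using h1
  · rintro rfl
    rw [h0]
    simp only [Finset.univ_unique, Fin.default_eq_zero, Fin.isValue, Finset.prod_singleton]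
    congr 1
    congr 1
    exact Subsingleton.elim _ _

/-- `m = 1` or all `m ≥ 1`, from `IdxOK`. -/
theorem product_one [Finite T] (hm0 : 0 < m) (K : Fin m → Subgroup T) (hK : ∀ i, K i ≠ ⊤)
    (hstab : ∀ n : N, (n : G) ∈ stabilizer G a ↔ ∀ i, e n i ∈ K i) (hOK : IdxOK T) :
    Nat.card (ConjClasses G) ≤ 2 ^ (Nat.card α - 1) := by
  obtain ⟨i, h2, hn, _⟩ := exists_min N hT hC e a ih hm0 K hK hstab
  have hm : m < Nat.card α := by
    have h3 := mul_le_pow h2 hm0
    nlinarith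
  exact (aux N hT hC e ih hm).trans (num_one h2 hm0 (hOK (K i) (hK i)) hn)

/-- product action, `m ≥ 2` -/
theorem product_two [Finite T] (hm2 : 2 ≤ m) (K : Fin m → Subgroup T) (hK : ∀ i, K i ≠ ⊤)
    (hstab : ∀ n : N, (n : G) ∈ stabilizer G a ↔ ∀ i, e n i ∈ K i)
    (hOK : ∀ L : Subgroup T, L ≠ ⊤ →
      (2 * (Nat.card (Cfsg.Out T) * Nat.card (ConjClasses T))) ^ 2 ≤ 2 ^ (L.index ^ 2)) :
    Nat.card (ConjClasses G) ≤ 2 ^ (Nat.card α - 1) := by
  obtain ⟨i, h2, hn, _⟩ := exists_min N hT hC e a ih (by omega) K hK hstab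
  have hm : m < Nat.card α := by
    have h3 := mul_le_pow h2 (by omega : 1 ≤ m)
    nlinarith
  exact (aux N hT hC e ih hm).trans (num_two h2 hm2 (hOK (K i) (hK i)) hn)

/-- diagonal action -/
theorem diagonal [Finite T] (hm0 : 0 < m) (k : ℕ) (c : Fin m → Fin m) (hk : 2 ≤ k)
    (hc : ∀ j : Fin m, Nat.card {i : Fin m // c i = j} = k ∨
      Nat.card {i : Fin m // c i = j} = 0)
    (hstab : ∀ n : N, (n : G) ∈ stabilizer G a ↔ ∀ i j : Fin m, c i = c j → e n i = e n j)
    (hOK : Nat.card (Cfsg.Out T) * Nat.card (ConjClasses T) ≤ 2 ^ (Nat.card T / 2 - 1)) :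
    Nat.card (ConjClasses G) ≤ 2 ^ (Nat.card α - 1) := by
  have h1 := degree_diagonal N e a c hstab
  have h2 := two_mul_card_range_le hk c hc
  have ht : 2 ≤ Nat.card T := Finite.one_lt_card
  set r := Nat.card (Set.range c) with hr
  have h3 : Nat.card α = Nat.card T ^ (m - r) := by
    have h4 : Nat.card T ^ m = Nat.card T ^ (m - r) * Nat.card T ^ r := by
      rw [← pow_add]
      congr 1
      omega
    rw [h4] at h1
    exact Nat.eq_of_mul_eq_mul_right (pow_pos (by omega) _) h1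
  have hm : m < Nat.card α := by
    rw [h3]
    have h5 : 3 ≤ Nat.card T := by
      by_contra hcon
      have h6 : Nat.card T = 2 := by omega
      have h7 : Fact (Nat.Prime 2) := ⟨Nat.prime_two⟩
      have h8 : IsCyclic T := isCyclic_of_prime_card h6
      exact hT ⟨⟨fun a b => by
        obtain ⟨g, hg⟩ := h8.exists_generator
        obtain ⟨i, rfl⟩ := hg a
        obtain ⟨j, rfl⟩ := hg b
        show g ^ i * g ^ j = g ^ j * g ^ i
        rw [← zpow_add, ← zpow_add, add_comm]⟩⟩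
    have h6 := mul_le_pow ht (by omega : 1 ≤ m - r)
    have h7 : 3 * (m - r) ≤ Nat.card T * (m - r) := Nat.mul_le_mul_right _ h5
    omega
  exact (aux N hT hC e ih hm).trans (num_diag ht (s := m - r) (by omega) hm0 (by omega) hOK h3.ge)

end Main

end Cfsg.Agent.H539.CaseB
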