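import Cfsg.Agent.H539.CaseATwo
import Cfsg.Agent.H539.CaseB
import Cfsg.Agent.H168.Rad
import Cfsg.Agent.S0703
import Cfsg.Agent.S0704
import Cfsg.Agent.S0723

set_option autoImplicit false

/-!
# `k(S) ≤ 2 ^ (n - 1)` for permutation groups, from the table `IdxOK`

`main`: if all finite non-abelian simple groups `T` satisfy `IdxOK T`, then every permutation group
of degree `n` has at most `2 ^ (n - 1)` classes.
-/

open MulAction

namespace Cfsg.Agent.H539.Asm

open Cfsg.Agent.H540.ClassNum Cfsg.Agent.H539.BlockRed Cfsg.Agent.H539.PrimRed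
  Cfsg.Agent.H539.CaseA Cfsg.Agent.H539.CaseB Cfsg.Agent.H539.PartCount

/-- the table -/
def Tab : Prop := ∀ (T : Type) [Group T] [Finite T] [IsSimpleGroup T], ¬ IsMulCommutative T →
  IdxOK T

theorem exists_min_normal {G : Type*} [Group G] [Finite G] (K : Subgroup G) [hK : K.Normal]
    (hK0 : K ≠ ⊥) : ∃ N : Subgroup G, N ≤ K ∧ N.Normal ∧ N ≠ ⊥ ∧
      ∀ M : Subgroup G, M.Normal → M ≤ N → M = ⊥ ∨ M = N := by
  have hfin : {N : Subgroup G | N ≤ K ∧ N.Normal ∧ N ≠ ⊥}.Finite := Set.toFinite _
  have hne : {N : Subgroup G | N ≤ K ∧ N.Normal ∧ N ≠ ⊥}.Nonempty := ⟨K, le_rfl, hK, hK0⟩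
  obtain ⟨N, ⟨hNK, hNn, hN0⟩, hmin⟩ := hfin.exists_minimal hne
  refine ⟨N, hNK, hNn, hN0, fun M hM hMN => ?_⟩
  by_cases hM0 : M = ⊥
  · exact Or.inl hM0
  · exact Or.inr (le_antisymm hMN (hmin ⟨hMN.trans hNK, hM, hM0⟩ hMN))

theorem trans_of_normal {G α : Type*} [Group G] [MulAction G α] [FaithfulSMul G α]
    [IsPreprimitive G α] (N : Subgroup G) [N.Normal] (hN : N ≠ ⊥) : IsPretransitive N α := by
  apply IsQuasiPreprimitive.isPretransitive_of_normal
  intro hu
  apply hN
  rw [eq_bot_iff]
  intro z hz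
  apply FaithfulSMul.eq_of_smul_eq_smul (α := α)
  intro x
  have hx : x ∈ fixedPoints N α := by rw [hu]; trivial
  rw [one_smul]
  exact hx ⟨z, hz⟩

theorem not_solvable {G : Type*} [Group G] (N : Subgroup G) [hNn : N.Normal] (hN : N ≠ ⊥)
    (hmin : ∀ M : Subgroup G, M.Normal → M ≤ N → M = ⊥ ∨ M = N) (hnab : ¬ IsMulCommutative N) :
    ¬ Group.IsSolvable N := by
  intro hs
  have h1 : (⁅N, N⁆ : Subgroup G).Normal := inferInstance
  have h2 : (⁅N, N⁆ : Subgroup G) ≤ N := Subgroup.commutator_le_left N N
  rcases hmin _ h1 h2 with h | h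
  · apply hnab
    refine ⟨⟨fun a b => Subtype.ext ?_⟩⟩
    have h3 := Subgroup.commutator_mem_commutator a.2 b.2
    rw [h, Subgroup.mem_bot, commutatorElement_eq_one_iff_mul_comm] at h3
    exact h3
  · -- perfect and solvable
    apply hN
    have h3 : _root_.commutator N = ⊤ := by
      rw [eq_top_iff]
      have h4 : (_root_.commutator N).map N.subtype = ⁅N, N⁆ := by
        rw [_root_.commutator_def, Subgroup.map_commutator, ← MonoidHom.range_eq_map,
          Subgroup.range_subtype]
      intro x _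
      have h5 : (x : G) ∈ (_root_.commutator N).map N.subtype := by rw [h4, h]; exact x.2
      obtain ⟨y, hy, hyx⟩ := h5
      have : y = x := Subtype.ext hyx
      rwa [← this]
    have h4 : ∀ n, derivedSeries N n = ⊤ := by
      intro n
      induction n with
      | zero => rfl
      | succ n ih => rw [derivedSeries_succ, ih]; exact h3
    obtain ⟨n, hn⟩ := (Group.isSolvable_def N).1 hs
    rw [h4 n] at hn
    rw [eq_bot_iff]
    intro x hx
    have : (⟨x, hx⟩ : N) ∈ (⊤ : Subgroup N) := trivial
    rw [hn, Subgroup.mem_bot] at this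
    exact congrArg Subtype.val this

/-- the bound for the diagonal action from `IdxOK` -/
theorem diag_bound {T : Type} [Group T] [Finite T] [IsSimpleGroup T] (hT : ¬ IsMulCommutative T)
    (h : IdxOK T) :
    Nat.card (Cfsg.Out T) * Nat.card (ConjClasses T) ≤ 2 ^ (Nat.card T / 2 - 1) := by
  obtain ⟨x, hx⟩ := exists_ne (1 : T)
  have h1 : Subgroup.zpowers x ≠ ⊤ := by
    intro htop
    apply hT
    refine ⟨⟨fun a b => ?_⟩⟩
    have ha : a ∈ Subgroup.zpowers x := by rw [htop]; trivial
    have hb : b ∈ Subgroup.zpowers x := by rw [htop]; trivial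
    obtain ⟨i, rfl⟩ := ha
    obtain ⟨j, rfl⟩ := hb
    show x ^ i * x ^ j = x ^ j * x ^ i
    rw [← zpow_add, ← zpow_add, add_comm]
  refine (h _ h1).trans (Nat.pow_le_pow_right (by norm_num) (Nat.sub_le_sub_right ?_ 1))
  have h2 := (Subgroup.zpowers x).card_mul_index
  have h3 : 2 ≤ Nat.card (Subgroup.zpowers x) := by
    rw [Nat.card_zpowers]
    have h4 : orderOf x ≠ 1 := fun h => hx (orderOf_eq_one_iff.1 h)
    have h5 : 0 < orderOf x := orderOf_pos x
    omega
  rw [Nat.le_div_iff_mul_le (by norm_num), mul_comm, ← h2]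
  exact Nat.mul_le_mul_right _ h3

/-- primitive groups of degree at least `5` -/
theorem prim_large (tab : Tab) {n : ℕ} (hn : 5 ≤ n) (ih : ∀ m < n, Bd 2 m)
    (S : Subgroup (Equiv.Perm (Fin n))) (hS : IsPreprimitive S (Fin n)) :
    Nat.card (ConjClasses S) ≤ 2 ^ (n - 1) := by
  have hc : Nat.card (Fin n) = n := by simp
  have hgoal : Nat.card (ConjClasses S) ≤ 2 ^ (Nat.card (Fin n) - 1) := by
    have ih' : ∀ m, m < Nat.card (Fin n) → Bd 2 m := by rw [hc]; exact ih
    let a : Fin n := ⟨0, by omega⟩
    have hS0 : (⊤ : Subgroup S) ≠ ⊥ := by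
      intro h
      obtain ⟨g, hg⟩ := MulAction.IsPretransitive.exists_smul_eq (M := S) a ⟨1, by omega⟩
      have h1 : g ∈ (⊤ : Subgroup S) := trivial
      rw [h, Subgroup.mem_bot] at h1
      rw [h1, one_smul] at hg
      have := congrArg Fin.val hg
      simp [a] at this
    obtain ⟨N, -, hNn, hN0, hmin⟩ := exists_min_normal (⊤ : Subgroup S) hS0
    have hNt : IsPretransitive N (Fin n) := trans_of_normal N hN0
    by_cases hab : IsMulCommutative N
    · obtain ⟨-, hreg, ⟨p, hp, hpow⟩, -⟩ := S0703.result S N hN0 hmin hab hNt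
      exact of_abelian N a (hreg a) (fun x y => hab.is_comm.comm x y) p hp
        (fun x => Subtype.ext (hpow x.1 x.2)) (by rw [hc]; exact hn) ih'
    · by_cases huniq : ∀ L : Subgroup S, L.Normal → L ≠ ⊥ →
        (∀ M : Subgroup S, M.Normal → M ≤ L → M = ⊥ ∨ M = L) → L = N
      · have hC : Subgroup.centralizer (N : Set S) = ⊥ := by
          by_contra hne
          have hCn : (Subgroup.centralizer (N : Set S)).Normal := inferInstance
          obtain ⟨L, hLC, hLn, hL0, hLmin⟩ := exists_min_normal _ hne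
          have h1 := huniq L hLn hL0 hLmin
          rw [h1] at hLC
          apply hab
          refine ⟨⟨fun x y => Subtype.ext ?_⟩⟩
          exact (Subgroup.mem_centralizer_iff.1 (hLC y.2)) x.1 x.2
        obtain ⟨T, instT, m, e, hTs, hTna, hm0, hcase⟩ :=
          S0723.result S N hN0 hmin huniq hab a
        have hTf : Finite T := Finite.of_injective _ (SocBound.io_injective N e ⟨0, hm0⟩)
        have hOK : IdxOK T := tab T hTna
        rcases hcase with ⟨K, hK, hstab⟩ | ⟨k, c, hk, hcc, hstab⟩
        · exact product_one N hTna hC e a ih' hm0 K hK hstab hOK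
        · exact diagonal N hTna hC e a ih' hm0 k c hk hcc hstab (diag_bound hTna hOK)
      · push Not at huniq
        obtain ⟨L, hLn, hL0, hLmin, hLN⟩ := huniq
        have hLt : IsPretransitive L (Fin n) := trans_of_normal L hL0
        obtain ⟨hreg, -⟩ := S0704.result S N L hN0 hL0 hmin hLmin (fun h => hLN h.symm) hNt hLt
        have h60 := H168.NoSolv.sixty_le (not_solvable N hN0 hmin hab)
        have h1 := card_regular N a (hreg a)
        exact of_large N a (hreg a) (by omega)
  rwa [hc] at hgoal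

/-- primitive groups -/
theorem prim (tab : Tab) (n : ℕ) (ih : ∀ m < n, Bd 2 m)
    (S : Subgroup (Equiv.Perm (Fin n))) (hS : IsPreprimitive S (Fin n)) :
    Nat.card (ConjClasses S) ≤ 2 ^ (n - 1) := by
  rcases Nat.lt_or_ge n 5 with h5 | h5
  swap
  · exact prim_large tab h5 ih S hS
  have hdvd : Nat.card S ∣ n.factorial := by
    have h1 := Subgroup.card_subgroup_dvd_card S
    rwa [Nat.card_eq_fintype_card (α := Equiv.Perm (Fin n)), Fintype.card_perm, Fintype.card_fin] at h1
  have hle := Nat.le_of_dvd (Nat.factorial_pos n) hdvd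
  have hkc := card_conjClasses_le_card (G := S)
  interval_cases n
  · exact hkc.trans hle
  · exact hkc.trans hle
  · exact hkc.trans hle
  · have h1 := of_card_le (G := S) (α := Fin 3) 0 (by
      rw [Nat.card_eq_fintype_card (α := Fin 3), Fintype.card_fin]
      exact hle.trans (by decide))
    rwa [Nat.card_eq_fintype_card (α := Fin 3), Fintype.card_fin] at h1
  · rcases Nat.lt_or_ge 16 (Nat.card S) with h16 | h16
    · have h24 : Nat.card S = 24 := by
        obtain ⟨c, hc⟩ := hdvd
        have h24 : Nat.factorial 4 = 24 := rfl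
        rw [h24] at hc
        have hc1 : c < 2 := by
          by_contra hcon
          push Not at hcon
          have : Nat.card S * 2 ≤ Nat.card S * c := Nat.mul_le_mul_left _ hcon
          omega
        interval_cases c
        · omega
        · omega
      have htop : S = ⊤ := by
        apply Subgroup.eq_top_of_card_eq
        rw [h24, Nat.card_eq_fintype_card, Fintype.card_perm, Fintype.card_fin]
        rfl
      subst htop
      rw [card_conjClasses_congr (Subgroup.topEquiv (G := Equiv.Perm (Fin 4)))]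
      refine (card_conjClasses_perm_le_fib (Fin 4)).trans ?_
      rw [Fintype.card_fin]
      decide
    · have h1 := of_card_le (G := S) (α := Fin 4) 0 (by
        rw [Nat.card_eq_fintype_card (α := Fin 4), Fintype.card_fin]
        exact h16)
      rwa [Nat.card_eq_fintype_card (α := Fin 4), Fintype.card_fin] at h1

/-- **The bound from the table.** -/
theorem main (tab : Tab) {α : Type*} [Fintype α] (S : Subgroup (Equiv.Perm α)) :
    Nat.card (ConjClasses S) ≤ 2 ^ (Fintype.card α - 1) :=
  (reduction_ih 2 (by norm_num) (prim tab) (Fintype.card α)).subgroup rfl S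

end Cfsg.Agent.H539.Asm
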