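import Cfsg.Agent.H540.ClassNum
import Cfsg.Agent.H539.PartCount

set_option autoImplicit false

/-!
# Class numbers of permutation groups: reduction to primitive groups

* `family`: if `N` is a subdirect product of groups whose subgroups have at most `C i` classes,
  then `k(N) ≤ ∏ C i`.
* `le_of_setoid`: the bound for a group preserving an equivalence relation.
* `exists_setoid`: a permutation group that is not primitive preserves a nontrivial relation, or is
  trivial.
* `reduction`: if all primitive groups of degree `m` have `k ≤ c ^ (m-1)` then all permutation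
  groups of degree `n` have `k ≤ c ^ (n-1)`.
-/

open MulAction
open scoped Pointwise

namespace Cfsg.Agent.H539.BlockRed

open Cfsg.Agent.H540.ClassNum

theorem family_aux {N : Type*} [Group N] [Finite N] {ι : Type*} [DecidableEq ι]
    {H : ι → Type*} [∀ i, Group (H i)] (f : ∀ i, N →* H i) (C : ι → ℕ)
    (hC : ∀ i (M : Subgroup (H i)), Nat.card (ConjClasses M) ≤ C i) (s : Finset ι) :
    Nat.card (ConjClasses N) ≤ (∏ i ∈ s, C i) *
      Nat.card (ConjClasses (⨅ i ∈ s, (f i).ker : Subgroup N)) := by
  induction s using Finset.induction_on with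
  | empty =>
    rw [Finset.prod_empty, one_mul]
    have h1 : (⨅ i ∈ (∅ : Finset ι), (f i).ker : Subgroup N) = ⊤ := by simp
    rw [h1, card_conjClasses_congr (Subgroup.topEquiv (G := N))]
  | insert a s ha ih =>
    refine ih.trans ?_
    rw [Finset.prod_insert ha, mul_comm (C a), mul_assoc]
    refine Nat.mul_le_mul_left _ ?_
    set K : Subgroup N := ⨅ i ∈ s, (f i).ker with hK
    have h2 : (⨅ i ∈ insert a s, (f i).ker : Subgroup N) = (f a).ker ⊓ K := by
      rw [Finset.iInf_insert]
    rw [h2]
    let g : K →* H a := (f a).comp K.subtype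
    have h3 := le_ker_mul_range g
    have h4 : Nat.card (ConjClasses g.ker) = Nat.card (ConjClasses ((f a).ker ⊓ K : Subgroup N)) := by
      apply card_conjClasses_congr
      refine MulEquiv.symm ?_
      refine MulEquiv.mk' (Equiv.mk (fun x => ⟨⟨x.1, x.2.2⟩, x.2.1⟩) (fun x => ⟨x.1.1, x.2, x.1.2⟩)
        (fun x => rfl) (fun x => rfl)) ?_
      intro x y
      rfl
    rw [h4] at h3
    calc Nat.card (ConjClasses K) ≤ _ := h3
      _ ≤ Nat.card (ConjClasses ((f a).ker ⊓ K : Subgroup N)) * C a :=
          Nat.mul_le_mul_left _ (hC a _)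
      _ = _ := mul_comm _ _

/-- a subdirect product of groups whose subgroups have at most `C i` classes has at most `∏ C i`
classes. -/
theorem family {N : Type*} [Group N] [Finite N] {ι : Type*} [Fintype ι]
    {H : ι → Type*} [∀ i, Group (H i)] (f : ∀ i, N →* H i) (C : ι → ℕ)
    (hC : ∀ i (M : Subgroup (H i)), Nat.card (ConjClasses M) ≤ C i)
    (hker : ∀ x : N, (∀ i, f i x = 1) → x = 1) :
    Nat.card (ConjClasses N) ≤ ∏ i, C i := by
  classical
  refine (family_aux f C hC Finset.univ).trans ?_
  have h1 : (⨅ i ∈ (Finset.univ : Finset ι), (f i).ker : Subgroup N) = ⊥ := by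
    rw [eq_bot_iff]
    intro x hx
    simp only [Finset.mem_univ, iInf_pos, Subgroup.mem_iInf, MonoidHom.mem_ker] at hx
    exact hker x hx
  rw [h1]
  have h2 : Nat.card (ConjClasses (⊥ : Subgroup N)) ≤ 1 := by
    have := card_conjClasses_le_card (G := (⊥ : Subgroup N))
    simpa using this
  calc (∏ i, C i) * Nat.card (ConjClasses (⊥ : Subgroup N)) ≤ (∏ i, C i) * 1 :=
        Nat.mul_le_mul_left _ h2
    _ = _ := mul_one _

/-- all permutation groups of degree `n` have at most `c ^ (n - 1)` classes. -/
def Bd (c n : ℕ) : Prop :=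
  ∀ S : Subgroup (Equiv.Perm (Fin n)), Nat.card (ConjClasses S) ≤ c ^ (n - 1)

theorem Bd.of_injective {c n : ℕ} (h : Bd c n) {G : Type*} [Group G] {α : Type*} [Fintype α]
    (hα : Fintype.card α = n) (f : G →* Equiv.Perm α) (hf : Function.Injective f) :
    Nat.card (ConjClasses G) ≤ c ^ (n - 1) := by
  let e : α ≃ Fin n := Fintype.equivFinOfCardEq hα
  let g : G →* Equiv.Perm (Fin n) := (e.permCongrHom).toMonoidHom.comp f
  have hg : Function.Injective g := (e.permCongrHom).injective.comp hf
  rw [card_conjClasses_congr (MonoidHom.ofInjective hg)]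
  exact h g.range

theorem Bd.subgroup {c n : ℕ} (h : Bd c n) {α : Type*} [Fintype α]
    (hα : Fintype.card α = n) (M : Subgroup (Equiv.Perm α)) :
    Nat.card (ConjClasses M) ≤ c ^ (n - 1) :=
  h.of_injective hα M.subtype Subtype.coe_injective

section Setoid

variable {G : Type*} [Group G] {α : Type*} [MulAction G α]

/-- the action on the classes of an invariant equivalence relation. -/
def quotHom (r : Setoid α) (hr : ∀ (g : G) (x y : α), r x y → r (g • x) (g • y)) :
    G →* Equiv.Perm (Quotient r) where
  toFun g :=
    { toFun := Quotient.map (fun x => g • x) (fun x y h => hr g x y h)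
      invFun := Quotient.map (fun x => g⁻¹ • x) (fun x y h => hr g⁻¹ x y h)
      left_inv := fun q => by
        refine Quotient.inductionOn q fun x => ?_
        simp [Quotient.map_mk]
      right_inv := fun q => by
        refine Quotient.inductionOn q fun x => ?_
        simp [Quotient.map_mk] }
  map_one' := by
    ext q
    refine Quotient.inductionOn q fun x => ?_
    simp [Quotient.map_mk]
  map_mul' g h := by
    ext q
    refine Quotient.inductionOn q fun x => ?_
    simp [Quotient.map_mk, mul_smul]

theorem quotHom_mk (r : Setoid α) (hr : ∀ (g : G) (x y : α), r x y → r (g • x) (g • y)) (g : G)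
    (x : α) : quotHom r hr g (Quotient.mk r x) = Quotient.mk r (g • x) := rfl

/-- the kernel of the action on the classes acts on each class. -/
def fibHom (r : Setoid α) (hr : ∀ (g : G) (x y : α), r x y → r (g • x) (g • y))
    (q : Quotient r) : (quotHom r hr).ker →* Equiv.Perm {x : α // Quotient.mk r x = q} where
  toFun g :=
    { toFun := fun x => ⟨g.1 • x.1, by
        have h1 : quotHom r hr g.1 = 1 := g.2
        rw [← quotHom_mk r hr, h1, x.2]; rfl⟩
      invFun := fun x => ⟨g.1⁻¹ • x.1, by
        have h1 : quotHom r hr g.1⁻¹ = 1 := (g⁻¹).2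
        rw [← quotHom_mk r hr, h1, x.2]; rfl⟩
      left_inv := fun x => by
        apply Subtype.ext
        simp
      right_inv := fun x => by
        apply Subtype.ext
        simp }
  map_one' := by
    ext x
    simp
  map_mul' g h := by
    ext x
    simp [mul_smul]

theorem le_of_setoid {c : ℕ} [Finite G] [FaithfulSMul G α] [Fintype α] (r : Setoid α)
    (hr : ∀ (g : G) (x y : α), r x y → r (g • x) (g • y))
    (hbot : r ≠ ⊥) (htop : r ≠ ⊤) (ih : ∀ m, m < Fintype.card α → Bd c m) :
    Nat.card (ConjClasses G) ≤ c ^ (Fintype.card α - 1) := by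
  classical
  have hfq : Fintype (Quotient r) := Fintype.ofFinite _
  -- number of classes
  have hm : Fintype.card (Quotient r) < Fintype.card α := by
    refine lt_of_le_of_ne (Fintype.card_le_of_surjective _ Quotient.mk_surjective) ?_
    intro he
    apply hbot
    have hinj : Function.Injective (Quotient.mk r) :=
      ((Fintype.bijective_iff_surjective_and_card _).2 ⟨Quotient.mk_surjective, he.symm⟩).1
    rw [eq_bot_iff]
    intro x y hxy
    exact hinj (Quotient.sound hxy)
  have hne : ∀ q : Quotient r, 1 ≤ Fintype.card {x : α // Quotient.mk r x = q} := by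
    intro q
    obtain ⟨x, hx⟩ := Quotient.exists_rep q
    exact Fintype.card_pos_iff.2 ⟨⟨x, hx⟩⟩
  have hfib : ∀ q : Quotient r, Fintype.card {x : α // Quotient.mk r x = q} < Fintype.card α := by
    intro q
    rw [Fintype.card_subtype]
    refine lt_of_le_of_ne (Finset.card_le_univ _) ?_
    intro he
    have h1 := (Finset.card_eq_iff_eq_univ _).1 he
    apply htop
    rw [eq_top_iff]
    intro x y _
    have hx : x ∈ Finset.univ.filter (fun x => Quotient.mk r x = q) := by rw [h1]; exact Finset.mem_univ _
    have hy : y ∈ Finset.univ.filter (fun x => Quotient.mk r x = q) := by rw [h1]; exact Finset.mem_univ _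
    rw [Finset.mem_filter] at hx hy
    exact Quotient.exact (hx.2.trans hy.2.symm)
  have hsum : Fintype.card α = ∑ q : Quotient r, Fintype.card {x : α // Quotient.mk r x = q} := by
    rw [← Fintype.card_sigma]
    exact Fintype.card_congr (Equiv.sigmaFiberEquiv (Quotient.mk r)).symm
  have hsum2 : ∑ q : Quotient r, (Fintype.card {x : α // Quotient.mk r x = q} - 1)
      + Fintype.card (Quotient r) = Fintype.card α := by
    rw [hsum]
    have h1 : Fintype.card (Quotient r) = ∑ _q : Quotient r, 1 := by simp
    rw [h1, ← Finset.sum_add_distrib]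
    exact Finset.sum_congr rfl fun q _ => Nat.sub_add_cancel (hne q)
  have hker : Nat.card (ConjClasses (quotHom r hr).ker) ≤
      ∏ q : Quotient r, c ^ (Fintype.card {x : α // Quotient.mk r x = q} - 1) := by
    refine family (fibHom r hr) _ ?_ ?_
    · intro q M
      exact (ih _ (hfib q)).subgroup rfl M
    · intro g hg
      apply Subtype.ext
      apply FaithfulSMul.eq_of_smul_eq_smul (α := α)
      intro x
      have h1 := congrArg (fun σ => ((σ : Equiv.Perm _) ⟨x, rfl⟩ : {y : α // Quotient.mk r y = Quotient.mk r x}).1)
        (hg (Quotient.mk r x))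
      simpa [fibHom] using h1
  have hrange : Nat.card (ConjClasses (quotHom r hr).range) ≤ c ^ (Fintype.card (Quotient r) - 1) :=
    (ih _ hm).subgroup rfl _
  have hpos : 1 ≤ Fintype.card (Quotient r) := by
    by_contra h0
    have h0' : Fintype.card (Quotient r) = 0 := by omega
    have : IsEmpty (Quotient r) := Fintype.card_eq_zero_iff.1 h0'
    apply htop
    rw [eq_top_iff]
    intro x y _
    exact (this.false (Quotient.mk r x)).elim
  calc Nat.card (ConjClasses G) ≤ _ := le_ker_mul_range (quotHom r hr)
    _ ≤ (∏ q : Quotient r, c ^ (Fintype.card {x : α // Quotient.mk r x = q} - 1)) *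
        c ^ (Fintype.card (Quotient r) - 1) := Nat.mul_le_mul hker hrange
    _ = c ^ (Fintype.card α - 1) := by
        rw [Finset.prod_pow_eq_pow_sum, ← pow_add]
        congr 1
        omega

/-- a faithful action that is not primitive preserves a nontrivial equivalence relation, or the
group is trivial. -/
theorem exists_setoid [FaithfulSMul G α] (h : ¬ IsPreprimitive G α) :
    (∀ g : G, g = 1) ∨ ∃ r : Setoid α, (∀ (g : G) (x y : α), r x y → r (g • x) (g • y)) ∧
      r ≠ ⊥ ∧ r ≠ ⊤ := by
  by_cases hpre : IsPretransitive G α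
  · right
    -- a nontrivial block
    obtain ⟨B, hB, hBt⟩ : ∃ B : Set α, IsBlock G B ∧ ¬ IsTrivialBlock B := by
      by_contra hcon
      push Not at hcon
      exact h ⟨fun {B} hB => hcon B hB⟩
    rw [IsTrivialBlock, not_or] at hBt
    obtain ⟨hB1, hB2⟩ := hBt
    rw [Set.not_subsingleton_iff] at hB1
    obtain ⟨x, hx, y, hy, hxy⟩ := hB1
    let r : Setoid α :=
      { r := fun x y => ∀ g : G, x ∈ g • B ↔ y ∈ g • B
        iseqv := ⟨fun x g => Iff.rfl, fun h g => (h g).symm, fun h h' g => (h g).trans (h' g)⟩ }
    have hr : ∀ x y, r x y ↔ ∀ g : G, x ∈ g • B ↔ y ∈ g • B := fun _ _ => Iff.rfl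
    refine ⟨r, ?_, ?_, ?_⟩
    · intro g x y hxy
      rw [hr] at hxy ⊢
      intro k
      have h1 := hxy (g⁻¹ * k)
      rw [mul_smul, Set.mem_inv_smul_set_iff, Set.mem_inv_smul_set_iff] at h1
      exact h1
    · intro hbot
      apply hxy
      have h1 : r x y := by
        rw [hr]
        have key : ∀ (g : G) (u v : α), u ∈ B → v ∈ B → u ∈ g • B → v ∈ g • B := by
          intro g u v hu hv hug
          have h2 : g • B = B := by
            rcases hB.smul_eq_smul_or_disjoint g 1 with h3 | h3
            · rwa [one_smul] at h3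
            · rw [one_smul] at h3
              exact (Set.disjoint_left.1 h3 hug hu).elim
          rwa [h2]
        exact fun g => ⟨key g x y hx hy, key g y x hy hx⟩
      rw [hbot] at h1
      exact h1
    · intro htop
      apply hB2
      rw [Set.eq_univ_iff_forall]
      intro z
      have h1 : r x z := by rw [htop]; trivial
      rw [hr] at h1
      have h2 := h1 1
      rw [one_smul] at h2
      exact h2.1 hx
  · -- intransitive
    by_cases hbot : orbitRel G α = ⊥
    · left
      intro g
      apply FaithfulSMul.eq_of_smul_eq_smul (α := α)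
      intro x
      have h1 : (orbitRel G α) (g • x) x := ⟨g, rfl⟩
      rw [hbot] at h1
      rw [one_smul]
      exact h1
    · right
      refine ⟨orbitRel G α, ?_, hbot, ?_⟩
      · rintro g x y ⟨k, hk⟩
        refine ⟨g * k * g⁻¹, ?_⟩
        have hk' : k • y = x := hk
        show (g * k * g⁻¹) • g • y = g • x
        rw [← hk', smul_smul, smul_smul]
        congr 1
        group
      · intro htop
        apply hpre
        refine ⟨fun x y => ?_⟩
        have h1 : (orbitRel G α) y x := by rw [htop]; trivial
        exact h1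

end Setoid

/-- **Reduction to primitive groups.** -/
theorem reduction (c : ℕ) (hc : 1 ≤ c)
    (hprim : ∀ (n : ℕ) (S : Subgroup (Equiv.Perm (Fin n))), IsPreprimitive S (Fin n) →
      Nat.card (ConjClasses S) ≤ c ^ (n - 1)) (n : ℕ) : Bd c n := by
  induction n using Nat.strong_induction_on with
  | _ n ih =>
  intro S
  by_cases hS : IsPreprimitive S (Fin n)
  · exact hprim n S hS
  · rcases exists_setoid (G := S) (α := Fin n) hS with h | ⟨r, hr, hbot, htop⟩
    · have h1 : Nat.card S = 1 := by
        rw [Nat.card_eq_one_iff_unique]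
        exact ⟨⟨fun a b => (h a).trans (h b).symm⟩, ⟨1⟩⟩
      have h2 := card_conjClasses_le_card (G := S)
      rw [h1] at h2
      exact h2.trans (Nat.one_le_pow _ _ hc)
    · have h1 := le_of_setoid (c := c) (G := S) (α := Fin n) r hr hbot htop (by
        rw [Fintype.card_fin]; exact ih)
      rwa [Fintype.card_fin] at h1

end Cfsg.Agent.H539.BlockRed
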