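import Cfsg.Agent.S4195
import Cfsg.Agent.TwoFusion.GoldControl

set_option autoImplicit false

/-!
# The Camina–Herzog criterion (elementary proof)

If every 2-element of a finite group `G` has a Sylow 2-subgroup of `G` in its centralizer, then the
Sylow 2-subgroups of `G` are abelian.

Proof.  Real 2-elements are involutions, so the involutions of a Sylow 2-subgroup `P` commute and
`E = Ω₁(P)` is a strongly closed elementary abelian subgroup, whose normalizer controls fusion.
So `E` may be taken normal in `G`; then `E ≤ Z(P)`, `G/E` has the same property, and Burnside's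
lemma in `G/E` gives the result.
-/

open Subgroup

namespace Cfsg.Agent.H539.CaminaHerzog

universe u

/-- every element of `P` has a conjugate in `P` that is centralised by `P`. -/
def Prop1 {G : Type u} [Group G] (P : Subgroup G) : Prop :=
  ∀ x ∈ P, ∃ g : G, g * x * g⁻¹ ∈ P ∧ ∀ y ∈ P, y * (g * x * g⁻¹) = (g * x * g⁻¹) * y

theorem exists_sylow_le {G : Type u} [Group G] [Finite G] (P : Sylow 2 G)
    (h : Prop1 (P : Subgroup G)) {x : G} (hx : x ∈ (P : Subgroup G)) :
    ∃ Q : Sylow 2 G, (Q : Subgroup G) ≤ centralizer ({x} : Set G) := by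
  obtain ⟨g, hg, hc⟩ := h x hx
  refine ⟨g⁻¹ • P, ?_⟩
  intro y hy
  rw [Sylow.coe_subgroup_smul] at hy
  obtain ⟨z, hz, rfl⟩ := hy
  rw [mem_centralizer_singleton_iff]
  have h1 := hc z hz
  show (g⁻¹ * z * g⁻¹⁻¹) * x = x * (g⁻¹ * z * g⁻¹⁻¹)
  rw [inv_inv]
  have h2 : g * ((g⁻¹ * z * g) * x) * g⁻¹ = g * (x * (g⁻¹ * z * g)) * g⁻¹ := by
    calc g * ((g⁻¹ * z * g) * x) * g⁻¹ = z * (g * x * g⁻¹) := by group
      _ = (g * x * g⁻¹) * z := h1
      _ = g * (x * (g⁻¹ * z * g)) * g⁻¹ := by group
  exact mul_left_cancel (mul_right_cancel h2)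

theorem comm_of_involutions {G : Type u} [Group G] [Finite G] (P : Sylow 2 G)
    (h : Prop1 (P : Subgroup G)) {s t : G} (hs : s ∈ (P : Subgroup G)) (ht : t ∈ (P : Subgroup G))
    (hs2 : s ^ 2 = 1) (ht2 : t ^ 2 = 1) : s * t = t * s := by
  obtain ⟨Q, hQ⟩ := exists_sylow_le P h (mul_mem hs ht)
  have hs' : s⁻¹ = s := by rw [inv_eq_iff_mul_eq_one, ← pow_two, hs2]
  have ht' : t⁻¹ = t := by rw [inv_eq_iff_mul_eq_one, ← pow_two, ht2]
  have hreal : IsConj (s * t) (s * t)⁻¹ := by
    refine isConj_iff.2 ⟨t, ?_⟩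
    rw [mul_inv_rev, hs', ht']
    rw [pow_two] at ht2
    rw [mul_assoc, mul_assoc, ht2, mul_one]
  have h2 : (s * t) ^ 2 = 1 := by
    by_cases h1 : s * t = 1
    · rw [h1, one_pow]
    · rw [← Cfsg.Agent.S4195.result (s * t) h1 Q hQ hreal]
      exact pow_orderOf_eq_one _
  have h3 : (s * t)⁻¹ = s * t := by rw [inv_eq_iff_mul_eq_one, ← pow_two, h2]
  rw [← h3, mul_inv_rev, hs', ht']

/-- `Ω₁(P)` as a subgroup. -/
def Om {G : Type u} [Group G] [Finite G] (P : Sylow 2 G) (h : Prop1 (P : Subgroup G)) :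
    Subgroup G where
  carrier := {x | x ∈ (P : Subgroup G) ∧ x ^ 2 = 1}
  one_mem' := ⟨one_mem _, one_pow _⟩
  mul_mem' := by
    rintro a b ⟨ha, ha2⟩ ⟨hb, hb2⟩
    refine ⟨mul_mem ha hb, ?_⟩
    have hc : Commute a b := comm_of_involutions P h ha hb ha2 hb2
    rw [hc.mul_pow, ha2, hb2, one_mul]
  inv_mem' := by
    rintro a ⟨ha, ha2⟩
    exact ⟨inv_mem ha, by rw [inv_pow, ha2, inv_one]⟩

theorem mem_Om {G : Type u} [Group G] [Finite G] {P : Sylow 2 G} {h : Prop1 (P : Subgroup G)}
    {x : G} : x ∈ Om P h ↔ x ∈ (P : Subgroup G) ∧ x ^ 2 = 1 := Iff.rfl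

theorem Om_sc {G : Type u} [Group G] [Finite G] (P : Sylow 2 G) (h : Prop1 (P : Subgroup G)) :
    Cfsg.IsStronglyClosed (Om P h) (P : Subgroup G) := by
  refine ⟨fun x hx => hx.1, ?_⟩
  intro x hx g hg
  refine ⟨hg, ?_⟩
  have := hx.2
  rw [conj_pow, this]
  group

theorem main (n : ℕ) : ∀ (G : Type u) [Group G] [Finite G], Nat.card G = n →
    ∀ P : Sylow 2 G, Prop1 (P : Subgroup G) → ∀ a ∈ (P : Subgroup G), ∀ b ∈ (P : Subgroup G),
      a * b = b * a := by
  induction n using Nat.strong_induction_on with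
  | _ n ih =>
  intro G _ _ hn P h
  have hsc := Om_sc P h
  have hcomm : ∀ a ∈ Om P h, ∀ b ∈ Om P h, a * b = b * a := fun a ha b hb =>
    comm_of_involutions P h ha.1 hb.1 ha.2 hb.2
  -- `P` normalises `E`
  have hPN : (P : Subgroup G) ≤ normalizer ((Om P h : Subgroup G) : Set G) := by
    intro y hy
    rw [mem_normalizer_iff]
    intro x
    have hk : ∀ z ∈ (P : Subgroup G), ∀ x, x ∈ Om P h → z * x * z⁻¹ ∈ Om P h := by
      intro z hz x hx
      exact hsc.2 x hx z (mul_mem (mul_mem hz hx.1) (inv_mem hz))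
    refine ⟨hk y hy x, fun h1 => ?_⟩
    have h2 := hk y⁻¹ (inv_mem hy) _ h1
    have h3 : y⁻¹ * (y * x * y⁻¹) * y⁻¹⁻¹ = x := by group
    rwa [h3] at h2
  by_cases hN : normalizer ((Om P h : Subgroup G) : Set G) = ⊤
  · have hnormal : (Om P h).Normal := normalizer_eq_top_iff.1 hN
    -- `E ≤ Z(P)`
    have hZ : ∀ x ∈ (P : Subgroup G), ∀ e ∈ Om P h, x * e = e * x := by
      intro x hx e he
      obtain ⟨g, hg, hc⟩ := h x hx
      have h1 := hc (g * e * g⁻¹) (hnormal.conj_mem e he g).1
      have h2 : g * (e * x) * g⁻¹ = g * (x * e) * g⁻¹ := by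
        calc g * (e * x) * g⁻¹ = g * e * g⁻¹ * (g * x * g⁻¹) := by group
          _ = (g * x * g⁻¹) * (g * e * g⁻¹) := h1
          _ = g * (x * e) * g⁻¹ := by group
      exact (mul_left_cancel (mul_right_cancel h2)).symm
    by_cases hE : Om P h = ⊥
    · -- `P` is trivial
      intro a ha b hb
      have hP : (P : Subgroup G) = ⊥ := by
        by_contra hne
        obtain ⟨k, hk⟩ := (IsPGroup.iff_card (p := 2)).1 P.isPGroup'
        have hk0 : k ≠ 0 := by
          rintro rfl
          rw [pow_zero] at hk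
          exact hne (Subgroup.eq_bot_of_card_eq _ hk)
        have hd : 2 ∣ Nat.card P := by
          rw [hk]; exact dvd_pow_self 2 hk0
        obtain ⟨x, hx⟩ := exists_prime_orderOf_dvd_card' 2 hd
        have h1 : (x : G) ∈ Om P h := ⟨x.2, by
          have := pow_orderOf_eq_one x
          rw [hx] at this
          exact congrArg Subtype.val this⟩
        rw [hE, mem_bot] at h1
        have h2 : x = 1 := Subtype.ext h1
        rw [h2, orderOf_one] at hx
        exact absurd hx (by norm_num)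
      rw [hP, mem_bot] at ha hb
      rw [ha, hb]
    · -- the quotient
      have hsurj : Function.Surjective (QuotientGroup.mk' (Om P h)) :=
        QuotientGroup.mk'_surjective _
      let Pq : Sylow 2 (G ⧸ Om P h) := P.mapSurjective hsurj
      have hPq : (Pq : Subgroup (G ⧸ Om P h)) = (P : Subgroup G).map (QuotientGroup.mk' (Om P h)) := rfl
      have hcardq : Nat.card (G ⧸ Om P h) < n := by
        have h1 := Subgroup.card_eq_card_quotient_mul_card_subgroup (Om P h)
        rw [hn] at h1
        have h2 : 1 < Nat.card (Om P h) := (Subgroup.one_lt_card_iff_ne_bot _).2 hE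
        have h3 : 0 < Nat.card (G ⧸ Om P h) := Nat.card_pos
        rw [h1]
        nlinarith
      have hq : Prop1 (Pq : Subgroup (G ⧸ Om P h)) := by
        intro x hx
        rw [hPq] at hx
        obtain ⟨x, hx, rfl⟩ := hx
        obtain ⟨g, hg, hc⟩ := h x hx
        refine ⟨QuotientGroup.mk' _ g, ?_, ?_⟩
        · rw [hPq]
          exact ⟨_, hg, by simp⟩
        · intro y hy
          rw [hPq] at hy
          obtain ⟨y, hy, rfl⟩ := hy
          have h1 := congrArg (QuotientGroup.mk' (Om P h)) (hc y hy)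
          simpa using h1
      have hab := ih _ hcardq (G ⧸ Om P h) rfl Pq hq
      -- every element of `P` is central in `P`
      have hcen : ∀ x ∈ (P : Subgroup G), ∀ y ∈ (P : Subgroup G), x * y = y * x := by
        intro x hx y hy
        obtain ⟨g, hg, hc⟩ := h x hx
        have hxq : QuotientGroup.mk' (Om P h) x ∈ centralizer ((Pq : Subgroup (G ⧸ Om P h)) : Set (G ⧸ Om P h)) := by
          rw [mem_centralizer_iff]
          intro z hz
          exact hab z hz _ (by rw [hPq]; exact ⟨x, hx, rfl⟩)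
        have hyq : (QuotientGroup.mk' (Om P h) g⁻¹)⁻¹ * QuotientGroup.mk' (Om P h) x *
            QuotientGroup.mk' (Om P h) g⁻¹ ∈ centralizer ((Pq : Subgroup (G ⧸ Om P h)) : Set (G ⧸ Om P h)) := by
          rw [mem_centralizer_iff]
          intro z hz
          have : (QuotientGroup.mk' (Om P h) g⁻¹)⁻¹ * QuotientGroup.mk' (Om P h) x *
            QuotientGroup.mk' (Om P h) g⁻¹ = QuotientGroup.mk' (Om P h) (g * x * g⁻¹) := by
              simp
          rw [this]
          exact hab z hz _ (by rw [hPq]; exact ⟨_, hg, rfl⟩)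
        obtain ⟨m, hm, hm2⟩ := Pq.conj_eq_normalizer_conj_of_mem_centralizer _ _ hxq hyq
        obtain ⟨m, rfl⟩ := hsurj m
        -- `m` normalises `P`
        have hmP : ∀ z ∈ (P : Subgroup G), m * z * m⁻¹ ∈ (P : Subgroup G) := by
          intro z hz
          have h1 := (mem_normalizer_iff.1 hm (QuotientGroup.mk' (Om P h) z)).1
            (by show _ ∈ (Pq : Subgroup (G ⧸ Om P h)); rw [hPq]; exact ⟨z, hz, rfl⟩)
          have h2 : QuotientGroup.mk' (Om P h) (m * z * m⁻¹) ∈
              (P : Subgroup G).map (QuotientGroup.mk' (Om P h)) := by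
            rw [← hPq]; simpa using h1
          obtain ⟨w, hw, hw2⟩ := h2
          have h3 : w⁻¹ * (m * z * m⁻¹) ∈ Om P h := by
            rw [← QuotientGroup.eq]
            exact hw2
          have h4 : m * z * m⁻¹ = w * (w⁻¹ * (m * z * m⁻¹)) := by group
          rw [h4]
          exact mul_mem hw h3.1
        -- `m⁻¹ x m ∈ z E`
        have h5 : (g * x * g⁻¹)⁻¹ * (m⁻¹ * x * m) ∈ Om P h := by
          rw [← QuotientGroup.eq]
          have : QuotientGroup.mk' (Om P h) (g * x * g⁻¹) = QuotientGroup.mk' (Om P h) (m⁻¹ * x * m) := by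
            have h6 := hm2
            simpa using h6
          exact this
        -- so `m⁻¹ x m` commutes with `P`
        have h6 : ∀ w ∈ (P : Subgroup G), w * (m⁻¹ * x * m) = (m⁻¹ * x * m) * w := by
          intro w hw
          have h7 : m⁻¹ * x * m = (g * x * g⁻¹) * ((g * x * g⁻¹)⁻¹ * (m⁻¹ * x * m)) := by group
          rw [h7]
          have h8 : Commute w (g * x * g⁻¹) := hc w hw
          have h9 : Commute w ((g * x * g⁻¹)⁻¹ * (m⁻¹ * x * m)) := hZ w hw _ h5
          exact h8.mul_right h9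
        -- conjugate back: need `m⁻¹ P m ≤ P`
        have hmP' : m⁻¹ * y * m ∈ (P : Subgroup G) := by
          have h1 := (mem_normalizer_iff.1 (inv_mem hm) (QuotientGroup.mk' (Om P h) y)).1
            (by show _ ∈ (Pq : Subgroup (G ⧸ Om P h)); rw [hPq]; exact ⟨y, hy, rfl⟩)
          have h2 : QuotientGroup.mk' (Om P h) (m⁻¹ * y * m) ∈
              (P : Subgroup G).map (QuotientGroup.mk' (Om P h)) := by
            rw [← hPq]; simpa using h1
          obtain ⟨w, hw, hw2⟩ := h2
          have h3 : w⁻¹ * (m⁻¹ * y * m) ∈ Om P h := by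
            rw [← QuotientGroup.eq]
            exact hw2
          have h4 : m⁻¹ * y * m = w * (w⁻¹ * (m⁻¹ * y * m)) := by group
          rw [h4]
          exact mul_mem hw h3.1
        have h10 := h6 _ hmP'
        have h11 : m⁻¹ * (y * x) * m = m⁻¹ * (x * y) * m := by
          calc m⁻¹ * (y * x) * m = (m⁻¹ * y * m) * (m⁻¹ * x * m) := by group
            _ = (m⁻¹ * x * m) * (m⁻¹ * y * m) := h10
            _ = m⁻¹ * (x * y) * m := by group
        exact (mul_left_cancel (mul_right_cancel h11)).symm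
      exact fun a ha b hb => hcen a ha b hb
  · -- pass to the normalizer
    set N := normalizer ((Om P h : Subgroup G) : Set G) with hNdef
    have hcardN : Nat.card N < n := by
      rw [← hn]
      refine lt_of_le_of_ne (Subgroup.card_le_card_group N) ?_
      intro h1
      exact hN (Subgroup.eq_top_of_card_eq N h1)
    let PN : Sylow 2 N := P.subtype hPN
    have hPNmem : ∀ x : N, x ∈ (PN : Subgroup N) ↔ (x : G) ∈ (P : Subgroup G) := by
      intro x
      show x ∈ (P : Subgroup G).subgroupOf N ↔ _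
      rw [mem_subgroupOf]
    have hp : Prop1 (PN : Subgroup N) := by
      intro x hx
      rw [hPNmem] at hx
      obtain ⟨g, hg, hc⟩ := h x hx
      obtain ⟨m, hm, he⟩ := Cfsg.Agent.TwoFusion.GoldControl.control_elem P hsc hcomm hx hg
      refine ⟨⟨m, hm⟩, ?_, ?_⟩
      · rw [hPNmem]
        show m * (x : G) * m⁻¹ ∈ _
        rw [← he]
        exact hg
      · intro y hy
        rw [hPNmem] at hy
        apply Subtype.ext
        show (y : G) * (m * (x : G) * m⁻¹) = (m * (x : G) * m⁻¹) * y
        rw [← he]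
        exact hc y hy
    intro a ha b hb
    have h1 := ih _ hcardN N rfl PN hp ⟨a, hPN ha⟩ ((hPNmem _).2 ha) ⟨b, hPN hb⟩ ((hPNmem _).2 hb)
    exact congrArg Subtype.val h1

end Cfsg.Agent.H539.CaminaHerzog
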