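import Cfsg.Agent.H539.CaseA
import Cfsg.Agent.H168.GLFour
import Cfsg.Agent.Lib.ElemAbGL
import Cfsg.Agent.StdL2.G23Aut
import Cfsg.Agent.Held.HeldCardLe
import Cfsg.Agent.H151.GLClass
import Mathlib.GroupTheory.SpecificGroups.Cyclic

set_option autoImplicit false
set_option linter.unusedSectionVars false

/-!
# Class numbers of primitive groups with a regular elementary abelian normal subgroup

`of_abelian`: all degrees `n ≥ 5`.
-/

open MulAction

namespace Cfsg.Agent.H539.CaseA

open Cfsg.Agent.H540.ClassNum Cfsg.Agent.H539.BlockRed Cfsg.Agent.H539.PrimRed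

/-- proper subgroups of `GL(3,2)` have index at least `6` -/
theorem six_le_index (K : Subgroup (Matrix.GeneralLinearGroup (Fin 3) (ZMod 2))) (hK : K ≠ ⊤) :
    6 ≤ K.index := by
  classical
  have hs : IsSimpleGroup (Matrix.GeneralLinearGroup (Fin 3) (ZMod 2)) := StdL2.G23Aut.simple_GL
  by_contra hcon
  push Not at hcon
  have hcore : K.normalCore = ⊥ := by
    rcases IsSimpleGroup.eq_bot_or_eq_top_of_normal K.normalCore inferInstance with h | h
    · exact h
    · exfalso
      apply hK
      rw [eq_top_iff, ← h]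
      exact K.normalCore_le
  have hinj : Function.Injective (MulAction.toPermHom (Matrix.GeneralLinearGroup (Fin 3) (ZMod 2))
      (Matrix.GeneralLinearGroup (Fin 3) (ZMod 2) ⧸ K)) := by
    rw [← MonoidHom.ker_eq_bot_iff, ← Subgroup.normalCore_eq_ker]
    exact hcore
  have h1 := Nat.card_le_card_of_injective _ hinj
  have hfin : Fintype (Matrix.GeneralLinearGroup (Fin 3) (ZMod 2) ⧸ K) := Fintype.ofFinite _
  rw [Held.HeldCardLe.card_GL3, Nat.card_eq_fintype_card, Fintype.card_perm,
    ← Nat.card_eq_fintype_card, ← Subgroup.index_eq_card] at h1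
  have h2 : K.index.factorial ≤ Nat.factorial 5 := Nat.factorial_le (by omega)
  have h3 : Nat.factorial 5 = 120 := rfl
  omega

section

variable {G α : Type*} [Group G] [Finite G] [MulAction G α] [Finite α] [FaithfulSMul G α]
  [IsPreprimitive G α] (R : Subgroup G) [R.Normal] [IsPretransitive R α] (a : α)

/-- degree `5` -/
theorem of_five (hreg : stabilizer R a = ⊥) (h5 : Nat.card α = 5) :
    Nat.card (ConjClasses G) ≤ 2 ^ (Nat.card α - 1) := by
  apply of_card_le a
  have hc := card_regular R a hreg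
  have h5' : Fact (Nat.Prime 5) := ⟨by norm_num⟩
  have hcyc : IsCyclic R := isCyclic_of_prime_card (p := 5) (by rw [hc, h5])
  have h1 := Nat.card_le_card_of_injective _ (conjHom_injective R a)
  rw [IsCyclic.card_mulAut, hc, h5] at h1
  have h2 : Nat.totient 5 = 4 := by decide
  rw [card_eq (G := G) a, h5]
  omega

/-- degree `8` -/
theorem of_eight (hreg : stabilizer R a = ⊥) (hcomm : ∀ x y : R, x * y = y * x)
    (h2 : ∀ x : R, x ^ 2 = 1) (h8 : Nat.card α = 8) :
    Nat.card (ConjClasses G) ≤ 2 ^ (Nat.card α - 1) := by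
  have hc := card_regular R a hreg
  let : CommGroup R := { (inferInstance : Group R) with mul_comm := hcomm }
  have hp2 : Fact (Nat.Prime 2) := ⟨Nat.prime_two⟩
  obtain ⟨e⟩ := Lib.ElemAbGL.mulAut_equiv_GL (V := R) 2 3 h2 (by rw [hc, h8]; norm_num)
  let f : stabilizer G a →* Matrix.GeneralLinearGroup (Fin 3) (ZMod 2) :=
    e.toMonoidHom.comp (conjHom R a)
  have hf : Function.Injective f := e.injective.comp (conjHom_injective R a)
  by_cases hr : f.range = ⊤
  · have h1 : Nat.card (ConjClasses (stabilizer G a)) ≤ 8 := by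
      have e1 : stabilizer G a ≃* Matrix.GeneralLinearGroup (Fin 3) (ZMod 2) :=
        ((MonoidHom.ofInjective hf).trans (MulEquiv.subgroupCongr hr)).trans Subgroup.topEquiv
      rw [card_conjClasses_congr e1]
      refine (H151.GLC.card_classes_le).trans ((H151.Cnt.K_le _ ?_ 3 3).trans ?_)
      · rw [ZMod.card]; norm_num
      · rw [ZMod.card]; norm_num
    have h3 := le_mul (G := G) a
    rw [h8] at h3 ⊢
    calc Nat.card (ConjClasses G) ≤ _ := h3
      _ ≤ 8 * 8 := Nat.mul_le_mul_left _ h1
      _ ≤ _ := by norm_num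
  · apply of_card_le a
    have h1 := six_le_index f.range hr
    have h3 := f.range.card_mul_index
    rw [Held.HeldCardLe.card_GL3] at h3
    have h4 : Nat.card (stabilizer G a) = Nat.card f.range :=
      Nat.card_congr (MonoidHom.ofInjective hf).toEquiv
    have h5 : Nat.card f.range ≤ 28 := by
      by_contra hcon
      push Not at hcon
      have : 29 * 6 ≤ Nat.card f.range * f.range.index := Nat.mul_le_mul hcon h1
      omega
    rw [card_eq (G := G) a, h8, h4]
    have : 2 ^ 8 = 256 := by norm_num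
    omega

/-- degree `16` -/
theorem of_sixteen (hreg : stabilizer R a = ⊥) (hcomm : ∀ x y : R, x * y = y * x)
    (h2 : ∀ x : R, x ^ 2 = 1) (h16 : Nat.card α = 16) (ih : Bd 2 8) :
    Nat.card (ConjClasses G) ≤ 2 ^ (Nat.card α - 1) := by
  have hc := card_regular R a hreg
  let : CommGroup R := { (inferInstance : Group R) with mul_comm := hcomm }
  have hp2 : Fact (Nat.Prime 2) := ⟨Nat.prime_two⟩
  obtain ⟨e⟩ := Lib.ElemAbGL.mulAut_equiv_GL (V := R) 2 4 h2 (by rw [hc, h16]; norm_num)
  obtain ⟨e2⟩ := H168.gl_equiv (F := ZMod 2) (ZMod.card 2)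
  let f : stabilizer G a →* Equiv.Perm (Fin 8) :=
    (alternatingGroup (Fin 8)).subtype.comp (e2.toMonoidHom.comp
      (e.toMonoidHom.comp (conjHom R a)))
  have hf : Function.Injective f := Subtype.coe_injective.comp (e2.injective.comp
    (e.injective.comp (conjHom_injective R a)))
  have h1 := ih.of_injective (by simp) f hf
  have h3 := le_mul (G := G) a
  rw [h16] at h3 ⊢
  calc Nat.card (ConjClasses G) ≤ _ := h3
    _ ≤ 16 * 2 ^ (8 - 1) := Nat.mul_le_mul_left _ h1
    _ ≤ _ := by norm_num

/-- **degree `n ≥ 5`, a regular elementary abelian normal subgroup** -/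
theorem of_abelian (hreg : stabilizer R a = ⊥) (hcomm : ∀ x y : R, x * y = y * x)
    (p : ℕ) (hp : p.Prime) (hpow : ∀ x : R, x ^ p = 1) (h5 : 5 ≤ Nat.card α)
    (ih : ∀ m, m < Nat.card α → Bd 2 m) :
    Nat.card (ConjClasses G) ≤ 2 ^ (Nat.card α - 1) := by
  rcases Nat.lt_or_ge (Nat.card α) 32 with h32 | h32
  swap
  · exact of_large R a hreg h32
  have hc := card_regular R a hreg
  have hpf : Fact p.Prime := ⟨hp⟩
  have hpg : IsPGroup p R := fun x => ⟨1, by rw [pow_one]; exact hpow x⟩
  obtain ⟨d, hd⟩ := IsPGroup.iff_card.1 hpg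
  rw [hc] at hd
  by_cases hp2 : p = 2
  · subst hp2
    have hd3 : 3 ≤ d := by
      by_contra hcon
      have : 2 ^ d ≤ 2 ^ 2 := Nat.pow_le_pow_right (by norm_num) (by omega)
      omega
    have hd4 : d ≤ 4 := by
      by_contra hcon
      have : 2 ^ 5 ≤ 2 ^ d := Nat.pow_le_pow_right (by norm_num) (by omega)
      omega
    have hd34 : d = 3 ∨ d = 4 := by omega
    rcases hd34 with rfl | rfl
    · exact of_eight R a hreg hcomm hpow (by rw [hd]; norm_num)
    · exact of_sixteen R a hreg hcomm hpow (by rw [hd]; norm_num) (ih 8 (by rw [hd]; norm_num))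
  · have hodd : Odd (Nat.card α) := by
      rw [hd]
      exact (hp.odd_of_ne_two hp2).pow
    rcases Nat.lt_or_ge (Nat.card α) 7 with h7 | h7
    · have h55 : Nat.card α = 5 := by
        obtain ⟨k, hk⟩ := hodd
        omega
      exact of_five R a hreg h55
    · exact of_odd R a hreg hcomm hodd h7 ih

end

end Cfsg.Agent.H539.CaseA
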