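import Cfsg.Agent.H539.TabAsm
import Cfsg.Agent.H539.LBIdx
import Cfsg.Agent.H934.OutCl
import Cfsg.Agent.Mrg.Omega.TwoF.OrthTie
import Cfsg.Agent.S0292
import Cfsg.Agent.S0816

set_option autoImplicit false

/-!
# `IdxOK` for the groups `PΩ_{2m+1}(q)`
-/

namespace Cfsg.Agent.H539.RowOdd

open Cfsg.Agent.H540.ClassNum Cfsg.Agent.H934.OutB Cfsg.Agent.H934.OutCl

theorem lin_le {f : ℕ} (hf : 1 ≤ f) {p : ℕ} (hp : 2 ≤ p) : f * 2 ≤ p ^ f := by
  calc f * 2 ≤ 2 ^ f := by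
        obtain ⟨k, rfl⟩ : ∃ k, f = k + 1 := ⟨f - 1, by omega⟩
        rw [pow_succ]
        have : k < 2 ^ k := Nat.lt_two_pow_self
        omega
    _ ≤ p ^ f := Nat.pow_le_pow_left hp f

theorem five_le {q : ℕ} (hq : 3 ≤ q) : q ^ 5 ≤ 2 ^ (3 * q) := by
  have h : ∀ q, 3 ≤ q → q ^ 5 ≤ 8 ^ q := by
    intro q hq
    induction q, hq using Nat.le_induction with
    | base => norm_num
    | succ m hm ih =>
      have h1 : 3 * (m + 1) ≤ 4 * m := by omega
      have h2 : (3 * (m + 1)) ^ 5 ≤ (4 * m) ^ 5 := Nat.pow_le_pow_left h1 5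
      rw [mul_pow, mul_pow] at h2
      rw [pow_succ 8]
      norm_num at h2
      generalize (m + 1) ^ 5 = a at h2 ⊢
      generalize m ^ 5 = b at h2 ih ⊢
      omega
  rw [pow_mul]
  exact h q hq

theorem nine_le {m : ℕ} (hm : 3 ≤ m) : 3 * (2 * m ^ 2 + m + 1) + 2 ≤ 10 * 9 ^ (m - 2) := by
  induction m, hm using Nat.le_induction with
  | base => norm_num
  | succ m hm ih =>
    have e : m + 1 - 2 = (m - 2) + 1 := by omega
    rw [e, pow_succ 9]
    nlinarith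

theorem num {q m f : ℕ} (hq : 3 ≤ q) (hm : 3 ≤ m) (hf : f ≤ q) :
    f * q ^ (m ^ 2 + m * (m + 1)) ≤ 2 ^ (2 * q ^ (2 * m - 3) - 1) := by
  have h1 : f * q ^ (m ^ 2 + m * (m + 1)) ≤ q ^ (2 * m ^ 2 + m + 1) := by
    have e : 2 * m ^ 2 + m + 1 = (m ^ 2 + m * (m + 1)) + 1 := by ring
    rw [e, pow_succ' q]
    exact Nat.mul_le_mul_right _ hf
  refine h1.trans ?_
  rw [← Nat.pow_le_pow_iff_left (n := 5) (by norm_num)]
  have h2 : 9 ^ (m - 2) ≤ q ^ (2 * m - 4) := by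
    have e : 2 * m - 4 = 2 * (m - 2) := by omega
    rw [e, pow_mul]
    exact Nat.pow_le_pow_left (by nlinarith) _
  have h3 := nine_le hm
  have h4 : q ^ (2 * m - 3) = q * q ^ (2 * m - 4) := by
    rw [← pow_succ']
    congr 1
    omega
  have h5 : 3 * q * (2 * m ^ 2 + m + 1) + 5 ≤ 10 * q ^ (2 * m - 3) := by
    have h6 : q * (3 * (2 * m ^ 2 + m + 1) + 2) ≤ q * (10 * q ^ (2 * m - 4)) :=
      Nat.mul_le_mul_left _ (h3.trans (Nat.mul_le_mul_left _ h2))
    have h7 : q * (3 * (2 * m ^ 2 + m + 1) + 2) = 3 * q * (2 * m ^ 2 + m + 1) + 2 * q := by ring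
    have h8 : q * (10 * q ^ (2 * m - 4)) = 10 * q ^ (2 * m - 3) := by rw [h4]; ring
    omega
  calc (q ^ (2 * m ^ 2 + m + 1)) ^ 5 = (q ^ 5) ^ (2 * m ^ 2 + m + 1) := by
        rw [← pow_mul, ← pow_mul, mul_comm 5]
    _ ≤ (2 ^ (3 * q)) ^ (2 * m ^ 2 + m + 1) := Nat.pow_le_pow_left (five_le hq) _
    _ = 2 ^ (3 * q * (2 * m ^ 2 + m + 1)) := by rw [← pow_mul]
    _ ≤ 2 ^ ((2 * q ^ (2 * m - 3) - 1) * 5) := by
        apply Nat.pow_le_pow_right (by norm_num)
        omega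
    _ = _ := by rw [pow_mul]

theorem prod_le {q : ℕ} (m : ℕ) :
    ∏ i ∈ Finset.range m, (q ^ (2 * (i + 1)) - 1) ≤ q ^ (m * (m + 1)) := by
  induction m with
  | zero => simp
  | succ m ih =>
    rw [Finset.prod_range_succ]
    have e : (m + 1) * (m + 1 + 1) = m * (m + 1) + 2 * (m + 1) := by ring
    rw [e, pow_add]
    exact Nat.mul_le_mul ih (Nat.sub_le _ _)

theorem two_le_orderOf {p : ℕ} [Fact p.Prime] (hp2 : p ≠ 2) : 2 ≤ orderOf (2 : ZMod p) := by
  have hp : p.Prime := Fact.out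
  have h1 : (2 : ZMod p) ≠ 0 := by
    intro h
    have h2 : ((2 : ℕ) : ZMod p) = 0 := by exact_mod_cast h
    rw [ZMod.natCast_eq_zero_iff] at h2
    exact hp2 ((Nat.prime_dvd_prime_iff_eq hp Nat.prime_two).1 h2)
  have h2 : orderOf (2 : ZMod p) ≠ 1 := by
    rw [Ne, orderOf_eq_one_iff]
    intro h
    have h3 : (1 : ZMod p) = 0 := by
      have : (2 : ZMod p) - 1 = 0 := by rw [h, sub_self]
      rw [← this]; norm_num
    exact one_ne_zero h3
  have h3 : 0 < orderOf (2 : ZMod p) := by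
    rw [orderOf_pos_iff]
    have := isOfFinOrder_of_finite (Units.mk0 (2 : ZMod p) h1)
    rw [isOfFinOrder_iff_pow_eq_one] at this ⊢
    obtain ⟨n, hn, h⟩ := this
    refine ⟨n, hn, ?_⟩
    have h4 := congrArg Units.val h
    simpa using h4
  omega

variable {F : Type} [Field F] [Fintype F]

theorem main {m : ℕ} (hm : 3 ≤ m) (hodd : Odd (Fintype.card F))
    (hs : IsSimpleGroup (Cfsg.POmega F (Cfsg.quadFormOdd m F)))
    (hna : ¬ IsMulCommutative (Cfsg.POmega F (Cfsg.quadFormOdd m F))) :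
    IdxOK (Cfsg.POmega F (Cfsg.quadFormOdd m F)) := by
  obtain ⟨p, f, hp, hf, hF⟩ := exists_pf F
  have hpf := Fact.mk hp
  have : Finite (Cfsg.isometryGroup F (Cfsg.quadFormOdd m F)) := inferInstance
  have : Finite (Cfsg.POmega F (Cfsg.quadFormOdd m F)) := inferInstance
  have hpo : Odd p := by
    rw [hF] at hodd
    exact Nat.Odd.of_mul_left (n := p ^ (f - 1)) (by rwa [← pow_succ', Nat.sub_add_cancel hf])
  have hp2 : p ≠ 2 := by
    obtain ⟨k, hk⟩ := hpo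
    omega
  have h1 := Cfsg.Agent.S0816.result (F := F) p f hf hF hpo m hm
  have ho := card_out_of_aut hna h1
  have hchar : CharP F p := by
    obtain ⟨r, hr⟩ := CharP.exists F
    have hr' := FiniteField.card F r
    obtain ⟨n, hrp, hn⟩ := hr'
    rw [hF] at hn
    have h2 : p = r := by
      have h3 : p ∣ r ^ (n : ℕ) := by rw [← hn]; exact dvd_pow_self p (by omega)
      exact (Nat.prime_dvd_prime_iff_eq hp hrp).1 (hp.dvd_of_dvd_pow h3)
    rw [h2]
    exact hr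
  have hq3 : 3 ≤ Fintype.card F := by
    have h2 := hp.two_le
    rw [hF]; exact (show 3 ≤ p by omega).trans (Nat.le_self_pow (by omega) _)
  have hf2 := lin_le hf hp.two_le
  rw [← hF] at hf2
  have hLB := Omega.TwoF.OrthEl.lb_odd.{0} (F := F) hp2 m hm
  have hidx : ∀ K : Subgroup (Cfsg.POmega F (Cfsg.quadFormOdd m F)), K ≠ ⊤ →
      2 * Fintype.card F ^ (2 * m - 3) ≤ K.index := by
    intro K hK
    have h2 := LBIdx.le_index hna hLB K hK
    rw [Nat.card_eq_fintype_card] at h2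
    exact (Nat.mul_le_mul_right _ (two_le_orderOf hp2)).trans h2
  have hc := S0292.result (F := F) rfl hodd m hm
  have hc2 : 2 * Nat.card (Cfsg.POmega F (Cfsg.quadFormOdd m F)) ≤
      Fintype.card F ^ (m ^ 2 + m * (m + 1)) := by
    rw [hc, pow_add]
    exact Nat.mul_le_mul_left _ (prod_le m)
  refine IdxOK.of_k ho.le card_conjClasses_le_card hidx ?_
  calc 2 * f * Nat.card (Cfsg.POmega F (Cfsg.quadFormOdd m F))
      = f * (2 * Nat.card (Cfsg.POmega F (Cfsg.quadFormOdd m F))) := by ring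
    _ ≤ f * Fintype.card F ^ (m ^ 2 + m * (m + 1)) := Nat.mul_le_mul_left _ hc2
    _ ≤ _ := num hq3 hm (by omega)

theorem row : RowOf (fun T _ => Cfsg.IsPOmegaOdd T) := by
  rintro T _ _ _ hT ⟨F, _, _, m, hm, hodd, ⟨e⟩⟩
  have hs : IsSimpleGroup (Cfsg.POmega F (Cfsg.quadFormOdd m F)) :=
    (MulEquiv.isSimpleGroup_congr e).1 inferInstance
  have hna : ¬ IsMulCommutative (Cfsg.POmega F (Cfsg.quadFormOdd m F)) := by
    intro h
    apply hT
    refine ⟨⟨fun a b => ?_⟩⟩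
    apply e.injective
    rw [map_mul, map_mul]
    exact h.is_comm.comm _ _
  exact (main hm hodd hs hna).congr e.symm

end Cfsg.Agent.H539.RowOdd
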