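import Cfsg.Agent.H539.TabAsm
import Cfsg.Agent.H934.OutCl
import Cfsg.Agent.LieClassical.PomegaCard
import Cfsg.Agent.H955.QMinus
import Cfsg.Agent.S0287
import Cfsg.Agent.S0288
import Cfsg.Agent.S0293
import Cfsg.Agent.S0294
import Cfsg.Agent.S2558
import Cfsg.Agent.S2559

set_option autoImplicit false

/-!
# `IdxOK` for the groups `PΩ^±_2m(q)`
-/

namespace Cfsg.Agent.H539.RowOm

open Cfsg.Agent.H540.ClassNum Cfsg.Agent.H934.OutB Cfsg.Agent.H934.OutCl

theorem lin_le {f : ℕ} (hf : 1 ≤ f) {p : ℕ} (hp : 2 ≤ p) : f * 2 ≤ p ^ f := by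
  calc f * 2 ≤ 2 ^ f := by
        obtain ⟨k, rfl⟩ : ∃ k, f = k + 1 := ⟨f - 1, by omega⟩
        rw [pow_succ]
        have : k < 2 ^ k := Nat.lt_two_pow_self
        omega
    _ ≤ p ^ f := Nat.pow_le_pow_left hp f

/-- index bound from divisibility -/
theorem idx_of_card {T : Type*} [Group T] [Finite T] [IsSimpleGroup T]
    (hna : ¬ IsMulCommutative T) {c b : ℕ} (hc : Nat.card T = c)
    (h : ¬ 2 * c ∣ (b - 1).factorial) (K : Subgroup T) (hK : K ≠ ⊤) : b ≤ K.index := by
  by_contra hcon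
  push Not at hcon
  apply h
  have h1 := SmallSimple.Embed.two_mul_card_dvd_factorial_index hna K hK
  rw [hc] at h1
  exact h1.trans (Nat.factorial_dvd_factorial (by omega))

/-- `k(PΩ) ≤ 2 g k(O)` if `g |PΩ| = X`, `|O| = 2 X`. -/
theorem k_le {ι : Type} [Fintype ι] [DecidableEq ι] {F : Type*} [Field F] [Finite F]
    (Q : (ι → F) → F) {g X : ℕ} (h1 : Nat.card (Cfsg.isometryGroup F Q) = 2 * X)
    (h2 : g * Nat.card (Cfsg.POmega F Q) = X) :
    Nat.card (ConjClasses (Cfsg.POmega F Q)) ≤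
      2 * g * Nat.card (ConjClasses (Cfsg.isometryGroup F Q)) := by
  have h3 := LieClassical.PomegaCard.card_isometryGroup_eq (F := F) Q
  have hP : 0 < Nat.card (Cfsg.POmega F Q) := Nat.card_pos
  have hZ : 0 < Nat.card (Subgroup.center (Cfsg.Omega F Q)) := Nat.card_pos
  have h4 : (Cfsg.Omega F Q).index ≤ 2 * g := by
    have h5 : (2 * g) * Nat.card (Cfsg.POmega F Q) =
        ((Cfsg.Omega F Q).index * Nat.card (Subgroup.center (Cfsg.Omega F Q))) *
          Nat.card (Cfsg.POmega F Q) := by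
      rw [mul_assoc, h2, ← h1, h3]
      ring
    have h6 := Nat.eq_of_mul_eq_mul_right hP h5
    rw [h6]
    exact Nat.le_mul_of_pos_right _ hZ
  calc Nat.card (ConjClasses (Cfsg.POmega F Q)) ≤ Nat.card (ConjClasses (Cfsg.Omega F Q)) :=
        card_conjClasses_le_of_surjective (QuotientGroup.mk' _) (QuotientGroup.mk'_surjective _)
    _ ≤ (Cfsg.Omega F Q).index * Nat.card (ConjClasses (Cfsg.isometryGroup F Q)) := le_index_mul _
    _ ≤ _ := Nat.mul_le_mul_right _ h4

/-! ### arithmetic -/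

theorem sq_le {m : ℕ} (hm : 16 ≤ m) : 90 * m ^ 2 ≤ 2 ^ (m - 1) := by
  induction m, hm using Nat.le_induction with
  | base => norm_num
  | succ m hm ih =>
    have e : m + 1 - 1 = (m - 1) + 1 := by omega
    rw [e, pow_succ 2]
    have h1 : (m + 1) ^ 2 ≤ 2 * m ^ 2 := by nlinarith
    omega

theorem sq_le' {m : ℕ} (hm : 25 ≤ m) : 912 * m ^ 2 ≤ 2 ^ (m - 1) := by
  induction m, hm using Nat.le_induction with
  | base => norm_num
  | succ m hm ih =>
    have e : m + 1 - 1 = (m - 1) + 1 := by omega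
    rw [e, pow_succ 2]
    have h1 : (m + 1) ^ 2 ≤ 2 * m ^ 2 := by nlinarith
    omega

theorem five_aux {m : ℕ} (hm : 16 ≤ m) : (m + 1) ^ 5 ≤ 4 * m ^ 5 := by
  have h1 : 16 * (m + 1) ≤ 17 * m := by omega
  have h2 : (16 * (m + 1)) ^ 5 ≤ (17 * m) ^ 5 := Nat.pow_le_pow_left h1 5
  rw [mul_pow, mul_pow] at h2
  norm_num at h2
  generalize (m + 1) ^ 5 = a at h2 ⊢
  generalize m ^ 5 = b at h2 ⊢
  omega

theorem five_le {m : ℕ} (hm : 16 ≤ m) : 900 * m ^ 5 ≤ 4 ^ (m - 1) := by
  induction m, hm using Nat.le_induction with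
  | base => norm_num
  | succ m hm ih =>
    have e : m + 1 - 1 = (m - 1) + 1 := by omega
    rw [e, pow_succ 4]
    have h1 := five_aux hm
    omega

theorem five_le' {m : ℕ} (hm : 25 ≤ m) : 92416 * m ^ 5 ≤ 4 ^ (m - 1) := by
  induction m, hm using Nat.le_induction with
  | base => norm_num
  | succ m hm ih =>
    have e : m + 1 - 1 = (m - 1) + 1 := by omega
    rw [e, pow_succ 4]
    have h1 := five_aux (m := m) (by omega)
    omega

/-- plus type: `c f ≤ ... ` -/
theorem num_plus {q m o k c d : ℕ} (hm : 2 ≤ m) (ho : o * d ≤ c * q)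
    (hk : k ≤ d * q ^ m) (h2 : q ^ 2 ≤ q ^ (m - 1))
    (hN : c * (q ^ (m - 1)) ^ 2 ≤ 2 ^ (q ^ (m - 1) - 1)) : o * k ≤ 2 ^ (q ^ (m - 1) - 1) := by
  have e : q ^ m = q * q ^ (m - 1) := by
    rw [← pow_succ', Nat.sub_add_cancel (by omega)]
  refine le_trans ?_ hN
  calc o * k ≤ o * (d * q ^ m) := Nat.mul_le_mul_left _ hk
    _ = (o * d) * (q * q ^ (m - 1)) := by rw [e]; ring
    _ ≤ (c * q) * (q * q ^ (m - 1)) := Nat.mul_le_mul_right _ ho
    _ = c * (q ^ 2 * q ^ (m - 1)) := by ring
    _ ≤ c * (q ^ (m - 1) * q ^ (m - 1)) :=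
        Nat.mul_le_mul_left _ (Nat.mul_le_mul_right _ h2)
    _ = _ := by ring

/-- minus type -/
theorem num_minus {q m o k c d : ℕ} (hm : 4 ≤ m) (ho : o * d ≤ c * q)
    (hk : k ≤ d * q ^ m) (h2 : q ^ 2 ≤ q ^ (m - 2))
    (hN : c ^ 2 * (q ^ (m - 2)) ^ 5 ≤ 4 ^ (q ^ (m - 2) - 1)) : o * k ≤ 2 ^ (q ^ (m - 2) - 1) := by
  have e : q ^ m = q ^ 2 * q ^ (m - 2) := by
    rw [← pow_add]
    congr 1
    omega
  rw [← Nat.pow_le_pow_iff_left (n := 2) (by norm_num)]
  have h3 : (2 ^ (q ^ (m - 2) - 1)) ^ 2 = 4 ^ (q ^ (m - 2) - 1) := by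
    rw [← pow_mul, mul_comm, pow_mul]; norm_num
  rw [h3]
  refine le_trans ?_ hN
  have h4 : o * k ≤ c * (q ^ 3 * q ^ (m - 2)) := by
    calc o * k ≤ o * (d * q ^ m) := Nat.mul_le_mul_left _ hk
      _ = (o * d) * (q ^ 2 * q ^ (m - 2)) := by rw [e]; ring
      _ ≤ (c * q) * (q ^ 2 * q ^ (m - 2)) := Nat.mul_le_mul_right _ ho
      _ = _ := by ring
  calc (o * k) ^ 2 ≤ (c * (q ^ 3 * q ^ (m - 2))) ^ 2 := Nat.pow_le_pow_left h4 2
    _ = c ^ 2 * ((q ^ 2) ^ 3 * (q ^ (m - 2)) ^ 2) := by ring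
    _ ≤ c ^ 2 * ((q ^ (m - 2)) ^ 3 * (q ^ (m - 2)) ^ 2) :=
        Nat.mul_le_mul_left _ (Nat.mul_le_mul_right _ (Nat.pow_le_pow_left h2 3))
    _ = _ := by ring

variable {F : Type} [Field F] [Fintype F]

theorem gcd_even {p f m : ℕ} (hp2 : p = 2) (hf : 1 ≤ f) (hm : 1 ≤ m) :
    Nat.gcd 4 ((p ^ f) ^ m - 1) = 1 ∧ Nat.gcd 4 ((p ^ f) ^ m + 1) = 1 := by
  obtain ⟨k, hk⟩ : ∃ k, (p ^ f) ^ m = 2 * k := by
    rw [hp2, ← pow_mul]
    obtain ⟨j, hj⟩ : ∃ j, f * m = j + 1 := ⟨f * m - 1, by
      have : 1 ≤ f * m := Nat.mul_pos hf hm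
      omega⟩
    exact ⟨2 ^ j, by rw [hj, pow_succ, mul_comm]⟩
  have hk0 : 1 ≤ k := by
    have : 0 < (p ^ f) ^ m := by rw [hp2]; positivity
    omega
  rw [hk]
  have e : (4 : ℕ) = 2 ^ 2 := by norm_num
  rw [e]
  constructor
  · apply Nat.Coprime.pow_left
    rw [Nat.coprime_two_left]
    exact ⟨k - 1, by omega⟩
  · apply Nat.Coprime.pow_left
    rw [Nat.coprime_two_left]
    exact ⟨k, rfl⟩

/-! ### plus type -/

theorem plus {m : ℕ} (hm : 4 ≤ m) (hs : IsSimpleGroup (Cfsg.POmega F (Cfsg.quadFormPlus m F)))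
    (hna : ¬ IsMulCommutative (Cfsg.POmega F (Cfsg.quadFormPlus m F))) :
    IdxOK (Cfsg.POmega F (Cfsg.quadFormPlus m F)) := by
  obtain ⟨p, f, hp, hf, hF⟩ := exists_pf F
  have := Fact.mk hp
  have : Finite (Cfsg.isometryGroup F (Cfsg.quadFormPlus m F)) := inferInstance
  have : Finite (Cfsg.POmega F (Cfsg.quadFormPlus m F)) := inferInstance
  have h1 := Cfsg.Agent.S0817.result (F := F) p f hf hF m hm
  have ho := card_out_of_aut hna h1
  have hidx : ∀ K : Subgroup (Cfsg.POmega F (Cfsg.quadFormPlus m F)), K ≠ ⊤ →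
      Fintype.card F ^ (m - 1) ≤ K.index := fun K hK => H934.IdxCl.pomega_plus (by omega) hs K hK
  have hq2 : 2 ≤ Fintype.card F := Fintype.one_lt_card
  have hf2 := lin_le hf hp.two_le
  rw [← hF] at hf2
  have hcO := S0287.result (F := F) rfl m (by omega)
  have hcP := S0293.result (F := F) rfl m hm
  rw [mul_assoc, mul_assoc, ← mul_assoc (Fintype.card F ^ (m * (m - 1)))] at hcO
  have hk := k_le (Cfsg.quadFormPlus m F) hcO hcP
  rcases hp.eq_two_or_odd' with hp2 | hpo
  · have hg : Nat.gcd 4 (Fintype.card F ^ m - 1) = 1 := by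
      rw [hF]; exact (gcd_even hp2 hf (by omega)).1
    rw [hg] at hk hcP
    have heven : Even (Fintype.card F) := by
      rw [hF, hp2]
      exact (Nat.even_pow.2 ⟨even_two, by omega⟩)
    have hk1 : Nat.card (ConjClasses (Cfsg.isometryGroup F (Cfsg.quadFormPlus m F))) ≤
        15 * Fintype.card F ^ m := by
      obtain ⟨a, b, hab⟩ := H955.exists_aniso_coeff F
      exact ((S2559.result (F := F) heven m (by omega) a b hab).1).2
    rw [if_pos hp2] at ho
    have ho6 : Nat.card (Cfsg.Out (Cfsg.POmega F (Cfsg.quadFormPlus m F))) ≤ 6 * f := by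
      rw [ho]
      apply Nat.mul_le_mul_right
      split_ifs <;> norm_num
    by_cases h16 : 16 ≤ Fintype.card F ^ (m - 1)
    · refine IdxOK.of_k ho6 (k := 30 * Fintype.card F ^ m) (by omega) hidx
        (num_plus (c := 90) (d := 30) (by omega) ?_ le_rfl ?_ (sq_le h16))
      · omega
      · exact Nat.pow_le_pow_right (by omega) (by omega)
    · push Not at h16
      have hq : Fintype.card F = 2 := by
        by_contra hne
        have : 3 ^ 3 ≤ Fintype.card F ^ (m - 1) := (Nat.pow_le_pow_left (by omega) 3).trans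
          (Nat.pow_le_pow_right (by omega) (by omega))
        omega
      have hm4 : m = 4 := by
        by_contra hne
        rw [hq] at h16
        have : 2 ^ 4 ≤ 2 ^ (m - 1) := Nat.pow_le_pow_right (by norm_num) (by omega)
        omega
      subst hm4
      rw [hq] at hf2 hk1
      have hf1 : f = 1 := by omega
      rw [hf1] at ho6
      have hc : Nat.card (Cfsg.POmega F (Cfsg.quadFormPlus 4 F)) = 174182400 := by
        rw [hq] at hcP
        simp only [Finset.prod_range_succ, Finset.prod_range_zero] at hcP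
        norm_num at hcP
        exact hcP
      exact IdxOK.of_k ho6 (k := 480) (b := 13) (by omega)
        (idx_of_card hna hc (by decide +kernel)) (by norm_num)
  · have hp3 : 3 ≤ p := by
      have h2 := hp.two_le
      obtain ⟨k, hk⟩ := hpo
      omega
    have hq3 : 3 ≤ Fintype.card F := by
      rw [hF]; exact hp3.trans (Nat.le_self_pow (by omega) _)
    have hodd : Odd (Fintype.card F) := by rw [hF]; exact hpo.pow
    have hg : Nat.gcd 4 (Fintype.card F ^ m - 1) ≤ 4 := Nat.gcd_le_left _ (by norm_num)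
    have hk1 : 2 * Nat.card (ConjClasses (Cfsg.isometryGroup F (Cfsg.quadFormPlus m F))) ≤
        19 * Fintype.card F ^ m := by
      obtain ⟨a, b, hab⟩ := H955.exists_aniso_coeff F
      exact ((S2558.result (F := F) hodd m (by omega) a b hab).1).2
    have hk2 : Nat.card (ConjClasses (Cfsg.POmega F (Cfsg.quadFormPlus m F))) ≤
        76 * Fintype.card F ^ m := by
      refine hk.trans ((Nat.mul_le_mul_right _ (Nat.mul_le_mul_left 2 hg)).trans ?_)
      omega
    rw [if_neg (show ¬ p = 2 by omega)] at ho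
    have ho24 : Nat.card (Cfsg.Out (Cfsg.POmega F (Cfsg.quadFormPlus m F))) ≤ 24 * f := by
      rw [ho]
      apply Nat.mul_le_mul_right
      split_ifs <;> norm_num
    have h27 : 25 ≤ Fintype.card F ^ (m - 1) := by
      calc 25 ≤ 3 ^ 3 := by norm_num
        _ ≤ Fintype.card F ^ 3 := Nat.pow_le_pow_left hq3 3
        _ ≤ _ := Nat.pow_le_pow_right (by omega) (by omega)
    refine IdxOK.of_k ho24 hk2 hidx
      (num_plus (c := 912) (d := 76) (by omega) ?_ le_rfl ?_ (sq_le' h27))
    · omega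
    · exact Nat.pow_le_pow_right (by omega) (by omega)

/-! ### minus type -/

theorem minus {m : ℕ} (hm : 4 ≤ m) (a b : F)
    (hab : ∀ z₁ z₂ : F, z₁ ^ 2 + a * z₁ * z₂ + b * z₂ ^ 2 = 0 → z₁ = 0 ∧ z₂ = 0)
    (hs : IsSimpleGroup (Cfsg.POmega F (Cfsg.quadFormMinus (m - 1) F a b)))
    (hna : ¬ IsMulCommutative (Cfsg.POmega F (Cfsg.quadFormMinus (m - 1) F a b))) :
    IdxOK (Cfsg.POmega F (Cfsg.quadFormMinus (m - 1) F a b)) := by
  obtain ⟨p, f, hp, hf, hF⟩ := exists_pf F
  have := Fact.mk hp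
  have : Finite (Cfsg.isometryGroup F (Cfsg.quadFormMinus (m - 1) F a b)) := inferInstance
  have : Finite (Cfsg.POmega F (Cfsg.quadFormMinus (m - 1) F a b)) := inferInstance
  have h1 := Cfsg.Agent.S0818.result (F := F) p f hf hF m hm a b hab
  have ho := card_out_of_aut hna h1
  have hidx : ∀ K : Subgroup (Cfsg.POmega F (Cfsg.quadFormMinus (m - 1) F a b)), K ≠ ⊤ →
      Fintype.card F ^ (m - 2) ≤ K.index := by
    intro K hK
    have h3 := H934.IdxCl.pomega_minus (m := m - 1) (by omega) a b hs K hK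
    rwa [show m - 1 - 1 = m - 2 by omega] at h3
  have hq2 : 2 ≤ Fintype.card F := Fintype.one_lt_card
  have hf2 := lin_le hf hp.two_le
  rw [← hF] at hf2
  have hcO := S0288.result (F := F) rfl m (by omega) a b hab
  have hcP := S0294.result (F := F) rfl m hm a b hab
  rw [mul_assoc, mul_assoc, ← mul_assoc (Fintype.card F ^ (m * (m - 1)))] at hcO
  have hk := k_le (Cfsg.quadFormMinus (m - 1) F a b) hcO hcP
  have hpow2 : Fintype.card F ^ 2 ≤ Fintype.card F ^ (m - 2) :=
    Nat.pow_le_pow_right (by omega) (by omega)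
  rcases hp.eq_two_or_odd' with hp2 | hpo
  · have hg : Nat.gcd 4 (Fintype.card F ^ m + 1) = 1 := by
      rw [hF]; exact (gcd_even hp2 hf (by omega)).2
    rw [hg] at hk hcP
    have heven : Even (Fintype.card F) := by
      rw [hF, hp2]
      exact (Nat.even_pow.2 ⟨even_two, by omega⟩)
    have hk1 := ((S2559.result (F := F) heven m (by omega) a b hab).2).2
    rw [if_pos hp2] at ho
    by_cases h16 : 16 ≤ Fintype.card F ^ (m - 2)
    · refine IdxOK.of_k ho.le (k := 30 * Fintype.card F ^ m) (by omega) hidx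
        (num_minus (c := 30) (d := 30) (by omega) ?_ le_rfl hpow2 (five_le h16))
      omega
    · push Not at h16
      have hq : Fintype.card F = 2 := by
        have h3 : Fintype.card F ≤ 3 := by
          by_contra hne
          have : 4 ^ 2 ≤ Fintype.card F ^ (m - 2) :=
            (Nat.pow_le_pow_left (by omega) 2).trans hpow2
          omega
        obtain ⟨k, hk⟩ := heven
        omega
      have hm5 : m < 6 := by
        by_contra hne
        rw [hq] at h16
        have : 2 ^ 4 ≤ 2 ^ (m - 2) := Nat.pow_le_pow_right (by norm_num) (by omega)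
        omega
      rw [hq] at hf2 hk1 hcP
      have hf1 : f = 1 := by omega
      rw [hf1] at ho
      interval_cases m
      · have hc : Nat.card (Cfsg.POmega F (Cfsg.quadFormMinus (4 - 1) F a b)) = 197406720 := by
          simp only [Finset.prod_range_succ, Finset.prod_range_zero] at hcP
          norm_num at hcP
          exact hcP
        exact IdxOK.of_k ho.le (k := 480) (b := 11) (by omega)
          (idx_of_card hna hc (by decide +kernel)) (by norm_num)
      · have hc : Nat.card (Cfsg.POmega F (Cfsg.quadFormMinus (5 - 1) F a b)) =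
            25015379558400 := by
          simp only [Finset.prod_range_succ, Finset.prod_range_zero] at hcP
          norm_num at hcP
          exact hcP
        exact IdxOK.of_k ho.le (k := 960) (b := 12) (by omega)
          (idx_of_card hna hc (by decide +kernel)) (by norm_num)
  · have hp3 : 3 ≤ p := by
      have h2 := hp.two_le
      obtain ⟨k, hk⟩ := hpo
      omega
    have hq3 : 3 ≤ Fintype.card F := by
      rw [hF]; exact hp3.trans (Nat.le_self_pow (by omega) _)
    have hodd : Odd (Fintype.card F) := by rw [hF]; exact hpo.pow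
    have hg : Nat.gcd 4 (Fintype.card F ^ m + 1) ≤ 4 := Nat.gcd_le_left _ (by norm_num)
    have hk1 := ((S2558.result (F := F) hodd m (by omega) a b hab).2).2
    have hk2 : Nat.card (ConjClasses (Cfsg.POmega F (Cfsg.quadFormMinus (m - 1) F a b))) ≤
        76 * Fintype.card F ^ m := by
      refine hk.trans ((Nat.mul_le_mul_right _ (Nat.mul_le_mul_left 2 hg)).trans ?_)
      omega
    rw [if_neg (show ¬ p = 2 by omega)] at ho
    have ho8 : Nat.card (Cfsg.Out (Cfsg.POmega F (Cfsg.quadFormMinus (m - 1) F a b))) ≤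
        8 * f := by
      rw [ho]
      apply Nat.mul_le_mul_right
      split_ifs <;> norm_num
    by_cases h25 : 25 ≤ Fintype.card F ^ (m - 2)
    · refine IdxOK.of_k ho8 hk2 hidx
        (num_minus (c := 304) (d := 76) (by omega) ?_ le_rfl hpow2 (five_le' h25))
      omega
    · push Not at h25
      have hq : Fintype.card F = 3 := by
        have h3 : Fintype.card F ≤ 4 := by
          by_contra hne
          have : 5 ^ 2 ≤ Fintype.card F ^ (m - 2) :=
            (Nat.pow_le_pow_left (by omega) 2).trans hpow2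
          omega
        obtain ⟨k, hk⟩ := hodd
        omega
      have hm4 : m = 4 := by
        by_contra hne
        rw [hq] at h25
        have : 3 ^ 3 ≤ 3 ^ (m - 2) := Nat.pow_le_pow_right (by norm_num) (by omega)
        omega
      subst hm4
      rw [hq] at hf2 hk2 hcP
      have hf1 : f = 1 := by omega
      rw [hf1] at ho8
      have hc : Nat.card (Cfsg.POmega F (Cfsg.quadFormMinus (4 - 1) F a b)) =
          10151968619520 := by
        simp only [Finset.prod_range_succ, Finset.prod_range_zero] at hcP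
        norm_num at hcP
        omega
      exact IdxOK.of_k ho8 (k := 6156) (b := 17) (by omega)
        (idx_of_card hna hc (by decide +kernel)) (by norm_num)

theorem transfer {T X : Type*} [Group T] [Group X] (e : T ≃* X) (hT : ¬ IsMulCommutative T) :
    ¬ IsMulCommutative X := by
  intro h
  apply hT
  refine ⟨⟨fun a b => ?_⟩⟩
  apply e.injective
  rw [map_mul, map_mul]
  exact h.is_comm.comm _ _

theorem rowPlus : RowOf (fun T _ => Cfsg.IsPOmegaPlus T) := by
  rintro T _ _ _ hT ⟨F, _, _, m, hm, ⟨e⟩⟩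
  have hs : IsSimpleGroup (Cfsg.POmega F (Cfsg.quadFormPlus m F)) :=
    (MulEquiv.isSimpleGroup_congr e).1 inferInstance
  exact (plus hm hs (transfer e hT)).congr e.symm

theorem rowMinus : RowOf (fun T _ => Cfsg.IsPOmegaMinus T) := by
  rintro T _ _ _ hT ⟨F, _, _, m, a, b, hm, hab, ⟨e⟩⟩
  have hs : IsSimpleGroup (Cfsg.POmega F (Cfsg.quadFormMinus (m - 1) F a b)) :=
    (MulEquiv.isSimpleGroup_congr e).1 inferInstance
  exact (minus hm a b hab hs (transfer e hT)).congr e.symm

end Cfsg.Agent.H539.RowOm
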