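import Cfsg.Agent.H539.TabAsm
import Cfsg.Agent.H934.OutCl
import Cfsg.Agent.S0252
import Cfsg.Agent.S0254
import Cfsg.Agent.S0806
import Cfsg.Agent.S2480

set_option autoImplicit false

/-!
# `IdxOK` for the groups `PSL_n(q)`
-/

namespace Cfsg.Agent.H539.RowPSL

open Cfsg.Agent.H540.ClassNum Cfsg.Agent.H934.OutB Cfsg.Agent.H934.OutCl Matrix

/-- from `d o = |Out|`, `d k ≤ B` -/
theorem of_mul {T : Type*} [Group T] {d o B b : ℕ}
    (ho : Nat.card (Cfsg.Out T) = o * d) (hk : d * Nat.card (ConjClasses T) ≤ B)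
    (hb : ∀ K : Subgroup T, K ≠ ⊤ → b ≤ K.index) (h : o * B ≤ 2 ^ (b - 1)) : IdxOK T := by
  intro K hK
  rw [ho, mul_assoc]
  refine (Nat.mul_le_mul_left _ hk).trans (h.trans ?_)
  exact Nat.pow_le_pow_right (by norm_num) (Nat.sub_le_sub_right (hb K hK) 1)

/-! ### arithmetic -/

theorem lin_le {f : ℕ} (hf : 1 ≤ f) {p : ℕ} (hp : 2 ≤ p) : f * 2 ≤ p ^ f := by
  calc f * 2 ≤ 2 ^ f := by
        obtain ⟨k, rfl⟩ : ∃ k, f = k + 1 := ⟨f - 1, by omega⟩
        rw [pow_succ]
        have : k < 2 ^ k := Nat.lt_two_pow_self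
        omega
    _ ≤ p ^ f := Nat.pow_le_pow_left hp f

theorem num_two {p f q : ℕ} (hp : 2 ≤ p) (hf : 1 ≤ f) (hq : q = p ^ f) (h8 : 8 ≤ q) :
    f * (q ^ (2 - 1) + 5 * q ^ (2 - 2)) ≤ 2 ^ (q + 1 - 1) := by
  have h1 := lin_le hf hp
  rw [← hq] at h1
  have h2 : q ^ (2 - 1) + 5 * q ^ (2 - 2) = q + 5 := by norm_num
  rw [h2, Nat.add_sub_cancel]
  have h3 : ∀ m, 8 ≤ m → m * (m + 5) ≤ 2 * 2 ^ m := by
    intro m hm
    induction m, hm using Nat.le_induction with
    | base => norm_num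
    | succ m hm ih => rw [pow_succ]; nlinarith
  have h4 := h3 q h8
  have h5 : f * 2 * (q + 5) ≤ q * (q + 5) := Nat.mul_le_mul_right _ h1
  have h6 : f * 2 * (q + 5) = 2 * (f * (q + 5)) := by ring
  omega

theorem cube_le {m : ℕ} (hm : 8 ≤ m) : 49 * m ^ 3 ≤ 4 ^ m := by
  induction m, hm using Nat.le_induction with
  | base => norm_num
  | succ m hm ih =>
    rw [pow_succ 4]
    have h1 : (m + 1) ^ 3 ≤ 4 * m ^ 3 := by nlinarith [Nat.mul_le_mul hm hm]
    omega

/-- `2 f (q^(n-1) + 5 q^(n-2)) ≤ 2 ^ (q^(n-1) - 1)` unless `q = 2`, `n = 3`. -/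
theorem num_ge_three {p f q n : ℕ} (hp : 2 ≤ p) (hf : 1 ≤ f) (hq : q = p ^ f) (hn : 3 ≤ n)
    (h8 : 8 ≤ q ^ (n - 1)) :
    2 * f * (q ^ (n - 1) + 5 * q ^ (n - 2)) ≤ 2 ^ (q ^ (n - 1) - 1) := by
  have h1 := lin_le hf hp
  rw [← hq] at h1
  have hq2 : 2 ≤ q := by omega
  obtain ⟨k, rfl⟩ : ∃ k, n = k + 3 := ⟨n - 3, by omega⟩
  have e1 : k + 3 - 1 = k + 2 := by omega
  have e2 : k + 3 - 2 = k + 1 := by omega
  rw [e1] at h8 ⊢
  rw [e2]
  have h2 : 2 * q ^ (k + 1) ≤ q ^ (k + 2) := by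
    rw [pow_succ q (k + 1), mul_comm]
    exact Nat.mul_le_mul_left _ hq2
  have h3 : q ^ 2 ≤ q ^ (k + 2) := Nat.pow_le_pow_right (by omega) (by omega)
  set N := q ^ (k + 2) with hN
  set M := q ^ (k + 1) with hM
  have h4 : 7 * q * N ≤ 2 ^ N := by
    rw [← Nat.pow_le_pow_iff_left (n := 2) (by norm_num)]
    calc (7 * q * N) ^ 2 = 49 * (q ^ 2) * N ^ 2 := by ring
      _ ≤ 49 * N * N ^ 2 := Nat.mul_le_mul_right _ (Nat.mul_le_mul_left _ h3)
      _ = 49 * N ^ 3 := by ring
      _ ≤ 4 ^ N := cube_le h8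
      _ = (2 ^ N) ^ 2 := by rw [← pow_mul, mul_comm, pow_mul]; norm_num
  have h5 : 2 ^ N = 2 * 2 ^ (N - 1) := by
    rw [← pow_succ', Nat.sub_add_cancel (by omega)]
  have h6 : 2 * (2 * f * (N + 5 * M)) ≤ 7 * q * N := by
    calc 2 * (2 * f * (N + 5 * M)) = (f * 2) * (2 * N + 5 * (2 * M)) := by ring
      _ ≤ q * (2 * N + 5 * N) := Nat.mul_le_mul h1 (by omega)
      _ = 7 * q * N := by ring
  omega

/-! ### the rows -/

variable {F : Type} [Field F] [Fintype F]

theorem two (h4 : 4 ≤ Fintype.card F) (hs : IsSimpleGroup (ProjectiveSpecialLinearGroup (Fin 2) F))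
    (hna : ¬ IsMulCommutative (ProjectiveSpecialLinearGroup (Fin 2) F)) :
    IdxOK (ProjectiveSpecialLinearGroup (Fin 2) F) := by
  obtain ⟨p, f, hp, hf, hF⟩ := exists_pf F
  have := Fact.mk hp
  have := finite_psl (F := F) 2
  by_cases hq4 : Fintype.card F = 4
  · obtain ⟨e⟩ := S0252.result hq4
    exact (IdxAlt.main (n := 5) le_rfl).congr e.symm
  by_cases hq9 : Fintype.card F = 9
  · obtain ⟨e⟩ := S0254.result hq9
    exact (IdxAlt.main (n := 6) (by norm_num)).congr e.symm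
  have h1 := Cfsg.Agent.S0813.result (F := F) p f hf hF 2 (by omega) (fun _ => by rw [← hF]; exact h4)
  rw [if_pos rfl, card_pgl (by omega), ← mul_assoc, one_mul] at h1
  have h2 := card_out_of_aut hna h1
  have h3 := (S2480.result (F := F) 2 le_rfl).2
  by_cases hf1 : Fintype.card F = 5 ∨ Fintype.card F = 7 ∨ Fintype.card F = 11
  · -- prime fields
    have hf1' : f = 1 := by
      by_contra hne
      have h5 : p ^ 2 ∣ p ^ f := pow_dvd_pow p (by omega)
      rw [← hF] at h5
      have h6 : p ∣ Fintype.card F := (dvd_pow_self p (by norm_num)).trans h5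
      rcases hf1 with h | h | h <;> rw [h] at h5 h6
      · rw [(Nat.prime_dvd_prime_iff_eq hp (by norm_num)).1 h6] at h5; omega
      · rw [(Nat.prime_dvd_prime_iff_eq hp (by norm_num)).1 h6] at h5; omega
      · rw [(Nat.prime_dvd_prime_iff_eq hp (by norm_num)).1 h6] at h5; omega
    refine of_mul h2 h3 (fun K hK => SmallSimple.Embed.five_le_index hna K hK) ?_
    rw [hf1']
    rcases hf1 with h | h | h <;> rw [h] <;> norm_num
  · push Not at hf1
    have hq : Fintype.card F ∉ ({2, 3, 5, 7, 9, 11} : Finset ℕ) := by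
      simp only [Finset.mem_insert, Finset.mem_singleton]
      omega
    have h8 : 8 ≤ Fintype.card F := by
      by_contra hcon
      have h6 : Fintype.card F = 6 := by omega
      rw [h6] at hF
      have h7 : p ∣ 6 := by rw [hF]; exact dvd_pow_self p (by omega)
      have h2' : 2 ∣ p ^ f := by rw [← hF]; norm_num
      have h3' : 3 ∣ p ^ f := by rw [← hF]; norm_num
      have h2'' := (Nat.prime_dvd_prime_iff_eq Nat.prime_two hp).1 (Nat.prime_two.dvd_of_dvd_pow h2')
      have h3'' := (Nat.prime_dvd_prime_iff_eq Nat.prime_three hp).1 (Nat.prime_three.dvd_of_dvd_pow h3')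
      omega
    exact of_mul h2 h3 (S0806.result rfl hq).1 (num_two hp.two_le hf hF h8)

theorem ge_three {n : ℕ} (hn : 3 ≤ n) (hs : IsSimpleGroup (ProjectiveSpecialLinearGroup (Fin n) F))
    (hna : ¬ IsMulCommutative (ProjectiveSpecialLinearGroup (Fin n) F)) :
    IdxOK (ProjectiveSpecialLinearGroup (Fin n) F) := by
  obtain ⟨p, f, hp, hf, hF⟩ := exists_pf F
  have := Fact.mk hp
  have := finite_psl (F := F) n
  have h1 := Cfsg.Agent.S0813.result (F := F) p f hf hF n (by omega) (by omega)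
  rw [if_neg (by omega), card_pgl (by omega), ← mul_assoc] at h1
  have h2 := card_out_of_aut hna h1
  have h3 := (S2480.result (F := F) n (by omega)).2
  have hq2 : 2 ≤ Fintype.card F := Fintype.one_lt_card
  by_cases h8 : 8 ≤ Fintype.card F ^ (n - 1)
  · refine of_mul h2 h3 (b := Fintype.card F ^ (n - 1)) (fun K hK => ?_)
      (num_ge_three hp.two_le hf hF hn h8)
    have h4 := H934.IdxCl.psl (ι := Fin n) (F := F) (by rwa [Fintype.card_fin]) hs K hK
    rwa [Fintype.card_fin] at h4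
  · -- `PSL_3(2)`
    have hq : Fintype.card F = 2 := by
      by_contra hne
      apply h8
      calc 8 ≤ 3 ^ 2 := by norm_num
        _ ≤ Fintype.card F ^ 2 := Nat.pow_le_pow_left (by omega) 2
        _ ≤ _ := Nat.pow_le_pow_right (by omega) (by omega)
    have hn3 : n = 3 := by
      by_contra hne
      apply h8
      rw [hq]
      calc 8 = 2 ^ 3 := by norm_num
        _ ≤ _ := Nat.pow_le_pow_right (by omega) (by omega)
    subst hn3
    have hf1 : f = 1 := by
      rw [hq] at hF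
      have h5 : p ∣ 2 := by rw [hF]; exact dvd_pow_self p (by omega)
      have h6 := (Nat.prime_dvd_prime_iff_eq hp Nat.prime_two).1 h5
      subst h6
      have h7 : 2 ^ 1 = 2 ^ f := by rw [← hF, pow_one]
      exact (Nat.pow_right_injective le_rfl h7).symm
    refine of_mul h2 h3 (b := 6) (fun K hK => ?_) ?_
    · have h5 := SmallSimple.Embed.two_mul_card_dvd_factorial_index hna K hK
      have h6 := S0243.result (F := F) hq 3 (by norm_num)
      have h7 : Nat.card (ProjectiveSpecialLinearGroup (Fin 3) F) = 168 := by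
        rw [Fin.prod_univ_three] at h6
        norm_num at h6
        exact h6
      rw [h7] at h5
      by_contra hcon
      push Not at hcon
      have h8 : K.index.factorial ∣ Nat.factorial 5 := Nat.factorial_dvd_factorial (by omega)
      have h9 := Nat.le_of_dvd (Nat.factorial_pos 5) (h5.trans h8)
      have h10 : Nat.factorial 5 = 120 := rfl
      omega
    · rw [hf1, hq]
      norm_num

theorem row : RowOf (fun T _ => Cfsg.IsPSL T) := by
  rintro T _ _ _ hT ⟨F, _, _, n, hn, h4, ⟨e⟩⟩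
  have hs : IsSimpleGroup (ProjectiveSpecialLinearGroup (Fin n) F) :=
    (MulEquiv.isSimpleGroup_congr e).1 inferInstance
  have hna : ¬ IsMulCommutative (ProjectiveSpecialLinearGroup (Fin n) F) := by
    intro h
    apply hT
    refine ⟨⟨fun a b => ?_⟩⟩
    apply e.injective
    rw [map_mul, map_mul]
    exact h.is_comm.comm _ _
  refine IdxOK.congr ?_ e.symm
  rcases hn.eq_or_lt with rfl | hn
  · exact two (h4 rfl) hs hna
  · exact ge_three hn hs hna

end Cfsg.Agent.H539.RowPSL
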