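import Cfsg.Agent.H539.TabAsm
import Cfsg.Agent.H934.OutCl
import Cfsg.Agent.S0280
import Cfsg.Agent.S2481

set_option autoImplicit false

/-!
# `IdxOK` for the groups `PSU_n(q)`
-/

namespace Cfsg.Agent.H539.RowPSU

open Cfsg.Agent.H540.ClassNum Cfsg.Agent.H934.OutB Cfsg.Agent.H934.OutCl Matrix

theorem lin_le {f : ℕ} (hf : 1 ≤ f) {p : ℕ} (hp : 2 ≤ p) : f * 2 ≤ p ^ f := by
  calc f * 2 ≤ 2 ^ f := by
        obtain ⟨k, rfl⟩ : ∃ k, f = k + 1 := ⟨f - 1, by omega⟩
        rw [pow_succ]
        have : k < 2 ^ k := Nat.lt_two_pow_self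
        omega
    _ ≤ p ^ f := Nat.pow_le_pow_left hp f

theorem sq_le {m : ℕ} (hm : 16 ≤ m) : 2478 * m ^ 2 ≤ 100 * 2 ^ m := by
  induction m, hm using Nat.le_induction with
  | base => norm_num
  | succ m hm ih =>
    rw [pow_succ 2]
    have h1 : (m + 1) ^ 2 ≤ 2 * m ^ 2 := by nlinarith
    omega

/-- generic case -/
theorem num {p f q n o k : ℕ} (hp : 2 ≤ p) (hf : 1 ≤ f) (hq : q = p ^ f) (hn : 3 ≤ n)
    (ho : o = Nat.gcd n (q + 1) * (2 * f)) (hk : 100 * k ≤ 826 * q ^ (n - 1))
    (h16 : 16 ≤ q ^ (n - 1)) : o * k ≤ 2 ^ (q ^ (n - 1) - 1) := by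
  have h1 := lin_le hf hp
  rw [← hq] at h1
  have hq2 : 2 ≤ q := by omega
  have hg : Nat.gcd n (q + 1) ≤ q + 1 := Nat.gcd_le_right _ (by omega)
  have h2 : q ^ 2 ≤ q ^ (n - 1) := Nat.pow_le_pow_right (by omega) (by omega)
  set N := q ^ (n - 1) with hN
  have h3 : 2 * o ≤ 3 * N := by
    have h4 : o ≤ (q + 1) * q := by
      rw [ho]
      exact Nat.mul_le_mul hg (by omega)
    nlinarith
  have h5 : 200 * (o * k) ≤ 2478 * N ^ 2 := by
    calc 200 * (o * k) = (2 * o) * (100 * k) := by ring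
      _ ≤ (3 * N) * (826 * N) := Nat.mul_le_mul h3 hk
      _ = 2478 * N ^ 2 := by ring
  have h6 := sq_le h16
  have h7 : 2 ^ N = 2 * 2 ^ (N - 1) := by
    rw [← pow_succ', Nat.sub_add_cancel (by omega)]
  omega

variable {F : Type} [Field F] [Fintype F]

theorem main {n q : ℕ} (hF : Fintype.card F = q ^ 2) (hn : 3 ≤ n) (h32 : ¬ (n = 3 ∧ q = 2))
    (hs : IsSimpleGroup (Cfsg.PSU n F q)) (hna : ¬ IsMulCommutative (Cfsg.PSU n F q)) :
    IdxOK (Cfsg.PSU n F q) := by
  obtain ⟨p, f', hp, hf', hF'⟩ := exists_pf F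
  have := Fact.mk hp
  obtain ⟨f, -, hq⟩ : ∃ f ≤ f', q = p ^ f := (Nat.dvd_prime_pow hp).1 (by
    rw [← hF', hF]; exact dvd_pow_self q (by norm_num))
  have hf : 1 ≤ f := by
    by_contra h0
    have : f = 0 := by omega
    subst this
    rw [hq, pow_zero, one_pow] at hF
    have := Fintype.one_lt_card (α := F)
    omega
  have : Finite (Cfsg.PSU n F q) := inferInstance
  have h1 := Cfsg.Agent.S0815.result (F := F) p f hf hq hF n hn h32
  have h2 := card_out_of_aut hna h1
  have hk0 : Nat.card (ConjClasses (Cfsg.PSU n F q)) ≤ Nat.card (ConjClasses (Cfsg.SU n F q)) :=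
    card_conjClasses_le_of_surjective (QuotientGroup.mk' _) (QuotientGroup.mk'_surjective _)
  have hk : 100 * Nat.card (ConjClasses (Cfsg.PSU n F q)) ≤ 826 * q ^ (n - 1) :=
    (Nat.mul_le_mul_left _ hk0).trans (S2481.result (F := F) n q (by omega) hF).2
  have hidx : ∀ K : Subgroup (Cfsg.PSU n F q), K ≠ ⊤ → q ^ (n - 1) ≤ K.index := fun K hK =>
    H934.IdxPSU.pow_le_index hF hn (MulEquiv.refl _) K hK
  have hq2 : 2 ≤ q := by
    rw [hq]
    exact hp.two_le.trans (Nat.le_self_pow (by omega) _)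
  have hf2 := lin_le hf hp.two_le
  rw [← hq] at hf2
  by_cases h16 : 16 ≤ q ^ (n - 1)
  · intro K hK
    refine (num hp.two_le hf hq hn h2 hk h16).trans ?_
    exact Nat.pow_le_pow_right (by norm_num) (Nat.sub_le_sub_right (hidx K hK) 1)
  · push Not at h16
    have hq3 : q ≤ 3 := by
      by_contra hcon
      have : 4 ^ 2 ≤ q ^ (n - 1) := (Nat.pow_le_pow_left (by omega) 2).trans
        (Nat.pow_le_pow_right (by omega) (by omega))
      omega
    have hf1 : f = 1 := by omega
    subst hf1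
    interval_cases q
    · -- `q = 2`
      have hn4 : n = 4 := by
        have h3 : n ≤ 4 := by
          by_contra hcon
          have : 2 ^ 4 ≤ 2 ^ (n - 1) := Nat.pow_le_pow_right (by norm_num) (by omega)
          omega
        have h4 : n ≠ 3 := fun h => h32 ⟨h, rfl⟩
        omega
      subst hn4
      refine IdxOK.of_k (o := 2) (k := 66) (b := 9) (by rw [h2]; norm_num) (by norm_num at hk; omega)
        (fun K hK => ?_) (by norm_num)
      have h5 := SmallSimple.Embed.two_mul_card_dvd_factorial_index hna K hK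
      have h6 := S0280.result (F := F) hF 4 (by norm_num)
      have h7 : Nat.card (Cfsg.PSU 4 F 2) = 25920 := by
        simp only [Finset.prod_range_succ, Finset.prod_range_zero] at h6
        norm_num [Nat.even_iff] at h6
        omega
      rw [h7] at h5
      by_contra hcon
      push Not at hcon
      have h8 : K.index.factorial ∣ Nat.factorial 8 := Nat.factorial_dvd_factorial (by omega)
      have h9 := h5.trans h8
      revert h9
      decide
    · -- `q = 3`
      have hn3 : n = 3 := by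
        by_contra hne
        have : 3 ^ 3 ≤ 3 ^ (n - 1) := Nat.pow_le_pow_right (by norm_num) (by omega)
        omega
      subst hn3
      exact IdxOK.of_k (o := 2) (k := 74) (b := 9) (by rw [h2]; norm_num)
        (by norm_num at hk; omega) hidx (by norm_num)

theorem row : RowOf (fun T _ => Cfsg.IsPSU T) := by
  rintro T _ _ _ hT ⟨F, _, _, n, q, hF, hn, h32, ⟨e⟩⟩
  have hs : IsSimpleGroup (Cfsg.PSU n F q) := (MulEquiv.isSimpleGroup_congr e).1 inferInstance
  have hna : ¬ IsMulCommutative (Cfsg.PSU n F q) := by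
    intro h
    apply hT
    refine ⟨⟨fun a b => ?_⟩⟩
    apply e.injective
    rw [map_mul, map_mul]
    exact h.is_comm.comm _ _
  exact (main hF hn h32 hs hna).congr e.symm

end Cfsg.Agent.H539.RowPSU
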