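import Cfsg.Agent.H539.TabAsm
import Cfsg.Agent.H934.OutCl
import Cfsg.Agent.OddHalf.Orders.PSpFi23
import Cfsg.Agent.S2482
import Cfsg.Agent.S2557

set_option autoImplicit false

/-!
# `IdxOK` for the groups `PSp_2m(q)`
-/

namespace Cfsg.Agent.H539.RowPSp

open Cfsg.Agent.H540.ClassNum Cfsg.Agent.H934.OutB Cfsg.Agent.H934.OutCl Matrix
  Cfsg.Agent.OddHalf.Orders

theorem lin_le {f : ℕ} (hf : 1 ≤ f) {p : ℕ} (hp : 2 ≤ p) : f * 2 ≤ p ^ f := by
  calc f * 2 ≤ 2 ^ f := by
        obtain ⟨k, rfl⟩ : ∃ k, f = k + 1 := ⟨f - 1, by omega⟩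
        rw [pow_succ]
        have : k < 2 ^ k := Nat.lt_two_pow_self
        omega
    _ ≤ p ^ f := Nat.pow_le_pow_left hp f

/-- index bound from divisibility -/
theorem idx_of_card {T : Type*} [Group T] [Finite T] [IsSimpleGroup T]
    (hna : ¬ IsMulCommutative T) {c b : ℕ} (hc : Nat.card T = c)
    (h : ¬ 2 * c ∣ (b - 1).factorial) (K : Subgroup T) (hK : K ≠ ⊤) : b ≤ K.index := by
  by_contra hcon
  push Not at hcon
  apply h
  have h1 := SmallSimple.Embed.two_mul_card_dvd_factorial_index hna K hK
  rw [hc] at h1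
  exact h1.trans (Nat.factorial_dvd_factorial (by omega))

/-! ### arithmetic -/

theorem sq_le {m : ℕ} (hm : 16 ≤ m) : 54 * m ^ 2 ≤ 5 * 2 ^ (m - 1) := by
  induction m, hm using Nat.le_induction with
  | base => norm_num
  | succ m hm ih =>
    have e : m + 1 - 1 = (m - 1) + 1 := by omega
    rw [e, pow_succ 2]
    have h1 : (m + 1) ^ 2 ≤ 2 * m ^ 2 := by nlinarith
    omega

theorem sq_le' {m : ℕ} (hm : 13 ≤ m) : 108 * m ^ 2 ≤ 5 * 2 ^ (m - 1) := by
  induction m, hm using Nat.le_induction with
  | base => norm_num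
  | succ m hm ih =>
    have e : m + 1 - 1 = (m - 1) + 1 := by omega
    rw [e, pow_succ 2]
    have h1 : (m + 1) ^ 2 ≤ 2 * m ^ 2 := by nlinarith
    omega

theorem cube_le {m : ℕ} (hm : 24 ≤ m) : 76 * m ^ 3 ≤ 5 * 2 ^ (m - 1) := by
  induction m, hm using Nat.le_induction with
  | base => norm_num
  | succ m hm ih =>
    have e : m + 1 - 1 = (m - 1) + 1 := by omega
    rw [e, pow_succ 2]
    have h1 : (m + 1) ^ 3 ≤ 2 * m ^ 3 := by nlinarith [Nat.mul_le_mul hm hm]
    omega

/-- `m ≥ 3`, `q^(m-1) ≥ 16` -/
theorem num_ge {q m o k c : ℕ} (hm : 2 ≤ m) (ho : o * c ≤ 54 * q)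
    (hk : 5 * k ≤ c * q ^ m) (h2 : q ^ 2 ≤ q ^ (m - 1)) (h16 : 16 ≤ q ^ (m - 1)) :
    o * k ≤ 2 ^ (q ^ (m - 1) - 1) := by
  have h1 := sq_le h16
  have e : q ^ m = q * q ^ (m - 1) := by
    rw [← pow_succ', Nat.sub_add_cancel (by omega)]
  have h3 : 5 * (o * k) ≤ 54 * (q ^ (m - 1)) ^ 2 := by
    calc 5 * (o * k) = o * (5 * k) := by ring
      _ ≤ o * (c * q ^ m) := Nat.mul_le_mul_left _ hk
      _ = (o * c) * (q * q ^ (m - 1)) := by rw [e]; ring
      _ ≤ (54 * q) * (q * q ^ (m - 1)) := Nat.mul_le_mul_right _ ho
      _ = 54 * (q ^ 2 * q ^ (m - 1)) := by ring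
      _ ≤ 54 * (q ^ (m - 1) * q ^ (m - 1)) :=
          Nat.mul_le_mul_left _ (Nat.mul_le_mul_right _ h2)
      _ = _ := by ring
  omega

variable {F : Type} [Field F] [Fintype F]

theorem card_out_le {m p f : ℕ} (hp : p.Prime) (hF : Fintype.card F = p ^ f)
    (h : Nat.card (Cfsg.Out (Cfsg.PSp m F)) =
      (if m = 2 ∧ p = 2 then 2 else 1) * Nat.gcd 2 (p ^ f - 1) * f) (hf : 1 ≤ f) :
    Nat.card (Cfsg.Out (Cfsg.PSp m F)) ≤ 2 * f ∧
      (p = 2 → m ≠ 2 → Nat.card (Cfsg.Out (Cfsg.PSp m F)) ≤ f) := by
  have hodd : p = 2 → Nat.gcd 2 (p ^ f - 1) = 1 := by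
    rintro rfl
    have h6 : Odd (2 ^ f - 1) := by
      obtain ⟨k, rfl⟩ : ∃ k, f = k + 1 := ⟨f - 1, by omega⟩
      have : 0 < 2 ^ k := by positivity
      rw [pow_succ]
      exact ⟨2 ^ k - 1, by omega⟩
    exact Nat.coprime_two_left.2 h6
  rw [h]
  constructor
  · apply Nat.mul_le_mul_right
    split_ifs with h'
    · rw [hodd h'.2]
    · rw [one_mul]
      exact Nat.gcd_le_left _ (by norm_num)
  · intro hp2 hm2
    rw [if_neg (fun h => hm2 h.1), hodd hp2, one_mul, one_mul]

theorem special {m : ℕ} (hm : 1 ≤ m) (hs : IsSimpleGroup (Cfsg.PSp m F))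
    (hna : ¬ IsMulCommutative (Cfsg.PSp m F)) {q o k b : ℕ} (hq : Fintype.card F = q)
    (ho : Nat.card (Cfsg.Out (Cfsg.PSp m F)) ≤ o)
    (hk : Nat.card (ConjClasses (Cfsg.PSp m F)) ≤ k)
    (hb : ¬ 2 * (sp m q / spDen q) ∣ (b - 1).factorial) (hn : o * k ≤ 2 ^ (b - 1)) :
    IdxOK (Cfsg.PSp m F) := by
  have : Finite (symplecticGroup (Fin m) F) := Subtype.finite
  have : Finite (Cfsg.PSp m F) := inferInstance
  have h1 := card_psp (F := F) m hm
  rw [hq] at h1
  have h2 : 0 < spDen q := Nat.gcd_pos_of_pos_left _ (by norm_num)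
  have h3 : Nat.card (Cfsg.PSp m F) = sp m q / spDen q := by
    rw [← h1, Nat.mul_div_cancel_left _ h2]
  exact IdxOK.of_k ho hk (idx_of_card hna h3 hb) hn

theorem main {m : ℕ} (hm : 2 ≤ m) (h3 : m = 2 → 3 ≤ Fintype.card F)
    (hs : IsSimpleGroup (Cfsg.PSp m F)) (hna : ¬ IsMulCommutative (Cfsg.PSp m F)) :
    IdxOK (Cfsg.PSp m F) := by
  obtain ⟨p, f, hp, hf, hF⟩ := exists_pf F
  have := Fact.mk hp
  have : Finite (symplecticGroup (Fin m) F) := Subtype.finite
  have : Finite (Cfsg.PSp m F) := inferInstance
  have h1 := Cfsg.Agent.S0814.result (F := F) p f hf hF m hm (by rwa [hF] at h3)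
  obtain ⟨ho, ho'⟩ := card_out_le (m := m) hp hF (card_out_of_aut hna h1) hf
  have hk0 : Nat.card (ConjClasses (Cfsg.PSp m F)) ≤
      Nat.card (ConjClasses (symplecticGroup (Fin m) F)) :=
    card_conjClasses_le_of_surjective (QuotientGroup.mk' _) (QuotientGroup.mk'_surjective _)
  have hidx : ∀ K : Subgroup (Cfsg.PSp m F), K ≠ ⊤ → Fintype.card F ^ (m - 1) ≤ K.index :=
    fun K hK => H934.IdxCl.psp hm hs K hK
  have hq2 : 2 ≤ Fintype.card F := Fintype.one_lt_card
  have hf2 := lin_le hf hp.two_le
  rw [← hF] at hf2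
  have fin : ∀ {b : ℕ}, (∀ K : Subgroup (Cfsg.PSp m F), K ≠ ⊤ → b ≤ K.index) →
      Nat.card (Cfsg.Out (Cfsg.PSp m F)) * Nat.card (ConjClasses (Cfsg.PSp m F)) ≤ 2 ^ (b - 1) →
      IdxOK (Cfsg.PSp m F) := fun hb h => IdxOK.of_k le_rfl le_rfl hb h
  rcases hp.eq_two_or_odd' with hp2 | hpo
  · -- `q` even
    have heven : Even (Fintype.card F) := by
      rw [hF, hp2]
      exact (Nat.even_pow.2 ⟨even_two, by omega⟩)
    have hk : 5 * Nat.card (ConjClasses (Cfsg.PSp m F)) ≤ 76 * Fintype.card F ^ m :=
      (Nat.mul_le_mul_left _ hk0).trans (S2557.result (F := F) heven m (by omega)).2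
    rcases hm.eq_or_lt with rfl | hm3
    · -- `m = 2`
      have hq3 := h3 rfl
      have hf2' : 2 ≤ f := by
        by_contra hcon
        have : f = 1 := by omega
        rw [hF, hp2, this] at hq3
        norm_num at hq3
      rcases Nat.lt_or_ge f 5 with hf5 | hf5
      · interval_cases f
        · -- `q = 4`
          have hq : Fintype.card F = 4 := by rw [hF, hp2]; norm_num
          rw [hq] at hk
          exact special (by norm_num) hs hna hq ho (k := 243) (b := 11) (by omega)
            (by decide +kernel) (by norm_num)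
        · have hq : Fintype.card F = 8 := by rw [hF, hp2]; norm_num
          rw [hq] at hk
          exact special (by norm_num) hs hna hq ho (k := 972) (b := 14) (by omega)
            (by decide +kernel) (by norm_num)
        · have hq : Fintype.card F = 16 := by rw [hF, hp2]; norm_num
          rw [hq] at hk hidx
          refine IdxOK.of_k ho (k := 3891) (by omega) hidx (by norm_num)
      · have hq32 : 32 ≤ Fintype.card F := by
          rw [hF, hp2]
          calc 32 = 2 ^ 5 := by norm_num
            _ ≤ 2 ^ f := Nat.pow_le_pow_right (by norm_num) hf5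
        refine fin hidx ?_
        have h4 := cube_le (m := Fintype.card F) (by omega)
        have e : Fintype.card F ^ (2 - 1) = Fintype.card F := by norm_num
        rw [e]
        have h5 : 5 * (Nat.card (Cfsg.Out (Cfsg.PSp 2 F)) *
            Nat.card (ConjClasses (Cfsg.PSp 2 F))) ≤ 76 * Fintype.card F ^ 3 := by
          calc 5 * (Nat.card (Cfsg.Out (Cfsg.PSp 2 F)) * Nat.card (ConjClasses (Cfsg.PSp 2 F)))
              = Nat.card (Cfsg.Out (Cfsg.PSp 2 F)) *
                (5 * Nat.card (ConjClasses (Cfsg.PSp 2 F))) := by ring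
            _ ≤ Fintype.card F * (76 * Fintype.card F ^ 2) := Nat.mul_le_mul (by omega) hk
            _ = _ := by ring
        omega
    · have ho1 := ho' hp2 (by omega)
      by_cases h16 : 16 ≤ Fintype.card F ^ (m - 1)
      · refine fin hidx (num_ge (c := 76) hm ?_ hk ?_ h16)
        · omega
        · exact Nat.pow_le_pow_right (by omega) (by omega)
      · push Not at h16
        have hf1 : f = 1 := by
          by_contra hne
          have h4 : 4 ≤ Fintype.card F := by
            rw [hF, hp2]
            calc 4 = 2 ^ 2 := by norm_num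
              _ ≤ 2 ^ f := Nat.pow_le_pow_right (by norm_num) (by omega)
          have h5 : 4 ^ 2 ≤ Fintype.card F ^ (m - 1) := (Nat.pow_le_pow_left h4 2).trans
            (Nat.pow_le_pow_right (by omega) (by omega))
          omega
        have hq : Fintype.card F = 2 := by rw [hF, hp2, hf1]; norm_num
        have hm5 : m < 5 := by
          by_contra hcon
          rw [hq] at h16
          have : 2 ^ 4 ≤ 2 ^ (m - 1) := Nat.pow_le_pow_right (by norm_num) (by omega)
          omega
        rw [hf1] at ho1
        rw [hq] at hk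
        interval_cases m
        · exact special (by norm_num) hs hna hq ho1 (k := 121) (b := 8) (by omega)
            (by decide +kernel) (by norm_num)
        · exact special (by norm_num) hs hna hq ho1 (k := 243) (b := 9) (by omega)
            (by decide +kernel) (by norm_num)
  · -- `q` odd
    have hodd : Odd (Fintype.card F) := by rw [hF]; exact hpo.pow
    have hk : 5 * Nat.card (ConjClasses (Cfsg.PSp m F)) ≤ 54 * Fintype.card F ^ m :=
      (Nat.mul_le_mul_left _ hk0).trans (S2482.result (F := F) hodd m (by omega)).2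
    have hp3 : 3 ≤ p := by
      have h2 := hp.two_le
      obtain ⟨k, hk⟩ := hpo
      omega
    rcases hm.eq_or_lt with rfl | hm3
    · -- `m = 2`
      by_cases hf1 : f = 1
      · subst hf1
        rw [pow_one] at hF
        rcases Nat.lt_or_ge (Fintype.card F) 13 with h13 | h13
        · have hpp : p = 3 ∨ p = 5 ∨ p = 7 ∨ p = 11 := by
            rw [hF] at h13
            interval_cases p <;> first | omega | (exfalso; revert hp; norm_num)
          rcases hpp with h | h | h | h <;> rw [h] at hF <;> rw [hF] at hk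
          · exact special (by norm_num) hs hna hF ho (k := 97) (b := 9) (by omega)
              (by decide +kernel) (by norm_num)
          · exact special (by norm_num) hs hna hF ho (k := 270) (b := 11) (by omega)
              (by decide +kernel) (by norm_num)
          · exact special (by norm_num) hs hna hF ho (k := 529) (b := 12) (by omega)
              (by decide +kernel) (by norm_num)
          · exact special (by norm_num) hs hna hF ho (k := 1306) (b := 13) (by omega)
              (by decide +kernel) (by norm_num)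
        · refine fin hidx ?_
          have h4 := sq_le' h13
          have e : Fintype.card F ^ (2 - 1) = Fintype.card F := by norm_num
          rw [e]
          have h5 : 5 * (Nat.card (Cfsg.Out (Cfsg.PSp 2 F)) *
              Nat.card (ConjClasses (Cfsg.PSp 2 F))) ≤ 108 * Fintype.card F ^ 2 := by
            calc 5 * (Nat.card (Cfsg.Out (Cfsg.PSp 2 F)) * Nat.card (ConjClasses (Cfsg.PSp 2 F)))
                = Nat.card (Cfsg.Out (Cfsg.PSp 2 F)) *
                  (5 * Nat.card (ConjClasses (Cfsg.PSp 2 F))) := by ring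
              _ ≤ 2 * (54 * Fintype.card F ^ 2) := Nat.mul_le_mul (by omega) hk
              _ = _ := by ring
          omega
      · by_cases hq9 : Fintype.card F = 9
        · have hf2' : f = 2 := by
            have h4 : p ∣ 9 := by rw [← hq9, hF]; exact dvd_pow_self p (by omega)
            have h5 : p = 3 := (Nat.prime_dvd_prime_iff_eq hp Nat.prime_three).1
              (hp.dvd_of_dvd_pow (by norm_num; exact h4 : p ∣ 3 ^ 2))
            rw [h5, hq9] at hF
            exact (Nat.pow_right_injective (by norm_num : 2 ≤ 3)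
              (show 3 ^ f = 3 ^ 2 from hF.symm))
          rw [hf2'] at ho
          rw [hq9] at hk
          exact special (by norm_num) hs hna hq9 ho (k := 874) (b := 13) (by omega)
            (by decide +kernel) (by norm_num)
        · have hq25 : 24 ≤ Fintype.card F := by
            by_cases hp33 : p = 3
            · have hf3 : 3 ≤ f := by
                by_contra hcon
                have : f = 2 := by omega
                apply hq9
                rw [hF, hp33, this]
                norm_num
              rw [hF, hp33]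
              calc 24 ≤ 3 ^ 3 := by norm_num
                _ ≤ 3 ^ f := Nat.pow_le_pow_right (by norm_num) hf3
            · have hp5 : 5 ≤ p := by
                have h4 : p ≠ 4 := by rintro rfl; revert hp; norm_num
                omega
              rw [hF]
              calc 24 ≤ 5 ^ 2 := by norm_num
                _ ≤ p ^ 2 := Nat.pow_le_pow_left hp5 2
                _ ≤ p ^ f := Nat.pow_le_pow_right (by omega) (by omega)
          refine fin hidx ?_
          have h4 := cube_le hq25
          have e : Fintype.card F ^ (2 - 1) = Fintype.card F := by norm_num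
          rw [e]
          have h5 : 5 * (Nat.card (Cfsg.Out (Cfsg.PSp 2 F)) *
              Nat.card (ConjClasses (Cfsg.PSp 2 F))) ≤ 54 * Fintype.card F ^ 3 := by
            calc 5 * (Nat.card (Cfsg.Out (Cfsg.PSp 2 F)) * Nat.card (ConjClasses (Cfsg.PSp 2 F)))
                = Nat.card (Cfsg.Out (Cfsg.PSp 2 F)) *
                  (5 * Nat.card (ConjClasses (Cfsg.PSp 2 F))) := by ring
              _ ≤ Fintype.card F * (54 * Fintype.card F ^ 2) := Nat.mul_le_mul (by omega) hk
              _ = _ := by ring
          omega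
    · by_cases h16 : 16 ≤ Fintype.card F ^ (m - 1)
      · refine fin hidx (num_ge (c := 54) hm ?_ hk ?_ h16)
        · omega
        · exact Nat.pow_le_pow_right (by omega) (by omega)
      · push Not at h16
        have hq3 : Fintype.card F = 3 := by
          by_contra hne
          have h4 : 4 ≤ Fintype.card F := by
            have : 3 ≤ Fintype.card F := by
              rw [hF]; exact hp3.trans (Nat.le_self_pow (by omega) _)
            omega
          have h5 : 4 ^ 2 ≤ Fintype.card F ^ (m - 1) := (Nat.pow_le_pow_left h4 2).trans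
            (Nat.pow_le_pow_right (by omega) (by omega))
          omega
        have hm3' : m = 3 := by
          by_contra hne
          rw [hq3] at h16
          have : 3 ^ 3 ≤ 3 ^ (m - 1) := Nat.pow_le_pow_right (by norm_num) (by omega)
          omega
        subst hm3'
        have hf1 : f = 1 := by omega
        rw [hf1] at ho
        rw [hq3] at hk
        exact special (by norm_num) hs hna hq3 ho (k := 291) (b := 11) (by omega)
          (by decide +kernel) (by norm_num)

theorem row : RowOf (fun T _ => Cfsg.IsPSp T) := by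
  rintro T _ _ _ hT ⟨F, _, _, m, hm, h3, ⟨e⟩⟩
  have hs : IsSimpleGroup (Cfsg.PSp m F) := (MulEquiv.isSimpleGroup_congr e).1 inferInstance
  have hna : ¬ IsMulCommutative (Cfsg.PSp m F) := by
    intro h
    apply hT
    refine ⟨⟨fun a b => ?_⟩⟩
    apply e.injective
    rw [map_mul, map_mul]
    exact h.is_comm.comm _ _
  exact (main hm h3 hs hna).congr e.symm

end Cfsg.Agent.H539.RowPSp
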