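import Cfsg.Agent.H539.TabAsm
import Cfsg.Agent.H539.RowPSL
import Cfsg.Agent.H539.RowPSU
import Cfsg.Agent.H539.RowPSp
import Cfsg.Agent.H539.RowOm
import Cfsg.Agent.H539.RowOdd
import Cfsg.Agent.H599.RowsA
import Cfsg.Agent.H599.IdxG2
import Cfsg.Agent.H599.IdxE6T
import Cfsg.Agent.H599.IdxD4T

set_option autoImplicit false

/-!
# `k(S) ≤ 2 ^ (n - 1)` from the sporadic rows and the classification
-/

namespace Cfsg.Agent.H539

open Cfsg

theorem final (hs : RowOf (fun T _ => IsSporadicGroup T)) (ht : RowOf (fun T _ => Lie.IsoTits T))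
    (cls : ∀ (T : Type) [Group T] [Finite T] [IsSimpleGroup T], IsKnownSimple' T)
    {α : Type*} [Fintype α] (S : Subgroup (Equiv.Perm α)) :
    Nat.card (ConjClasses S) ≤ 2 ^ (Fintype.card α - 1) :=
  main_of_rows
    { psl := RowPSL.row
      psp := RowPSp.row
      psu := RowPSU.row
      omegaOdd := RowOdd.row
      omegaPlus := RowOm.rowPlus
      omegaMinus := RowOm.rowMinus
      g2 := H599.IdxG2.row
      f4 := H599.RowsA.f4
      e6 := H599.RowsA.e6
      e7 := H599.RowsA.e7
      e8 := H599.RowsA.e8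
      twE6 := H599.IdxE6T.row
      twD4 := H599.IdxD4T.row
      suzuki := H599.RowsA.suzuki
      ree := H599.RowsA.ree
      twF4 := H599.RowsA.twF4
      tits := ht
      sporadic := hs } cls S

end Cfsg.Agent.H539
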