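import Cfsg.Agent.H74.SpN

set_option autoImplicit false

/-!
# `PSp_4(3)` has no subgroup of index 12
-/

namespace Cfsg.Agent.H539.UFour

open Cfsg.Agent.H74.Psp Module

/-- double counting -/
theorem double_count {M X : Type*} [Fintype M] [Fintype X] (R : M → X → Prop) :
    ∑ m : M, Nat.card {ω : X // R m ω} = ∑ ω : X, Nat.card {m : M // R m ω} := by
  classical
  simp only [Nat.card_eq_fintype_card, Fintype.card_subtype]
  exact Finset.sum_card_bipartiteAbove_eq_sum_card_bipartiteBelow (fun m ω => R m ω)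

variable {F V : Type*} [Field F] [AddCommGroup V] [Module F V] {B : V →ₗ[F] V →ₗ[F] F}

/-- elements of `Q_v` commute with `t v c` -/
theorem comm_t (hB : Symp B) {v w : V} (h : B v w = 0) (c c' : F) :
    E B v w c * t B v c' = t B v c' * E B v w c := by
  rw [t, E_mul hB h (map_zero _), E_mul hB (map_zero _) h]
  congr 1
  · abel
  · simp; ring

/-- conjugacy of the elements of `Q_v` outside the centre -/
theorem conj_of (hB : Symp B) [FiniteDimensional F V] (h2 : (2 : F) ≠ 0) {v w w' : V}
    (hw : B v w = 0) (hw' : B v w' = 0) (h : ∀ a : F, w ≠ a • v) (h' : ∀ a : F, w' ≠ a • v)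
    (c c' : F) : ∃ g : Sp B, g * E B v w c * g⁻¹ = E B v w' c' := by
  obtain ⟨g, hg1, hg2⟩ := trans1 hB hw hw' h h'
  obtain ⟨u, hu1, hu2⟩ := sep1 hB h'
  have hu1' : B v (((c' - c) / 2) • u) = 0 := by rw [map_smul, hu1, smul_zero]
  refine ⟨E B v (((c' - c) / 2) • u) 0 * g, ?_⟩
  have e1 : E B v (((c' - c) / 2) • u) 0 * g * E B v w c * (E B v (((c' - c) / 2) • u) 0 * g)⁻¹ =
      E B v (((c' - c) / 2) • u) 0 * (g * E B v w c * g⁻¹) * (E B v (((c' - c) / 2) • u) 0)⁻¹ := by
    group
  rw [e1, conj_E hB g hw, hg1, hg2]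
  have e2 := E_commutator hB hu1' hw' 0 c
  have e3 : E B v (((c' - c) / 2) • u) 0 * E B v w' c * (E B v (((c' - c) / 2) • u) 0)⁻¹ =
      t B v (2 * B w' (((c' - c) / 2) • u)) * E B v w' c := by
    rw [← e2]; group
  rw [e3, map_smul, hu2, t, E_mul hB (map_zero _) hw', zero_add]
  congr 1
  simp only [smul_eq_mul, mul_one, map_zero, add_zero]
  field_simp
  ring

theorem no_twelve [Finite V] [Finite F] (hB : Symp B) (hF : Nat.card F = 3)
    (hV : Nat.card V = 81) {H : Subgroup (Sp B)} (hgen : ∃ x, ¬ Tv H x)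
    (hidx : H.index = 12) : False := by
  classical
  obtain ⟨v, hv⟩ := hgen
  have hv0 : v ≠ 0 := by
    rintro rfl
    exact hv (Tv.zero hB)
  obtain ⟨p, hp⟩ := CharP.exists F
  have := Fintype.ofFinite F
  have hF' : Fintype.card F = 3 := by rw [← Nat.card_eq_fintype_card, hF]
  have hpp : p.Prime := CharP.char_is_prime F p
  have : Fact p.Prime := ⟨hpp⟩
  have h3 : (3 : F) = 0 := by
    have := Nat.cast_card_eq_zero F
    rw [hF'] at this
    exact_mod_cast this
  have h2 : (2 : F) ≠ 0 := by
    intro h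
    have : (1 : F) = 3 - 2 := by ring
    rw [h3, h, sub_zero] at this
    exact one_ne_zero this
  obtain ⟨τ, hτ⟩ := H74.exists_tau F p
  set X := Sp B ⧸ H with hXdef
  have hX : Nat.card X = 12 := hidx
  have : Finite X := Nat.finite_of_card_ne_zero (by rw [hX]; norm_num)
  have := Fintype.ofFinite X
  have hM : Nat.card (Heis B v) = 81 := by rw [card_Heis hB hv0, hV]
  have : Finite (Heis B v) := Nat.finite_of_card_ne_zero (by rw [hM]; norm_num)
  have := Fintype.ofFinite (Heis B v)
  -- orbits
  have hrs : ∀ ω : X, (Qorb B v ω).ncard *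
      Nat.card {m : Heis B v // E B v m.w m.c • ω = ω} = 81 := by
    intro ω
    let _ := heisGroup hB v
    have h1 := H74.orbit_card (heisHom hB v) ω
    have h2 : (Set.range fun m : Heis B v => heisHom hB v m • ω) = Qorb B v ω := by
      ext ω'
      constructor
      · rintro ⟨m, rfl⟩
        exact ⟨m.w, m.c, m.h, rfl⟩
      · rintro ⟨w, c, h, rfl⟩
        exact ⟨⟨w, c, h⟩, rfl⟩
    rw [h2, hM] at h1
    exact h1
  have hbig : ∀ ω : X, ¬ Tv (MulAction.stabilizer (Sp B) ω) v → (Qorb B v ω).ncard = 9 := by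
    intro ω hω
    have h4 := card_Qorb hτ hB hv0 ω
    have h5 := card_le_sq hτ hB h2 hω
    rw [hV] at h5
    have h6 : Nat.card (Z0 hB (MulAction.stabilizer (Sp B) ω) v) ∣ 3 := by
      rw [← hF]
      exact AddSubgroup.card_addSubgroup_dvd_card _
    have h7 : Nat.card (Z0 hB (MulAction.stabilizer (Sp B) ω) v) ≠ 3 := by
      intro h7
      apply hω
      have h8 : Z0 hB (MulAction.stabilizer (Sp B) ω) v = ⊤ :=
        AddSubgroup.eq_top_of_le_card _ (by rw [h7, hF])
      intro a
      have : a ∈ Z0 hB (MulAction.stabilizer (Sp B) ω) v := by rw [h8]; trivial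
      exact this
    have h8 := (Nat.dvd_prime Nat.prime_three).1 h6
    have h9 : Nat.card (Z0 hB (MulAction.stabilizer (Sp B) ω) v) = 1 := by tauto
    rw [h9, mul_one] at h4
    have h10 : 9 ≤ (Qorb B v ω).ncard := by
      rw [h4]
      by_contra hcon
      have : Nat.card (As τ hB (MulAction.stabilizer (Sp B) ω) v) ^ 2 ≤ 8 ^ 2 :=
        Nat.pow_le_pow_left (by omega) 2
      omega
    have h11 : (Qorb B v ω).ncard ≤ 12 := by
      rw [← hX]
      exact Set.ncard_le_card _
    have h12 := hrs ω
    have h13 : (Qorb B v ω).ncard ∣ 81 := ⟨_, h12.symm⟩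
    generalize (Qorb B v ω).ncard = r at h10 h11 h13
    interval_cases r <;> revert h13 <;> decide
  set ω0 : X := ((1 : Sp B) : X) with hω0
  have hst : MulAction.stabilizer (Sp B) ω0 = H := MulAction.stabilizer_quotient H
  have hTv0 : ¬ Tv (MulAction.stabilizer (Sp B) ω0) v := by rw [hst]; exact hv
  set O : Set X := Qorb B v ω0 with hO
  have hO9 : O.ncard = 9 := hbig ω0 hTv0
  have hO3 : (Oᶜ).ncard = 3 := by
    have := Set.ncard_add_ncard_compl O
    rw [hO9, hX] at this
    omega
  have hin : ∀ ω ∈ O, ¬ Tv (MulAction.stabilizer (Sp B) ω) v := by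
    rintro ω ⟨w, c, hw, rfl⟩ hT
    apply hTv0
    intro a
    have h4 := hT a
    rw [MulAction.mem_stabilizer_iff, ← mul_smul, ← comm_t hB hw, mul_smul] at h4
    exact MulAction.mem_stabilizer_iff.2 (MulAction.injective _ h4)
  have hsub : ∀ ω, ω ∉ O → Qorb B v ω ⊆ Oᶜ := by
    intro ω hω ω' h1 h2
    exact hω (Qorb_trans hB h2 (Qorb_symm hB h1))
  have hle : ∀ ω, ω ∉ O → (Qorb B v ω).ncard ≤ 3 := fun ω hω => by
    rw [← hO3]
    exact Set.ncard_le_ncard (hsub ω hω)
  have hout : ∀ ω, ω ∉ O → Tv (MulAction.stabilizer (Sp B) ω) v := by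
    intro ω hω
    by_contra hT
    have h1 := hbig ω hT
    have h2 := hle ω hω
    omega
  -- sum over the points
  have hs1 : ∀ ω ∈ O, Nat.card {m : Heis B v // E B v m.w m.c • ω = ω} = 9 := by
    intro ω hω
    have h1 := hrs ω
    rw [hbig ω (hin ω hω)] at h1
    omega
  have hcardO : (Finset.univ.filter (fun ω => ω ∈ O)).card = 9 := by
    rw [← hO9, Set.ncard_eq_toFinset_card']
    congr 1
    ext ω
    simp
  have hcardO' : (Finset.univ.filter (fun ω => ¬ ω ∈ O)).card = 3 := by
    rw [← hO3, Set.ncard_eq_toFinset_card']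
    congr 1
    ext ω
    simp
  have hsum : ∑ ω : X, Nat.card {m : Heis B v // E B v m.w m.c • ω = ω} = 162 ∨
      ∑ ω : X, Nat.card {m : Heis B v // E B v m.w m.c • ω = ω} = 324 := by
    rw [← Finset.sum_filter_add_sum_filter_not Finset.univ (fun ω => ω ∈ O)]
    have e1 : ∑ ω ∈ Finset.univ.filter (fun ω => ω ∈ O),
        Nat.card {m : Heis B v // E B v m.w m.c • ω = ω} = 81 := by
      rw [Finset.sum_congr rfl (fun ω hω => hs1 ω (Finset.mem_filter.1 hω).2), Finset.sum_const,
        hcardO]
      rfl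
    rw [e1]
    by_cases h : ∃ ω, ω ∉ O ∧ (Qorb B v ω).ncard = 3
    · left
      obtain ⟨ω1, h1, h2⟩ := h
      have h3 : Qorb B v ω1 = Oᶜ := Set.eq_of_subset_of_ncard_le (hsub ω1 h1) (by rw [hO3, h2])
      have e2 : ∑ ω ∈ Finset.univ.filter (fun ω => ¬ ω ∈ O),
          Nat.card {m : Heis B v // E B v m.w m.c • ω = ω} = 81 := by
        have h4 : ∀ ω ∈ Finset.univ.filter (fun ω => ¬ ω ∈ O),
            Nat.card {m : Heis B v // E B v m.w m.c • ω = ω} = 27 := by
          intro ω hω
          have h5 : ω ∈ Qorb B v ω1 := by rw [h3]; exact (Finset.mem_filter.1 hω).2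
          have h6 : Qorb B v ω = Oᶜ := by
            apply Set.Subset.antisymm (hsub ω (Finset.mem_filter.1 hω).2)
            rw [← h3]
            exact fun ω' h' => Qorb_trans hB (Qorb_symm hB h5) h'
          have h7 := hrs ω
          rw [h6, hO3] at h7
          omega
        rw [Finset.sum_congr rfl h4, Finset.sum_const, hcardO']
        rfl
      rw [e2]
    · right
      push Not at h
      have e2 : ∑ ω ∈ Finset.univ.filter (fun ω => ¬ ω ∈ O),
          Nat.card {m : Heis B v // E B v m.w m.c • ω = ω} = 243 := by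
        have h4 : ∀ ω ∈ Finset.univ.filter (fun ω => ¬ ω ∈ O),
            Nat.card {m : Heis B v // E B v m.w m.c • ω = ω} = 81 := by
          intro ω hω
          have h5 := h ω (Finset.mem_filter.1 hω).2
          have h6 := hle ω (Finset.mem_filter.1 hω).2
          have h7 := hrs ω
          have h8 : (Qorb B v ω).ncard ∣ 81 := ⟨_, h7.symm⟩
          have h9 : (Qorb B v ω).ncard = 1 := by
            generalize (Qorb B v ω).ncard = r at h5 h6 h8
            interval_cases r
            · revert h8; decide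
            · rfl
            · revert h8; decide
            · exact absurd rfl h5
          rw [h9, one_mul] at h7
          exact h7
        rw [Finset.sum_congr rfl h4, Finset.sum_const, hcardO']
        rfl
      rw [e2]
  rw [← double_count (fun (m : Heis B v) (ω : X) => E B v m.w m.c • ω = ω)] at hsum
  -- sum over the elements
  have hfix0 : Nat.card {ω : X // t B v 0 • ω = ω} = 12 := by
    rw [← hX]
    exact Nat.card_congr (Equiv.subtypeUnivEquiv fun ω => by rw [t_zero hB, one_smul])
  have hfix1 : ∀ c : F, c ≠ 0 → Nat.card {ω : X // t B v c • ω = ω} = 3 := by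
    intro c hc
    rw [← hO3, ← Nat.card_coe_set_eq]
    refine Nat.card_congr (Equiv.subtypeEquivRight fun ω => ?_)
    constructor
    · intro h1 h4
      apply hin ω h4
      have h5 : (Z0 hB (MulAction.stabilizer (Sp B) ω) v) = ⊤ := by
        have h6 : Nat.card (Z0 hB (MulAction.stabilizer (Sp B) ω) v) ∣ 3 := by
          rw [← hF]
          exact AddSubgroup.card_addSubgroup_dvd_card _
        rcases (Nat.dvd_prime Nat.prime_three).1 h6 with h7 | h7
        · exfalso
          rw [AddSubgroup.card_eq_one] at h7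
          have h8 : c ∈ Z0 hB (MulAction.stabilizer (Sp B) ω) v := h1
          rw [h7] at h8
          exact hc h8
        · exact AddSubgroup.eq_top_of_le_card _ (by rw [h7, hF])
      intro a
      have : a ∈ Z0 hB (MulAction.stabilizer (Sp B) ω) v := by rw [h5]; trivial
      exact this
    · intro h1
      exact hout ω h1 c
  let φ : F × F → Heis B v := fun x => ⟨x.1 • v, x.2 - 2 * x.1, by rw [map_smul, hB.alt, smul_zero]⟩
  have hφ : Function.Injective φ := by
    rintro ⟨a, c⟩ ⟨a', c'⟩ h
    have h1 : a • v = a' • v := congrArg Heis.w h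
    have h4 : c - 2 * a = c' - 2 * a' := congrArg Heis.c h
    have h5 : a = a' := smul_left_injective F hv0 h1
    subst h5
    rw [sub_left_inj] at h4
    rw [h4]
  have hφE : ∀ x : F × F, E B v (φ x).w (φ x).c = t B v x.2 := by
    intro x
    have h1 := E_add_v hB (map_zero (B v)) x.1 (x.2 - 2 * x.1)
    rw [zero_add, sub_add_cancel] at h1
    exact h1
  have hP : ∑ m ∈ Finset.univ.image φ, Nat.card {ω : X // E B v m.w m.c • ω = ω} = 54 := by
    rw [Finset.sum_image (fun x _ y _ h => hφ h)]
    have h1 : ∀ x : F × F, Nat.card {ω : X // E B v (φ x).w (φ x).c • ω = ω} =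
        3 + if x.2 = 0 then 9 else 0 := by
      intro x
      rw [hφE]
      split_ifs with h
      · rw [h, hfix0]
      · rw [hfix1 _ h]
    rw [Finset.sum_congr rfl (fun x _ => h1 x), Fintype.sum_prod_type]
    simp only [Finset.sum_add_distrib, Finset.sum_ite_eq', Finset.sum_const, Finset.card_univ, hF']
    simp
  have hPc : (Finset.univ.image φ).card = 9 := by
    rw [Finset.card_image_of_injective _ hφ, Finset.card_univ, Fintype.card_prod, hF']
  have hcompl : ((Finset.univ.image φ)ᶜ).card = 72 := by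
    rw [Finset.card_compl, hPc, ← Nat.card_eq_fintype_card, hM]
  obtain ⟨m0, hm0⟩ : ((Finset.univ.image φ)ᶜ).Nonempty := by
    rw [← Finset.card_pos, hcompl]; norm_num
  have hnot : ∀ m ∈ (Finset.univ.image φ)ᶜ, ∀ a : F, m.w ≠ a • v := by
    intro m hm a ha
    rw [Finset.mem_compl] at hm
    apply hm
    rw [Finset.mem_image]
    refine ⟨(a, m.c + 2 * a), Finset.mem_univ _, ?_⟩
    apply Heis.ext
    · exact ha.symm
    · change m.c + 2 * a - 2 * a = m.c
      ring
  have : FiniteDimensional F V := inferInstance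
  have hconst : ∀ m ∈ (Finset.univ.image φ)ᶜ, Nat.card {ω : X // E B v m.w m.c • ω = ω} =
      Nat.card {ω : X // E B v m0.w m0.c • ω = ω} := by
    intro m hm
    obtain ⟨g, hg⟩ := conj_of hB h2 m.h m0.h (hnot m hm) (hnot m0 hm0) m.c m0.c
    refine Nat.card_congr
      { toFun := fun ω => ⟨g • ω.1, ?_⟩
        invFun := fun ω => ⟨g⁻¹ • ω.1, ?_⟩
        left_inv := fun ω => Subtype.ext (inv_smul_smul _ _)
        right_inv := fun ω => Subtype.ext (smul_inv_smul _ _) }
    · have h4 := ω.2
      change E B v m0.w m0.c • (g • (ω : X)) = g • (ω : X)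
      rw [← hg, mul_smul, mul_smul, inv_smul_smul, h4]
    · have h4 : E B v m0.w m0.c • (ω : X) = ω := ω.2
      change E B v m.w m.c • (g⁻¹ • (ω : X)) = g⁻¹ • (ω : X)
      rw [eq_inv_smul_iff, ← mul_smul, ← mul_smul, hg]
      exact h4
  have hall : ∑ m : Heis B v, Nat.card {ω : X // E B v m.w m.c • ω = ω} =
      54 + 72 * Nat.card {ω : X // E B v m0.w m0.c • ω = ω} := by
    rw [← Finset.sum_add_sum_compl (Finset.univ.image φ), hP, Finset.sum_congr rfl hconst,
      Finset.sum_const, hcompl, smul_eq_mul]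
  rw [hall] at hsum
  omega

/-- `PSp_4(3)` has no subgroup of index 12 -/
theorem index_ne {F : Type*} [Field F] [Fintype F] (hF : Fintype.card F = 3)
    (H : Subgroup (Cfsg.PSp 2 F)) : H.index ≠ 12 := by
  classical
  intro hidx
  have hq : Nat.card F = 3 := by rw [Nat.card_eq_fintype_card, hF]
  have hB := symp_sympBilin (F := F) 2
  have hbij := toSp_bijective (F := F) 2
  have hV : Nat.card (Fin 2 ⊕ Fin 2 → F) = 81 := by
    rw [Nat.card_fun, Nat.card_sum, Nat.card_fin, hq]
    norm_num
  have hsurj : Function.Surjective (QuotientGroup.mk' (Subgroup.center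
      (Matrix.symplecticGroup (Fin 2) F))) := QuotientGroup.mk'_surjective _
  have h1 : (H.comap (QuotientGroup.mk' (Subgroup.center
      (Matrix.symplecticGroup (Fin 2) F)))).index = H.index :=
    Subgroup.index_comap_of_surjective _ hsurj
  have hne : H.comap (QuotientGroup.mk' (Subgroup.center
      (Matrix.symplecticGroup (Fin 2) F))) ≠ ⊤ := by
    intro h
    rw [h, Subgroup.index_top, hidx] at h1
    norm_num at h1
  refine no_twelve hB hq hV (exists_not_Tv 2 hne) ?_
  rw [Subgroup.index_map_of_bijective hbij, h1, hidx]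

end Cfsg.Agent.H539.UFour
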