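import Cfsg.Agent.H539.GoodFin
import Cfsg.Agent.H539.UFour
import Cfsg.Agent.S0822

set_option autoImplicit false

/-!
# `Good` for the classical groups of order prime to 3, 5 or 7
-/

namespace Cfsg.Agent.H539.GoodCl

open Cfsg.Agent.H540.ClassNum Cfsg.Agent.H934.OutB Cfsg.Agent.H934.OutCl Matrix
open Cfsg.Agent.H540.Good (Good Good.congr Good.of_bounds)
open Cfsg.Agent.H540 Cfsg.Agent.H867.Engine Cfsg.Agent.H539.GoodFin

theorem u42 {F : Type} [Field F] [Fintype F] (hF : Fintype.card F = 4)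
    (hs : IsSimpleGroup (Cfsg.PSU 4 F 2)) (hna : ¬ IsMulCommutative (Cfsg.PSU 4 F 2)) :
    Good (Cfsg.PSU 4 F 2) := by
  have hF2 : Fintype.card F = 2 ^ 2 := by rw [hF]; norm_num
  obtain ⟨h1, h2⟩ := psu_data (p := 2) (f := 1) (by norm_num) (by norm_num) (by norm_num) hF2
    (by norm_num) (by norm_num) hs hna
  have hc : Nat.card (Cfsg.PSU 4 F 2) = 25920 := GoodPSU.card_of hF2 (by norm_num) (by decide)
  obtain ⟨e⟩ := S0822.result (F := F) (K := ZMod 3) hF (ZMod.card 3)
  have h9 : ∀ K : Subgroup (Cfsg.PSU 4 F 2), K ≠ ⊤ → 9 ≤ K.index := fun K hK =>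
    RowPSp.idx_of_card hna hc (by decide +kernel) K hK
  have h10 := step hna h9 fun h => by
    have h1 := EngG.Sit.jj h (by norm_num) (r := 5) (k := 1) (by norm_num) (by norm_num)
      (by rw [hc]; norm_num) (by decide)
    rw [hc] at h1
    revert h1
    decide
  have h11 := step hna h10 fun h => by
    have h1 := EngG.Sit.jj h (by norm_num) (r := 3) (k := 4) (by norm_num) (by norm_num)
      (by rw [hc]; norm_num) (by decide)
    rw [hc] at h1
    revert h1
    decide
  have h12 := step hna h11 fun h => by have := h.dvd; rw [hc] at this; revert this; norm_num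
  have h13 := step hna h12 fun h => by
    obtain ⟨K, -, hK⟩ := h.ex
    refine UFour.index_ne (F := ZMod 3) (ZMod.card 3) (K.map e.toMonoidHom) ?_
    rw [Subgroup.index_map_of_bijective e.bijective, hK]
  have h14 := step hna h13 fun h => by have := h.dvd; rw [hc] at this; revert this; norm_num
  have h15 := step hna h14 fun h => by have := h.dvd; rw [hc] at this; revert this; norm_num
  exact Good.of_bounds (c := 66) (o := 2) (L := 15) (by norm_num at h2; omega) (by rw [h1]; decide)
    h15 (by norm_num)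

/-- `Good T` for `T = PSU_n(q)` -/
theorem psu (T : Type) [Group T] [Finite T] [IsSimpleGroup T] (hT : ¬ IsMulCommutative T)
    (h : Cfsg.IsPSU T) : Good T := by
  by_cases h1 : Nat.card T ≠ 6048 ∧ Nat.card T ≠ 62400 ∧ Nat.card T ≠ 25920 ∧
      Nat.card T ≠ 13685760
  · exact GoodPSU.row T hT h h1.1 h1.2.1 h1.2.2.1 h1.2.2.2
  obtain ⟨F, _, _, n, q, hF, hn, h32, ⟨e⟩⟩ := h
  have hs : IsSimpleGroup (Cfsg.PSU n F q) := (MulEquiv.isSimpleGroup_congr e).1 inferInstance
  have hna : ¬ IsMulCommutative (Cfsg.PSU n F q) := by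
    intro h
    apply hT
    refine ⟨⟨fun a b => ?_⟩⟩
    apply e.injective
    rw [map_mul, map_mul]
    exact h.is_comm.comm _ _
  refine Good.congr ?_ e.symm
  by_cases h25 : 25 ≤ q ^ (n - 1)
  · -- generic
    obtain ⟨p, f', hp, hf', hF'⟩ := exists_pf F
    have := Fact.mk hp
    obtain ⟨f, -, hq⟩ : ∃ f ≤ f', q = p ^ f := (Nat.dvd_prime_pow hp).1 (by
      rw [← hF', hF]; exact dvd_pow_self q (by norm_num))
    have hf : 1 ≤ f := by
      by_contra h0
      have : f = 0 := by omega
      subst this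
      rw [hq, pow_zero, one_pow] at hF
      have := Fintype.one_lt_card (α := F)
      omega
    obtain ⟨h6, hk⟩ := psu_data hp hf hq hF hn h32 hs hna
    intro K hK
    refine (GoodPSU.num hp.two_le hf hq hn h6 hk h25).trans ?_
    exact Nat.pow_le_pow_right (by norm_num)
      (H934.IdxPSU.pow_le_index hF hn (MulEquiv.refl _) K hK)
  · push Not at h25
    have hq2 : 2 ≤ q := by
      have := Fintype.one_lt_card (α := F)
      rw [hF] at this
      by_contra hcon
      have : q ≤ 1 := by omega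
      have : q ^ 2 ≤ 1 ^ 2 := Nat.pow_le_pow_left this 2
      omega
    have hq4 : q ≤ 4 := by
      by_contra hcon
      have : 5 ^ 2 ≤ q ^ (n - 1) := (Nat.pow_le_pow_left (by omega) 2).trans
        (Nat.pow_le_pow_right (by omega) (by omega))
      omega
    have hn5 : n ≤ 5 := by
      by_contra hcon
      have : 2 ^ 5 ≤ q ^ (n - 1) := (Nat.pow_le_pow_left hq2 5).trans
        (Nat.pow_le_pow_right (by omega) (by omega))
      omega
    rcases (show (q = 2 ∧ n = 3) ∨ (q = 2 ∧ n = 4) ∨ (q = 2 ∧ n = 5) ∨ (q = 3 ∧ n = 3) ∨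
        (q = 4 ∧ n = 3) ∨ 25 ≤ q ^ (n - 1) by
      interval_cases q <;> interval_cases n <;> norm_num) with h | h | h | h | h | h
    · exact absurd ⟨h.2, h.1⟩ h32
    · obtain ⟨rfl, rfl⟩ := h
      exact u42 (by rw [hF]; norm_num) hs hna
    · obtain ⟨rfl, rfl⟩ := h
      exact u52 hF hs hna
    · obtain ⟨rfl, rfl⟩ := h
      exact u33 hF hs hna
    · obtain ⟨rfl, rfl⟩ := h
      exact u34 hF hs hna
    · omega

/-- `Good T` for `T = PSp_2m(q)` of order prime to 3, 5 or 7 -/
theorem psp (T : Type) [Group T] [Finite T] [IsSimpleGroup T] (hT : ¬ IsMulCommutative T)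
    (h : Cfsg.IsPSp T) (hr : ∃ r ∈ ({3, 5, 7} : Set ℕ), ¬ r ∣ Nat.card T) : Good T := by
  by_cases h1 : Nat.card T ≠ 25920 ∧ Nat.card T ≠ 979200 ∧ Nat.card T ≠ 4680000
  · exact GoodPSp.row T hT h hr h1.1 h1.2.1 h1.2.2
  obtain ⟨F, _, _, m, hm, h3, ⟨e⟩⟩ := h
  have hs : IsSimpleGroup (Cfsg.PSp m F) := (MulEquiv.isSimpleGroup_congr e).1 inferInstance
  have hna : ¬ IsMulCommutative (Cfsg.PSp m F) := by
    intro h
    apply hT
    refine ⟨⟨fun a b => ?_⟩⟩
    apply e.injective
    rw [map_mul, map_mul]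
    exact h.is_comm.comm _ _
  rw [Nat.card_congr e.toEquiv] at hr
  refine Good.congr ?_ e.symm
  obtain ⟨r, hr, hd⟩ := hr
  have hr7 : r = 7 ∧ m = 2 := by
    rcases hr with rfl | rfl | rfl
    · exact absurd (GoodPSp.dvd_three (by omega)) hd
    · exact absurd (GoodPSp.dvd_five hm) hd
    · refine ⟨rfl, ?_⟩
      by_contra hne
      exact hd (GoodPSp.dvd_seven (by omega))
  obtain ⟨rfl, rfl⟩ := hr7
  by_cases hq3 : Fintype.card F = 3
  · have : Finite (GaloisField 2 2) := inferInstance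
    let _ : Fintype (GaloisField 2 2) := Fintype.ofFinite _
    obtain ⟨e'⟩ := S0822.result (F := GaloisField 2 2) (K := F) (by
      rw [← Nat.card_eq_fintype_card, GaloisField.card 2 2 (by norm_num)]; norm_num) hq3
    have hs' : IsSimpleGroup (Cfsg.PSU 4 (GaloisField 2 2) 2) :=
      (MulEquiv.isSimpleGroup_congr e').2 inferInstance
    refine (u42 (F := GaloisField 2 2) ?_ hs' ?_).congr e'
    · rw [← Nat.card_eq_fintype_card, GaloisField.card 2 2 (by norm_num)]; norm_num
    · intro h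
      apply hna
      refine ⟨⟨fun a b => ?_⟩⟩
      apply e'.symm.injective
      rw [map_mul, map_mul]
      exact h.is_comm.comm _ _
  by_cases hq45 : Fintype.card F = 4 ∨ Fintype.card F = 5
  · exact GoodFin.psp rfl hq45 hs hna
  push Not at hq45
  exact GoodPSp.main' (h3 rfl) hs hna hd hq3 hq45.1 hq45.2

end Cfsg.Agent.H539.GoodCl
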