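import Cfsg.Agent.H540.Good
import Cfsg.Agent.H539.RowPSU

set_option autoImplicit false

/-!
# `Good` for the groups `PSU_n(q)`
-/

namespace Cfsg.Agent.H539.GoodPSU

open Cfsg.Agent.H540.ClassNum Cfsg.Agent.H934.OutB Cfsg.Agent.H934.OutCl Matrix
open Cfsg.Agent.H540.Good (Good Good.congr)
open Cfsg.Agent.H539.RowPSU (lin_le)

theorem cube_le {m : ℕ} (hm : 25 ≤ m) : 6140484 * m ^ 3 ≤ 10000 * 2 ^ m := by
  induction m, hm using Nat.le_induction with
  | base => norm_num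
  | succ m hm ih =>
    rw [pow_succ 2]
    have h1 : (m + 1) ^ 3 ≤ 2 * m ^ 3 := by nlinarith [Nat.mul_le_mul hm hm]
    omega

/-- generic case -/
theorem num {p f q n o k : ℕ} (hp : 2 ≤ p) (hf : 1 ≤ f) (hq : q = p ^ f) (hn : 3 ≤ n)
    (ho : o = Nat.gcd n (q + 1) * (2 * f)) (hk : 100 * k ≤ 826 * q ^ (n - 1))
    (h25 : 25 ≤ q ^ (n - 1)) : (k * o) ^ 2 ≤ 2 ^ (q ^ (n - 1)) := by
  have h1 := lin_le hf hp
  rw [← hq] at h1
  have hq2 : 2 ≤ q := by omega
  have hg : Nat.gcd n (q + 1) ≤ q + 1 := Nat.gcd_le_right _ (by omega)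
  have hg' : Nat.gcd n (q + 1) ≤ n := Nat.gcd_le_left _ (by omega)
  have h2 : o ^ 2 ≤ 9 * q ^ (n - 1) := by
    rcases (show n = 3 ∨ n = 4 ∨ 5 ≤ n by omega) with h | h | h
    · subst h
      have h3 : o ≤ 3 * q := by rw [ho]; exact Nat.mul_le_mul hg' (by omega)
      have e : q ^ (3 - 1) = q ^ 2 := rfl
      rw [e]
      nlinarith [Nat.pow_le_pow_left h3 2]
    · subst h
      have h3 : o ≤ 4 * q := by rw [ho]; exact Nat.mul_le_mul hg' (by omega)
      have e : q ^ (4 - 1) = q * q ^ 2 := by rw [← pow_succ']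
      rw [e]
      have h4 : 2 * q ^ 2 ≤ q * q ^ 2 := Nat.mul_le_mul_right _ hq2
      have h5 := Nat.pow_le_pow_left h3 2
      nlinarith
    · have h3 : o ≤ (q + 1) * q := by rw [ho]; exact Nat.mul_le_mul hg (by omega)
      have h4 : 2 * o ≤ 3 * q ^ 2 := by nlinarith
      have h5 : (2 * o) ^ 2 ≤ (3 * q ^ 2) ^ 2 := Nat.pow_le_pow_left h4 2
      have h6 : (3 * q ^ 2) ^ 2 = 9 * q ^ 4 := by ring
      have h7 : (2 * o) ^ 2 = 4 * o ^ 2 := by ring
      have h8 : q ^ 4 ≤ q ^ (n - 1) := Nat.pow_le_pow_right (by omega) (by omega)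
      omega
  set N := q ^ (n - 1) with hN
  have h3 : (100 * k) ^ 2 ≤ (826 * N) ^ 2 := Nat.pow_le_pow_left hk 2
  have h4 : 10000 * (k * o) ^ 2 ≤ 6140484 * N ^ 3 := by
    calc 10000 * (k * o) ^ 2 = (100 * k) ^ 2 * o ^ 2 := by ring
      _ ≤ (826 * N) ^ 2 * (9 * N) := Nat.mul_le_mul h3 h2
      _ = 6140484 * N ^ 3 := by ring
  have h5 := cube_le h25
  omega

variable {F : Type} [Field F] [Fintype F]

theorem card_of {n q N : ℕ} (hF : Fintype.card F = q ^ 2) (hn : 2 ≤ n)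
    (h : Nat.gcd n (q + 1) * ((q + 1) * N) = q ^ (n * (n - 1) / 2) *
      ∏ i ∈ Finset.range n, (if Even i then q ^ (i + 1) + 1 else q ^ (i + 1) - 1)) :
    Nat.card (Cfsg.PSU n F q) = N := by
  have h1 := S0280.result (F := F) hF n hn
  rw [← h] at h1
  have h2 : 0 < Nat.gcd n (q + 1) := Nat.gcd_pos_of_pos_left _ (by omega)
  exact Nat.eq_of_mul_eq_mul_left (Nat.succ_pos q) (Nat.eq_of_mul_eq_mul_left h2 h1)

theorem main {n q : ℕ} (hF : Fintype.card F = q ^ 2) (hn : 3 ≤ n) (h32 : ¬ (n = 3 ∧ q = 2))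
    (hs : IsSimpleGroup (Cfsg.PSU n F q)) (hna : ¬ IsMulCommutative (Cfsg.PSU n F q))
    (h1 : Nat.card (Cfsg.PSU n F q) ≠ 6048) (h2 : Nat.card (Cfsg.PSU n F q) ≠ 62400)
    (h3 : Nat.card (Cfsg.PSU n F q) ≠ 25920) (h4 : Nat.card (Cfsg.PSU n F q) ≠ 13685760) :
    Good (Cfsg.PSU n F q) := by
  obtain ⟨p, f', hp, hf', hF'⟩ := exists_pf F
  have := Fact.mk hp
  obtain ⟨f, -, hq⟩ : ∃ f ≤ f', q = p ^ f := (Nat.dvd_prime_pow hp).1 (by
    rw [← hF', hF]; exact dvd_pow_self q (by norm_num))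
  have hf : 1 ≤ f := by
    by_contra h0
    have : f = 0 := by omega
    subst this
    rw [hq, pow_zero, one_pow] at hF
    have := Fintype.one_lt_card (α := F)
    omega
  have : Finite (Cfsg.PSU n F q) := inferInstance
  have h5 := Cfsg.Agent.S0815.result (F := F) p f hf hq hF n hn h32
  have h6 := card_out_of_aut hna h5
  have hk0 : Nat.card (ConjClasses (Cfsg.PSU n F q)) ≤ Nat.card (ConjClasses (Cfsg.SU n F q)) :=
    card_conjClasses_le_of_surjective (QuotientGroup.mk' _) (QuotientGroup.mk'_surjective _)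
  have hk : 100 * Nat.card (ConjClasses (Cfsg.PSU n F q)) ≤ 826 * q ^ (n - 1) :=
    (Nat.mul_le_mul_left _ hk0).trans (S2481.result (F := F) n q (by omega) hF).2
  have hq2 : 2 ≤ q := by
    rw [hq]
    exact hp.two_le.trans (Nat.le_self_pow (by omega) _)
  by_cases h25 : 25 ≤ q ^ (n - 1)
  · intro K hK
    refine (num hp.two_le hf hq hn h6 hk h25).trans ?_
    exact Nat.pow_le_pow_right (by norm_num)
      (H934.IdxPSU.pow_le_index hF hn (MulEquiv.refl _) K hK)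
  · exfalso
    push Not at h25
    have hq4 : q ≤ 4 := by
      by_contra hcon
      have : 5 ^ 2 ≤ q ^ (n - 1) := (Nat.pow_le_pow_left (by omega) 2).trans
        (Nat.pow_le_pow_right (by omega) (by omega))
      omega
    have hn5 : n ≤ 5 := by
      by_contra hcon
      have : 2 ^ 5 ≤ q ^ (n - 1) := (Nat.pow_le_pow_left hq2 5).trans
        (Nat.pow_le_pow_right (by omega) (by omega))
      omega
    rcases (show (q = 2 ∧ n = 3) ∨ (q = 2 ∧ n = 4) ∨ (q = 2 ∧ n = 5) ∨ (q = 3 ∧ n = 3) ∨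
        (q = 4 ∧ n = 3) ∨ 25 ≤ q ^ (n - 1) by
      interval_cases q <;> interval_cases n <;> norm_num) with h | h | h | h | h | h
    · exact h32 ⟨h.2, h.1⟩
    · obtain ⟨rfl, rfl⟩ := h
      exact h3 (card_of hF (by norm_num) (by decide))
    · obtain ⟨rfl, rfl⟩ := h
      exact h4 (card_of hF (by norm_num) (by decide))
    · obtain ⟨rfl, rfl⟩ := h
      exact h1 (card_of hF (by norm_num) (by decide))
    · obtain ⟨rfl, rfl⟩ := h
      exact h2 (card_of hF (by norm_num) (by decide))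
    · omega

/-- `Good T` for `T = PSU_n(q)` apart from `U_3(3)`, `U_3(4)`, `U_4(2)`, `U_5(2)`. -/
theorem row (T : Type) [Group T] [Finite T] [IsSimpleGroup T] (hT : ¬ IsMulCommutative T)
    (h : Cfsg.IsPSU T) (h1 : Nat.card T ≠ 6048) (h2 : Nat.card T ≠ 62400)
    (h3 : Nat.card T ≠ 25920) (h4 : Nat.card T ≠ 13685760) : Good T := by
  obtain ⟨F, _, _, n, q, hF, hn, h32, ⟨e⟩⟩ := h
  have hs : IsSimpleGroup (Cfsg.PSU n F q) := (MulEquiv.isSimpleGroup_congr e).1 inferInstance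
  have hna : ¬ IsMulCommutative (Cfsg.PSU n F q) := by
    intro h
    apply hT
    refine ⟨⟨fun a b => ?_⟩⟩
    apply e.injective
    rw [map_mul, map_mul]
    exact h.is_comm.comm _ _
  rw [Nat.card_congr e.toEquiv] at h1 h2 h3 h4
  exact (main hF hn h32 hs hna h1 h2 h3 h4).congr e.symm

end Cfsg.Agent.H539.GoodPSU
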