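import Cfsg.Agent.H540.Good
import Cfsg.Agent.H539.RowPSL
import Cfsg.Agent.S0243

set_option autoImplicit false

/-!
# `Good` for the groups `PSL_n(q)`
-/

namespace Cfsg.Agent.H539.GoodPSL

open Cfsg.Agent.H540.ClassNum Cfsg.Agent.H934.OutB Cfsg.Agent.H934.OutCl Matrix
open Cfsg.Agent.H540.Good (Good Good.congr)
open Cfsg.Agent.H539.RowPSL (lin_le)

/-- from `d o = |Out|`, `d k ≤ B` -/
theorem of_mul {T : Type*} [Group T] {d o B b : ℕ}
    (ho : Nat.card (Cfsg.Out T) = o * d) (hk : d * Nat.card (ConjClasses T) ≤ B)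
    (hb : ∀ K : Subgroup T, K ≠ ⊤ → b ≤ K.index) (h : (o * B) ^ 2 ≤ 2 ^ b) : Good T := by
  intro K hK
  have e : Nat.card (ConjClasses T) * Nat.card (Cfsg.Out T) =
      o * (d * Nat.card (ConjClasses T)) := by rw [ho]; ring
  rw [e]
  refine (Nat.pow_le_pow_left (Nat.mul_le_mul_left _ hk) 2).trans (h.trans ?_)
  exact Nat.pow_le_pow_right (by norm_num) (hb K hK)

/-- index bound from a prime divisor of the order -/
theorem prime_le_index {T : Type*} [Group T] [Finite T] [IsSimpleGroup T]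
    (hna : ¬ IsMulCommutative T) {r : ℕ} (hr : r.Prime) (h : r ∣ Nat.card T)
    (K : Subgroup T) (hK : K ≠ ⊤) : r ≤ K.index := by
  have h1 := SmallSimple.Embed.two_mul_card_dvd_factorial_index hna K hK
  exact (hr.dvd_factorial).1 ((h.trans (Dvd.intro_left 2 rfl)).trans h1)

theorem num_two {p f q : ℕ} (hp : 2 ≤ p) (hf : 1 ≤ f) (hq : q = p ^ f) (h13 : 13 ≤ q) :
    (f * (q ^ (2 - 1) + 5 * q ^ (2 - 2))) ^ 2 ≤ 2 ^ (q + 1) := by
  have h1 := lin_le hf hp
  rw [← hq] at h1
  have h2 : q ^ (2 - 1) + 5 * q ^ (2 - 2) = q + 5 := by norm_num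
  rw [h2]
  have h3 : ∀ m, 13 ≤ m → (m * (m + 5)) ^ 2 ≤ 4 * 2 ^ (m + 1) := by
    intro m hm
    induction m, hm using Nat.le_induction with
    | base => norm_num
    | succ m hm ih =>
      rw [pow_succ 2 (m + 1)]
      have h4 : ((m + 1) * (m + 1 + 5)) ^ 2 ≤ 2 * (m * (m + 5)) ^ 2 := by
        have h5 : 5 * ((m + 1) * (m + 1 + 5)) ≤ 7 * (m * (m + 5)) := by nlinarith
        have h6 := Nat.pow_le_pow_left h5 2
        nlinarith
      omega
  have h4 := h3 q h13
  have h5 : (2 * (f * (q + 5))) ^ 2 ≤ (q * (q + 5)) ^ 2 :=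
    Nat.pow_le_pow_left (by rw [← mul_assoc]; exact Nat.mul_le_mul_right _ (by omega)) 2
  have h6 : (2 * (f * (q + 5))) ^ 2 = 4 * (f * (q + 5)) ^ 2 := by ring
  omega

theorem cube_le {m : ℕ} (hm : 16 ≤ m) : 81 * m ^ 3 ≤ 16 * 2 ^ m := by
  induction m, hm using Nat.le_induction with
  | base => norm_num
  | succ m hm ih =>
    rw [pow_succ 2]
    have h1 : (m + 1) ^ 3 ≤ 2 * m ^ 3 := by nlinarith [Nat.mul_le_mul hm hm]
    omega

/-- `(2 f (q^(n-1) + 5 q^(n-2)))² ≤ 2 ^ q^(n-1)` if `q^(n-1) ≥ 16`. -/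
theorem num_ge_three {p f q n : ℕ} (hp : 2 ≤ p) (hf : 1 ≤ f) (hq : q = p ^ f) (hn : 3 ≤ n)
    (h16 : 16 ≤ q ^ (n - 1)) :
    (2 * f * (q ^ (n - 1) + 5 * q ^ (n - 2))) ^ 2 ≤ 2 ^ (q ^ (n - 1)) := by
  have h1 := lin_le hf hp
  rw [← hq] at h1
  have hq2 : 2 ≤ q := by omega
  obtain ⟨k, rfl⟩ : ∃ k, n = k + 3 := ⟨n - 3, by omega⟩
  have e1 : k + 3 - 1 = k + 2 := by omega
  have e2 : k + 3 - 2 = k + 1 := by omega
  rw [e1] at h16 ⊢
  rw [e2]
  have h3 : q ^ 2 ≤ q ^ (k + 2) := Nat.pow_le_pow_right (by omega) (by omega)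
  have h2 : q * q ^ (k + 1) = q ^ (k + 2) := (pow_succ' q (k + 1)).symm
  set N := q ^ (k + 2) with hN
  set M := q ^ (k + 1) with hM
  have h4 : 16 * (q + 5) ^ 2 ≤ 81 * N := by
    rcases Nat.lt_or_ge q 4 with hq4 | hq4
    · have : (q + 5) ^ 2 ≤ 8 ^ 2 := Nat.pow_le_pow_left (by omega) 2
      omega
    · have : (4 * (q + 5)) ^ 2 ≤ (9 * q) ^ 2 := Nat.pow_le_pow_left (by omega) 2
      nlinarith
  have h5 : 2 * f * (N + 5 * M) ≤ N * (q + 5) := by
    calc 2 * f * (N + 5 * M) = (f * 2) * (N + 5 * M) := by ring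
      _ ≤ q * (N + 5 * M) := Nat.mul_le_mul_right _ h1
      _ = N * q + 5 * (q * M) := by ring
      _ = N * (q + 5) := by rw [h2]; ring
  have h6 := Nat.pow_le_pow_left h5 2
  have h7 : 16 * (N * (q + 5)) ^ 2 ≤ 81 * N ^ 3 := by
    calc 16 * (N * (q + 5)) ^ 2 = N ^ 2 * (16 * (q + 5) ^ 2) := by ring
      _ ≤ N ^ 2 * (81 * N) := Nat.mul_le_mul_left _ h4
      _ = _ := by ring
  have h8 := cube_le h16
  omega

/-! ### the rows -/

variable {F : Type} [Field F] [Fintype F]

theorem card_of {n q N : ℕ} (hq : Fintype.card F = q) (hn : 2 ≤ n)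
    (h : Nat.gcd n (q - 1) * ((q - 1) * N) = ∏ i : Fin n, (q ^ n - q ^ (i : ℕ))) (hq2 : 2 ≤ q) :
    Nat.card (ProjectiveSpecialLinearGroup (Fin n) F) = N := by
  have h1 := S0243.result (F := F) hq n hn
  rw [← h] at h1
  have h2 : 0 < Nat.gcd n (q - 1) := Nat.gcd_pos_of_pos_left _ (by omega)
  exact Nat.eq_of_mul_eq_mul_left (by omega : 0 < q - 1) (Nat.eq_of_mul_eq_mul_left h2 h1)

theorem two (h4 : 4 ≤ Fintype.card F) (hs : IsSimpleGroup (ProjectiveSpecialLinearGroup (Fin 2) F))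
    (hna : ¬ IsMulCommutative (ProjectiveSpecialLinearGroup (Fin 2) F))
    (h60 : Nat.card (ProjectiveSpecialLinearGroup (Fin 2) F) ≠ 60)
    (h168 : Nat.card (ProjectiveSpecialLinearGroup (Fin 2) F) ≠ 168)
    (h360 : Nat.card (ProjectiveSpecialLinearGroup (Fin 2) F) ≠ 360)
    (h504 : Nat.card (ProjectiveSpecialLinearGroup (Fin 2) F) ≠ 504) :
    Good (ProjectiveSpecialLinearGroup (Fin 2) F) := by
  obtain ⟨p, f, hp, hf, hF⟩ := exists_pf F
  have := Fact.mk hp
  have := finite_psl (F := F) 2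
  have h1 := Cfsg.Agent.S0813.result (F := F) p f hf hF 2 (by omega) (fun _ => by rw [← hF]; exact h4)
  rw [if_pos rfl, card_pgl (by omega), ← mul_assoc, one_mul] at h1
  have h2 := card_out_of_aut hna h1
  have h3 := (S2480.result (F := F) 2 le_rfl).2
  have h4' : Fintype.card F ≠ 4 := fun h => h60 (card_of h le_rfl (by decide) (by norm_num))
  have h5 : Fintype.card F ≠ 5 := fun h => h60 (card_of h le_rfl (by decide) (by norm_num))
  have h7 : Fintype.card F ≠ 7 := fun h => h168 (card_of h le_rfl (by decide) (by norm_num))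
  have h8 : Fintype.card F ≠ 8 := fun h => h504 (card_of h le_rfl (by decide) (by norm_num))
  have h9 : Fintype.card F ≠ 9 := fun h => h360 (card_of h le_rfl (by decide) (by norm_num))
  by_cases h11 : Fintype.card F = 11
  · have hf1' : f = 1 := by
      by_contra hne
      have h5 : p ^ 2 ∣ p ^ f := pow_dvd_pow p (by omega)
      rw [← hF, h11] at h5
      have h6 : p ∣ 11 := (dvd_pow_self p (by norm_num)).trans h5
      rw [(Nat.prime_dvd_prime_iff_eq hp (by norm_num)).1 h6] at h5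
      omega
    have hc := card_of (n := 2) (N := 660) h11 le_rfl (by decide) (by norm_num)
    refine of_mul h2 h3 (b := 11) (fun K hK => prime_le_index hna (by norm_num)
      (by rw [hc]; norm_num) K hK) ?_
    rw [hf1', h11]
    norm_num
  · have hpp : ∀ m : ℕ, Fintype.card F = m → IsPrimePow m := fun m hm => by
      rw [← hm, hF]; exact hp.isPrimePow.pow (by omega)
    have h13 : 13 ≤ Fintype.card F := by
      by_contra hcon
      have h6 : Fintype.card F = 6 ∨ Fintype.card F = 10 ∨ Fintype.card F = 12 := by omega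
      have h2' : 2 ∣ p ^ f := by rw [← hF]; omega
      have h2'' := (Nat.prime_dvd_prime_iff_eq Nat.prime_two hp).1 (Nat.prime_two.dvd_of_dvd_pow h2')
      rw [← h2''] at hF
      have hf4 : f < 4 := by
        by_contra hcon'
        have : 2 ^ 4 ≤ 2 ^ f := Nat.pow_le_pow_right (by norm_num) (by omega)
        omega
      interval_cases f <;> omega
    have hq : Fintype.card F ∉ ({2, 3, 5, 7, 9, 11} : Finset ℕ) := by
      simp only [Finset.mem_insert, Finset.mem_singleton]
      omega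
    exact of_mul h2 h3 (S0806.result rfl hq).1 (num_two hp.two_le hf hF h13)

theorem ge_three {n : ℕ} (hn : 3 ≤ n) (hs : IsSimpleGroup (ProjectiveSpecialLinearGroup (Fin n) F))
    (hna : ¬ IsMulCommutative (ProjectiveSpecialLinearGroup (Fin n) F))
    (hr : ∃ r ∈ ({3, 5, 7} : Set ℕ), ¬ r ∣ Nat.card (ProjectiveSpecialLinearGroup (Fin n) F))
    (h168 : Nat.card (ProjectiveSpecialLinearGroup (Fin n) F) ≠ 168) :
    Good (ProjectiveSpecialLinearGroup (Fin n) F) := by
  obtain ⟨p, f, hp, hf, hF⟩ := exists_pf F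
  have := Fact.mk hp
  have := finite_psl (F := F) n
  have h1 := Cfsg.Agent.S0813.result (F := F) p f hf hF n (by omega) (by omega)
  rw [if_neg (by omega), card_pgl (by omega), ← mul_assoc] at h1
  have h2 := card_out_of_aut hna h1
  have h3 := (S2480.result (F := F) n (by omega)).2
  have hq2 : 2 ≤ Fintype.card F := Fintype.one_lt_card
  by_cases h16 : 16 ≤ Fintype.card F ^ (n - 1)
  · refine of_mul h2 h3 (b := Fintype.card F ^ (n - 1)) (fun K hK => ?_)
      (num_ge_three hp.two_le hf hF hn h16)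
    have h4 := H934.IdxCl.psl (ι := Fin n) (F := F) (by rwa [Fintype.card_fin]) hs K hK
    rwa [Fintype.card_fin] at h4
  · have hq3 : Fintype.card F ≤ 3 := by
      by_contra hne
      apply h16
      calc 16 = 4 ^ 2 := by norm_num
        _ ≤ Fintype.card F ^ 2 := Nat.pow_le_pow_left (by omega) 2
        _ ≤ _ := Nat.pow_le_pow_right (by omega) (by omega)
    have hn4 : n ≤ 4 := by
      by_contra hne
      apply h16
      calc 16 = 2 ^ 4 := by norm_num
        _ ≤ Fintype.card F ^ 4 := Nat.pow_le_pow_left hq2 4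
        _ ≤ _ := Nat.pow_le_pow_right (by omega) (by omega)
    rcases (show Fintype.card F = 2 ∨ Fintype.card F = 3 by omega) with hq | hq
    · rcases (show n = 3 ∨ n = 4 by omega) with rfl | rfl
      · exact absurd (card_of (n := 3) hq (by norm_num) (by decide) le_rfl) h168
      · have hc := card_of (n := 4) (N := 20160) hq (by norm_num) (by decide) le_rfl
        obtain ⟨r, hr, hd⟩ := hr
        exfalso
        apply hd
        rw [hc]
        rcases hr with rfl | rfl | rfl <;> norm_num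
    · rcases (show n = 3 ∨ n = 4 by omega) with rfl | rfl
      · have hf1 : f = 1 := by
          by_contra hne
          have : 2 ^ 2 ≤ p ^ f := (Nat.pow_le_pow_left hp.two_le 2).trans
            (Nat.pow_le_pow_right hp.pos (by omega))
          omega
        have hc := card_of (n := 3) (N := 5616) hq (by norm_num) (by decide) (by norm_num)
        refine of_mul h2 h3 (b := 13) (fun K hK => prime_le_index hna (by norm_num)
          (by rw [hc]; norm_num) K hK) ?_
        rw [hf1, hq]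
        norm_num
      · exfalso
        apply h16
        rw [hq]
        norm_num

/-- `Good T` for `T = PSL_n(q)` of order prime to 3, 5 or 7, apart from `A_5`, `L_2(7)`, `A_6` and
`L_2(8)`. -/
theorem row (T : Type) [Group T] [Finite T] [IsSimpleGroup T] (hT : ¬ IsMulCommutative T)
    (h : Cfsg.IsPSL T) (hr : ∃ r ∈ ({3, 5, 7} : Set ℕ), ¬ r ∣ Nat.card T)
    (h60 : Nat.card T ≠ 60) (h168 : Nat.card T ≠ 168) (h360 : Nat.card T ≠ 360)
    (h504 : Nat.card T ≠ 504) : Good T := by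
  obtain ⟨F, _, _, n, hn, h4, ⟨e⟩⟩ := h
  have hs : IsSimpleGroup (ProjectiveSpecialLinearGroup (Fin n) F) :=
    (MulEquiv.isSimpleGroup_congr e).1 inferInstance
  have hna : ¬ IsMulCommutative (ProjectiveSpecialLinearGroup (Fin n) F) := by
    intro h
    apply hT
    refine ⟨⟨fun a b => ?_⟩⟩
    apply e.injective
    rw [map_mul, map_mul]
    exact h.is_comm.comm _ _
  rw [Nat.card_congr e.toEquiv] at h60 h168 h360 h504 hr
  refine Good.congr ?_ e.symm
  rcases hn.eq_or_lt with rfl | hn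
  · exact two (h4 rfl) hs hna h60 h168 h360 h504
  · exact ge_three hn hs hna hr h168

end Cfsg.Agent.H539.GoodPSL
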