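import Cfsg.Agent.H540.Good
import Cfsg.Agent.H539.RowPSp
import Cfsg.Agent.H539.GoodPSL
import Mathlib.Tactic.NormNum.Prime

set_option autoImplicit false

/-!
# `Good` for the groups `PSp_2m(q)` of order prime to 3, 5 or 7
-/

namespace Cfsg.Agent.H539.GoodPSp

open Cfsg.Agent.H540.ClassNum Cfsg.Agent.H934.OutB Cfsg.Agent.H934.OutCl Matrix
  Cfsg.Agent.OddHalf.Orders
open Cfsg.Agent.H540.Good (Good Good.congr Good.of_bounds)
open Cfsg.Agent.H539.RowPSp (lin_le card_out_le)
open Cfsg.Agent.H539.GoodPSL (prime_le_index)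

variable {F : Type} [Field F] [Fintype F]

/-- a prime divisor of `q^(2i) - 1`, `1 ≤ i ≤ m`, or of `q` -/
theorem dvd_sp {m q r : ℕ} (hm : 1 ≤ m) (h : r ∣ q ∨ ∃ i < m, r ∣ q ^ (2 * (i + 1)) - 1) :
    r ∣ sp m q := by
  rcases h with h | ⟨i, hi, h⟩
  · exact (h.trans (dvd_pow_self q (by positivity))).trans (Dvd.intro _ rfl)
  · have h1 : q ^ (2 * (i + 1)) - 1 ∣ ((List.range m).map fun i => q ^ (2 * (i + 1)) - 1).prod :=
      List.dvd_prod (List.mem_map.2 ⟨i, List.mem_range.2 hi, rfl⟩)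
    exact (h.trans h1).trans (Dvd.intro_left _ rfl)

theorem dvd_card {m q r : ℕ} (hm : 1 ≤ m) (hq : Fintype.card F = q) (hr : r.Prime) (hr2 : r ≠ 2)
    (h : r ∣ q ∨ ∃ i < m, r ∣ q ^ (2 * (i + 1)) - 1) : r ∣ Nat.card (Cfsg.PSp m F) := by
  have h1 := card_psp (F := F) m hm
  rw [hq] at h1
  have h2 := dvd_sp hm h
  rw [← h1] at h2
  rcases hr.dvd_mul.1 h2 with h3 | h3
  · exfalso
    apply hr2
    exact (Nat.prime_dvd_prime_iff_eq hr Nat.prime_two).1 (h3.trans (Nat.gcd_dvd_left _ _))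
  · exact h3

theorem fermat {q r : ℕ} (hr : r.Prime) (h : ¬ r ∣ q) : r ∣ q ^ (r - 1) - 1 := by
  have h1 : q ^ (r - 1) ≡ 1 [MOD r] := by
    have := Nat.ModEq.pow_totient (n := r) (x := q) ((Nat.Prime.coprime_iff_not_dvd hr).2 h).symm
    rwa [Nat.totient_prime hr] at this
  rcases Nat.eq_zero_or_pos q with rfl | hq
  · exact absurd (dvd_zero r) h
  · exact (Nat.modEq_iff_dvd' (Nat.pow_pos hq)).1 h1.symm

theorem dvd_three {m : ℕ} (hm : 1 ≤ m) : 3 ∣ Nat.card (Cfsg.PSp m F) := by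
  refine dvd_card hm rfl (by norm_num) (by norm_num) ?_
  by_cases h : 3 ∣ Fintype.card F
  · exact Or.inl h
  · exact Or.inr ⟨0, hm, by simpa using fermat (by norm_num) h⟩

theorem dvd_five {m : ℕ} (hm : 2 ≤ m) : 5 ∣ Nat.card (Cfsg.PSp m F) := by
  refine dvd_card (by omega) rfl (by norm_num) (by norm_num) ?_
  by_cases h : 5 ∣ Fintype.card F
  · exact Or.inl h
  · exact Or.inr ⟨1, hm, by simpa using fermat (by norm_num) h⟩

theorem dvd_seven {m : ℕ} (hm : 3 ≤ m) : 7 ∣ Nat.card (Cfsg.PSp m F) := by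
  refine dvd_card (by omega) rfl (by norm_num) (by norm_num) ?_
  by_cases h : 7 ∣ Fintype.card F
  · exact Or.inl h
  · exact Or.inr ⟨2, hm, by simpa using fermat (by norm_num) h⟩

theorem card_of {m q N : ℕ} (hm : 1 ≤ m) (hq : Fintype.card F = q) (h : spDen q * N = sp m q) :
    Nat.card (Cfsg.PSp m F) = N := by
  have h1 := card_psp (F := F) m hm
  rw [hq, ← h] at h1
  exact Nat.eq_of_mul_eq_mul_left (Nat.gcd_pos_of_pos_left _ (by norm_num)) h1

/-! ### arithmetic -/

theorem pow_six {m : ℕ} (hm : 64 ≤ m) : 5776 * m ^ 6 ≤ 25 * 2 ^ m := by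
  induction m, hm using Nat.le_induction with
  | base => norm_num
  | succ m hm ih =>
    rw [pow_succ 2]
    have h1 : 10 * (m + 1) ^ 3 ≤ 14 * m ^ 3 := by nlinarith [Nat.mul_le_mul hm hm]
    have h2 := Nat.pow_le_pow_left h1 2
    have h3 : (10 * (m + 1) ^ 3) ^ 2 = 100 * (m + 1) ^ 6 := by ring
    have h4 : (14 * m ^ 3) ^ 2 = 196 * m ^ 6 := by ring
    omega

theorem pow_five {m : ℕ} (hm : 35 ≤ m) : 11664 * m ^ 5 ≤ 25 * 2 ^ m := by
  induction m, hm using Nat.le_induction with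
  | base => norm_num
  | succ m hm ih =>
    rw [pow_succ 2]
    have h1 : 10 * (m + 1) ^ 3 ≤ 12 * m ^ 3 := by nlinarith [Nat.mul_le_mul hm hm]
    have h2 : 10 * (m + 1) ^ 2 ≤ 12 * m ^ 2 := by nlinarith
    have h3 := Nat.mul_le_mul h1 h2
    have h4 : 10 * (m + 1) ^ 3 * (10 * (m + 1) ^ 2) = 100 * (m + 1) ^ 5 := by ring
    have h5 : 12 * m ^ 3 * (12 * m ^ 2) = 144 * m ^ 5 := by ring
    omega

theorem sq_le_three {f : ℕ} : f ^ 2 ≤ 3 ^ f := by
  induction f with
  | zero => norm_num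
  | succ f ih =>
    rw [pow_succ 3]
    rcases Nat.lt_or_ge f 2 with h | h
    · interval_cases f <;> norm_num
    · nlinarith

theorem main' (h3 : 3 ≤ Fintype.card F)
    (hs : IsSimpleGroup (Cfsg.PSp 2 F)) (hna : ¬ IsMulCommutative (Cfsg.PSp 2 F))
    (h7 : ¬ 7 ∣ Nat.card (Cfsg.PSp 2 F)) (h1 : Fintype.card F ≠ 3)
    (h2 : Fintype.card F ≠ 4) (h3' : Fintype.card F ≠ 5) :
    Good (Cfsg.PSp 2 F) := by
  obtain ⟨p, f, hp, hf, hF⟩ := exists_pf F
  have := Fact.mk hp
  have : Finite (symplecticGroup (Fin 2) F) := Subtype.finite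
  have : Finite (Cfsg.PSp 2 F) := inferInstance
  have h4 := Cfsg.Agent.S0814.result (F := F) p f hf hF 2 le_rfl (fun _ => by rw [← hF]; exact h3)
  obtain ⟨ho, -⟩ := card_out_le (m := 2) hp hF (card_out_of_aut hna h4) hf
  have hk0 : Nat.card (ConjClasses (Cfsg.PSp 2 F)) ≤
      Nat.card (ConjClasses (symplecticGroup (Fin 2) F)) :=
    card_conjClasses_le_of_surjective (QuotientGroup.mk' _) (QuotientGroup.mk'_surjective _)
  have hidx : ∀ K : Subgroup (Cfsg.PSp 2 F), K ≠ ⊤ → Fintype.card F ≤ K.index :=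
    fun K hK => by simpa using H934.IdxCl.psp le_rfl hs K hK
  have hf2 := lin_le hf hp.two_le
  rw [← hF] at hf2
  -- the small cases
  have small : ∀ {q r o k : ℕ}, Fintype.card F = q → r.Prime → r ≠ 2 →
      (∃ i < 2, r ∣ q ^ (2 * (i + 1)) - 1) → Nat.card (Cfsg.Out (Cfsg.PSp 2 F)) ≤ o →
      Nat.card (ConjClasses (Cfsg.PSp 2 F)) ≤ k → (k * o) ^ 2 ≤ 2 ^ r →
      Good (Cfsg.PSp 2 F) := fun hq hr hr2 hd ho hk h => Good.of_bounds hk ho
    (fun K hK => prime_le_index hna hr (dvd_card (by norm_num) hq hr hr2 (Or.inr hd)) K hK) h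
  have ex : ∀ {q : ℕ}, Fintype.card F = q → (7 ∣ q ∨ ∃ i < 2, 7 ∣ q ^ (2 * (i + 1)) - 1) → False :=
    fun hq hd => h7 (dvd_card (by norm_num) hq (by norm_num) (by norm_num) hd)
  rcases hp.eq_two_or_odd' with hp2 | hpo
  · -- `q` even
    have heven : Even (Fintype.card F) := by
      rw [hF, hp2]
      exact (Nat.even_pow.2 ⟨even_two, by omega⟩)
    have hk : 5 * Nat.card (ConjClasses (Cfsg.PSp 2 F)) ≤ 76 * Fintype.card F ^ 2 :=
      (Nat.mul_le_mul_left _ hk0).trans (S2557.result (F := F) heven 2 (by omega)).2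
    rcases Nat.lt_or_ge f 6 with hf6 | hf6
    · have hq : Fintype.card F = 2 ^ f := by rw [hF, hp2]
      interval_cases f
      · rw [hq] at h3; norm_num at h3
      · exact absurd (hq.trans (by norm_num)) h2
      · exact (ex hq (Or.inr ⟨0, by norm_num, by decide⟩)).elim
      · rw [hq] at hk
        exact small (r := 257) (k := 3891) hq (by norm_num) (by norm_num)
          ⟨1, by norm_num, by decide⟩ ho (by omega) (by decide +kernel)
      · rw [hq] at hk
        exact small (r := 41) (k := 15564) hq (by norm_num) (by norm_num)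
          ⟨1, by norm_num, by decide⟩ ho (by omega) (by norm_num)
    · have hq64 : 64 ≤ Fintype.card F := by
        rw [hF, hp2]
        calc 64 = 2 ^ 6 := by norm_num
          _ ≤ 2 ^ f := Nat.pow_le_pow_right (by norm_num) hf6
      refine Good.of_bounds le_rfl (ho.trans (by omega : 2 * f ≤ Fintype.card F)) hidx ?_
      have h5 := pow_six hq64
      have h6 := Nat.pow_le_pow_left hk 2
      have h8 : 25 * (Nat.card (ConjClasses (Cfsg.PSp 2 F)) * Fintype.card F) ^ 2 ≤
          5776 * Fintype.card F ^ 6 := by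
        calc 25 * (Nat.card (ConjClasses (Cfsg.PSp 2 F)) * Fintype.card F) ^ 2
            = (5 * Nat.card (ConjClasses (Cfsg.PSp 2 F))) ^ 2 * Fintype.card F ^ 2 := by ring
          _ ≤ (76 * Fintype.card F ^ 2) ^ 2 * Fintype.card F ^ 2 := Nat.mul_le_mul_right _ h6
          _ = _ := by ring
      omega
  · -- `q` odd
    have hodd : Odd (Fintype.card F) := by rw [hF]; exact hpo.pow
    have hk : 5 * Nat.card (ConjClasses (Cfsg.PSp 2 F)) ≤ 54 * Fintype.card F ^ 2 :=
      (Nat.mul_le_mul_left _ hk0).trans (S2482.result (F := F) hodd 2 (by omega)).2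
    have hp3 : 3 ≤ p := by
      have h2 := hp.two_le
      obtain ⟨k, hk⟩ := hpo
      omega
    have hpf : 3 ^ f ≤ Fintype.card F := by rw [hF]; exact Nat.pow_le_pow_left hp3 f
    rcases Nat.lt_or_ge (Fintype.card F) 35 with h35 | h35
    · have hf3 : f ≤ 3 := by
        by_contra hcon
        have : 3 ^ 4 ≤ 3 ^ f := Nat.pow_le_pow_right (by norm_num) (by omega)
        omega
      have ho6 : Nat.card (Cfsg.Out (Cfsg.PSp 2 F)) ≤ 6 := by omega
      obtain ⟨q, hq⟩ : ∃ q, Fintype.card F = q := ⟨_, rfl⟩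
      rw [hq] at h35 hk h3 hodd
      have hodd' : q % 2 = 1 := Nat.odd_iff.1 hodd
      interval_cases q <;> try omega
      · exact (ex hq (Or.inl (by norm_num))).elim
      · exact small (r := 41) (k := 874) hq (by norm_num) (by norm_num)
          ⟨1, by norm_num, by decide⟩ ho6 (by omega) (by norm_num)
      · exact small (r := 61) (k := 1306) hq (by norm_num) (by norm_num)
          ⟨1, by norm_num, by decide⟩ ho6 (by omega) (by norm_num)
      · exact (ex hq (Or.inr ⟨0, by norm_num, by decide⟩)).elim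
      · exact (ex hq (Or.inr ⟨0, by norm_num, by decide⟩)).elim
      · exact small (r := 29) (k := 3121) hq (by norm_num) (by norm_num)
          ⟨1, by norm_num, by decide⟩ ho6 (by omega) (by norm_num)
      · exact small (r := 181) (k := 3898) hq (by norm_num) (by norm_num)
          ⟨1, by norm_num, by decide⟩ ho6 (by omega) (by norm_num)
      · exact (ex hq (Or.inl (by norm_num))).elim
      · exact small (r := 53) (k := 5713) hq (by norm_num) (by norm_num)
          ⟨1, by norm_num, by decide⟩ ho6 (by omega) (by norm_num)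
      · exact small (r := 313) (k := 6750) hq (by norm_num) (by norm_num)
          ⟨1, by norm_num, by decide⟩ ho6 (by omega) (by decide +kernel)
      · exact (ex hq (Or.inr ⟨0, by norm_num, by decide⟩)).elim
      · exact (ex hq (Or.inr ⟨0, by norm_num, by decide⟩)).elim
      · exact small (r := 37) (k := 10378) hq (by norm_num) (by norm_num)
          ⟨1, by norm_num, by decide⟩ ho6 (by omega) (by norm_num)
      · exact small (r := 109) (k := 11761) hq (by norm_num) (by norm_num)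
          ⟨1, by norm_num, by decide⟩ ho6 (by omega) (by norm_num)
    · refine Good.of_bounds le_rfl ho hidx ?_
      have h5 := pow_five h35
      have h6 := Nat.pow_le_pow_left hk 2
      have h7 : f ^ 2 ≤ Fintype.card F := sq_le_three.trans hpf
      have h8 : 25 * (Nat.card (ConjClasses (Cfsg.PSp 2 F)) * (2 * f)) ^ 2 ≤
          11664 * Fintype.card F ^ 5 := by
        calc 25 * (Nat.card (ConjClasses (Cfsg.PSp 2 F)) * (2 * f)) ^ 2
            = (5 * Nat.card (ConjClasses (Cfsg.PSp 2 F))) ^ 2 * (4 * f ^ 2) := by ring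
          _ ≤ (54 * Fintype.card F ^ 2) ^ 2 * (4 * Fintype.card F) :=
            Nat.mul_le_mul h6 (Nat.mul_le_mul_left _ h7)
          _ = _ := by ring
      omega

theorem main (h3 : 3 ≤ Fintype.card F)
    (hs : IsSimpleGroup (Cfsg.PSp 2 F)) (hna : ¬ IsMulCommutative (Cfsg.PSp 2 F))
    (h7 : ¬ 7 ∣ Nat.card (Cfsg.PSp 2 F)) (h1 : Nat.card (Cfsg.PSp 2 F) ≠ 25920)
    (h2 : Nat.card (Cfsg.PSp 2 F) ≠ 979200) (h3' : Nat.card (Cfsg.PSp 2 F) ≠ 4680000) :
    Good (Cfsg.PSp 2 F) :=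
  main' h3 hs hna h7 (fun hq => h1 (card_of (by norm_num) hq (by decide)))
    (fun hq => h2 (card_of (by norm_num) hq (by decide)))
    (fun hq => h3' (card_of (by norm_num) hq (by decide)))

/-- `Good T` for `T = PSp_2m(q)` of order prime to 3, 5 or 7, apart from `PSp_4(3)`, `PSp_4(4)`,
`PSp_4(5)` -/
theorem row (T : Type) [Group T] [Finite T] [IsSimpleGroup T] (hT : ¬ IsMulCommutative T)
    (h : Cfsg.IsPSp T) (hr : ∃ r ∈ ({3, 5, 7} : Set ℕ), ¬ r ∣ Nat.card T)
    (h1 : Nat.card T ≠ 25920) (h2 : Nat.card T ≠ 979200) (h4 : Nat.card T ≠ 4680000) :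
    Good T := by
  obtain ⟨F, _, _, m, hm, h3, ⟨e⟩⟩ := h
  have hs : IsSimpleGroup (Cfsg.PSp m F) := (MulEquiv.isSimpleGroup_congr e).1 inferInstance
  have hna : ¬ IsMulCommutative (Cfsg.PSp m F) := by
    intro h
    apply hT
    refine ⟨⟨fun a b => ?_⟩⟩
    apply e.injective
    rw [map_mul, map_mul]
    exact h.is_comm.comm _ _
  rw [Nat.card_congr e.toEquiv] at h1 h2 h4 hr
  refine Good.congr ?_ e.symm
  obtain ⟨r, hr, hd⟩ := hr
  rcases hr with rfl | rfl | rfl
  · exact absurd (dvd_three (by omega)) hd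
  · exact absurd (dvd_five hm) hd
  · rcases hm.eq_or_lt with rfl | hm3
    · exact main (h3 rfl) hs hna hd h1 h2 h4
    · exact absurd (dvd_seven hm3) hd

end Cfsg.Agent.H539.GoodPSp
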