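import Cfsg.Agent.H540.EngG
import Cfsg.Agent.H539.GoodPSU
import Cfsg.Agent.H539.GoodPSp
import Cfsg.Agent.H392.MultTrans
import Cfsg.Agent.S0720
import Cfsg.Agent.S2141

set_option autoImplicit false

/-!
# `Good` for some small unitary and symplectic groups
-/

namespace Cfsg.Agent.H539.GoodFin

open Cfsg.Agent.H540.ClassNum Cfsg.Agent.H934.OutB Cfsg.Agent.H934.OutCl Matrix
open Cfsg.Agent.H540.Good (Good Good.congr Good.of_bounds)
open Cfsg.Agent.H540 Cfsg.Agent.H867.Engine

/-- exact outer automorphism group and class number bound of `PSU_n(q)` -/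
theorem psu_data {F : Type} [Field F] [Fintype F] {n q p f : ℕ} (hp : p.Prime) (hf : 1 ≤ f)
    (hq : q = p ^ f) (hF : Fintype.card F = q ^ 2) (hn : 3 ≤ n) (h32 : ¬ (n = 3 ∧ q = 2))
    (hs : IsSimpleGroup (Cfsg.PSU n F q)) (hna : ¬ IsMulCommutative (Cfsg.PSU n F q)) :
    Nat.card (Cfsg.Out (Cfsg.PSU n F q)) = Nat.gcd n (q + 1) * (2 * f) ∧
    100 * Nat.card (ConjClasses (Cfsg.PSU n F q)) ≤ 826 * q ^ (n - 1) := by
  have := Fact.mk hp
  have : Finite (Cfsg.PSU n F q) := inferInstance
  have h5 := Cfsg.Agent.S0815.result (F := F) p f hf hq hF n hn h32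
  refine ⟨card_out_of_aut hna h5, ?_⟩
  have hk0 : Nat.card (ConjClasses (Cfsg.PSU n F q)) ≤ Nat.card (ConjClasses (Cfsg.SU n F q)) :=
    card_conjClasses_le_of_surjective (QuotientGroup.mk' _) (QuotientGroup.mk'_surjective _)
  exact (Nat.mul_le_mul_left _ hk0).trans (S2481.result (F := F) n q (by omega) hF).2

theorem u34 {F : Type} [Field F] [Fintype F] (hF : Fintype.card F = 4 ^ 2)
    (hs : IsSimpleGroup (Cfsg.PSU 3 F 4)) (hna : ¬ IsMulCommutative (Cfsg.PSU 3 F 4)) :
    Good (Cfsg.PSU 3 F 4) := by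
  obtain ⟨h1, h2⟩ := psu_data (p := 2) (f := 2) (by norm_num) (by norm_num) (by norm_num) hF
    (by norm_num) (by norm_num) hs hna
  exact EngG.of_check hna (o := 4) (N := 62400) (M := 132) (b := 16) h1.le (by omega)
    [(2, 6), (3, 1), (5, 2), (13, 1)] []
    (by decide) (GoodPSU.card_of hF (by norm_num) (by decide)) (by decide)
    (fun e he => absurd he (by simp)) (by norm_num)
    (fun K hK => H934.IdxPSU.pow_le_index hF (by norm_num) (MulEquiv.refl _) K hK)
    [.J 13 1, .D, .D] (by decide +kernel)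

theorem u52 {F : Type} [Field F] [Fintype F] (hF : Fintype.card F = 2 ^ 2)
    (hs : IsSimpleGroup (Cfsg.PSU 5 F 2)) (hna : ¬ IsMulCommutative (Cfsg.PSU 5 F 2)) :
    Good (Cfsg.PSU 5 F 2) := by
  obtain ⟨h1, h2⟩ := psu_data (p := 2) (f := 1) (by norm_num) (by norm_num) (by norm_num) hF
    (by norm_num) (by norm_num) hs hna
  exact EngG.of_check hna (o := 2) (N := 13685760) (M := 132) (b := 16) h1.le (by omega)
    [(2, 10), (3, 5), (5, 1), (11, 1)] []
    (by decide) (GoodPSU.card_of hF (by norm_num) (by decide)) (by decide)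
    (fun e he => absurd he (by simp)) (by norm_num)
    (fun K hK => H934.IdxPSU.pow_le_index hF (by norm_num) (MulEquiv.refl _) K hK)
    [.J 11 1] (by decide +kernel)

/-- `PSp_4(4)` and `PSp_4(5)` -/
theorem psp {F : Type} [Field F] [Fintype F] {q : ℕ} (hF : Fintype.card F = q) (hq : q = 4 ∨ q = 5)
    (hs : IsSimpleGroup (Cfsg.PSp 2 F)) (hna : ¬ IsMulCommutative (Cfsg.PSp 2 F)) :
    Good (Cfsg.PSp 2 F) := by
  obtain ⟨p, f, hp, hf, hFp⟩ := exists_pf F
  have := Fact.mk hp
  have : Finite (symplecticGroup (Fin 2) F) := Subtype.finite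
  have : Finite (Cfsg.PSp 2 F) := inferInstance
  have h4 := Cfsg.Agent.S0814.result (F := F) p f hf hFp 2 le_rfl (fun _ => by rw [← hFp]; omega)
  obtain ⟨ho, -⟩ := RowPSp.card_out_le (m := 2) hp hFp (card_out_of_aut hna h4) hf
  have hk0 : Nat.card (ConjClasses (Cfsg.PSp 2 F)) ≤
      Nat.card (ConjClasses (symplecticGroup (Fin 2) F)) :=
    card_conjClasses_le_of_surjective (QuotientGroup.mk' _) (QuotientGroup.mk'_surjective _)
  have hk : 5 * Nat.card (ConjClasses (Cfsg.PSp 2 F)) ≤ 76 * q ^ 2 := by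
    rcases hq with h | h
    · have h1 := (Nat.mul_le_mul_left 5 hk0).trans (S2557.result (F := F) (by rw [hF, h]; decide) 2
        (by omega)).2
      rwa [hF] at h1
    · have h1 := (Nat.mul_le_mul_left 5 hk0).trans (S2482.result (F := F) (by rw [hF, h]; decide) 2
        (by omega)).2
      rw [hF] at h1
      omega
  have hf3 : f < 3 := by
    by_contra hcon
    have : 2 ^ 3 ≤ p ^ f := (Nat.pow_le_pow_left hp.two_le 3).trans
      (Nat.pow_le_pow_right hp.pos (by omega))
    omega
  have hidx := (S2141.result hF 2 le_rfl (by omega) (by omega)).1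
  have hk380 : Nat.card (ConjClasses (Cfsg.PSp 2 F)) ≤ 380 := by
    rcases hq with rfl | rfl <;> omega
  refine Good.of_bounds (c := 380) (o := 4) (L := 85) hk380 (by omega) (fun H hH => ?_) (by norm_num)
  refine le_trans ?_ (hidx H hH)
  rcases hq with rfl | rfl <;> norm_num

/-- from degree `l` to degree `l + 1` -/
theorem step {T : Type*} [Group T] [Finite T] [hs : IsSimpleGroup T] (hna : ¬ IsMulCommutative T)
    {l : ℕ} (h : ∀ K : Subgroup T, K ≠ ⊤ → l ≤ K.index) (h' : ¬ Sit T l) :
    ∀ K : Subgroup T, K ≠ ⊤ → l + 1 ≤ K.index := by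
  intro K hK
  have h1 := h K hK
  by_contra hcon
  exact h' ⟨hs, hna, h, K, hK, by omega⟩

theorem u33 {F : Type} [Field F] [Fintype F] (hF : Fintype.card F = 3 ^ 2)
    (hs : IsSimpleGroup (Cfsg.PSU 3 F 3)) (hna : ¬ IsMulCommutative (Cfsg.PSU 3 F 3)) :
    Good (Cfsg.PSU 3 F 3) := by
  obtain ⟨h1, h2⟩ := psu_data (p := 3) (f := 1) (by norm_num) (by norm_num) (by norm_num) hF
    (by norm_num) (by norm_num) hs hna
  have hc : Nat.card (Cfsg.PSU 3 F 3) = 6048 := GoodPSU.card_of hF (by norm_num) (by decide)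
  have h9 : ∀ K : Subgroup (Cfsg.PSU 3 F 3), K ≠ ⊤ → 9 ≤ K.index :=
    fun K hK => H934.IdxPSU.pow_le_index hF (by norm_num) (MulEquiv.refl _) K hK
  have hL : ∀ x ∈ [(2, 5), (3, 3), (7, 1)], (x : ℕ × ℕ).1.Prime := by decide
  have hN : Nat.card (Cfsg.PSU 3 F 3) = prodL [(2, 5), (3, 3), (7, 1)] := by rw [hc]; decide
  have h10 := step hna h9 fun h => by
    have : Fact (Nat.Prime 7) := ⟨by norm_num⟩
    obtain ⟨x, hx⟩ := exists_prime_orderOf_dvd_card' (G := Cfsg.PSU 3 F 3) 7 (by rw [hc]; norm_num)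
    have h3 := EngG.exC_spec h (by norm_num) hL hN (by rw [hc]; decide) (r := 7) (by norm_num)
      (by rw [hc]; norm_num) x hx
    rw [hc] at h3
    have h4 : EngG.exC [(2, 5), (3, 3), (7, 1)] 6048 9 7 = 0 := by decide +kernel
    rw [h4] at h3
    have h5 : 0 < Nat.card (Subgroup.centralizer ({x} : Set (Cfsg.PSU 3 F 3))) := Nat.card_pos
    omega
  have h11 := step hna h10 fun h => by have := h.dvd; rw [hc] at this; revert this; norm_num
  have h12 := step hna h11 fun h => by have := h.dvd; rw [hc] at this; revert this; norm_num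
  have h13 := step hna h12 fun h => by
    have := EngG.Sit.jj h (by norm_num) (r := 7) (k := 1) (by norm_num) (by norm_num)
      (by rw [hc]; norm_num) (by decide)
    rw [hc] at this
    revert this
    decide
  have h14 := step hna h13 fun h => by have := h.dvd; rw [hc] at this; revert this; norm_num
  have h15 := step hna h14 fun h => by
    obtain ⟨f, hf, hprim⟩ := h.exists_hom
    have hcr : Nat.card f.range = 6048 := by
      rw [← hc]; exact (Nat.card_congr (MonoidHom.ofInjective hf).toEquiv).symm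
    rcases S0720.result (p := 7) (by norm_num) (by rw [Fintype.card_fin]) f.range hprim 0 with h2 | ⟨-, a, ha, h3, -⟩
    · have h3 := H392.MultTrans.card_eq_descFactorial h2 (Fin.castLEEmb (by norm_num : 2 ≤ 14))
      rw [hcr, Nat.card_eq_fintype_card, Fintype.card_fin] at h3
      have h4 : Nat.descFactorial 14 2 ∣ 6048 := ⟨_, h3⟩
      revert h4
      decide
    · have h4 : a < 2 := by nlinarith
      interval_cases a
      omega
  exact Good.of_bounds (c := 74) (o := 2) (L := 15) (by norm_num at h2; omega) (by rw [h1]; decide)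
    h15 (by norm_num)

end Cfsg.Agent.H539.GoodFin
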