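import Cfsg.Agent.H540.EngG
import Cfsg.Agent.H539.GoodPSL
import Cfsg.Agent.H180.KM11
import Cfsg.Agent.H417.JThreeCols
import Cfsg.Agent.J3Type.CharTwo
import Cfsg.Agent.H898.J3Cent
import Cfsg.Agent.NotCT.Orders
import Cfsg.Agent.S2060
import Cfsg.Agent.S2067

set_option autoImplicit false

/-!
# `Good` for `M₁₁` and `J₃`
-/

namespace Cfsg.Agent.H539.GoodSporA

open Cfsg.Agent.H540.Good (Good Good.congr Good.of_bounds)
open Cfsg.Agent.H540 Cfsg.Agent.H867.Engine Subgroup

theorem m11 (T : Type) [Group T] [Finite T] [IsSimpleGroup T] (hT : ¬ IsMulCommutative T)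
    (h : Cfsg.Spor.IsoM11 T) : Good T := by
  have hN := NotCT.Orders.m11 h
  have hk := H180.KM11.isoM11 h
  obtain ⟨e⟩ := h
  refine Good.of_bounds (c := 10) (o := 1) (L := 11) hk.le ?_ (fun H hH => ?_) (by norm_num)
  · rw [H55.OutGen.card_out_congr e]
    exact le_of_eq Cfsg.Agent.S2060.result
  · exact GoodPSL.prime_le_index hT (by norm_num) (by rw [hN]; norm_num) H hH

theorem j3 (T : Type) [Group T] [Finite T] [IsSimpleGroup T] (hT : ¬ IsMulCommutative T)
    (h : Cfsg.Spor.IsoJ3 T) : Good T := by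
  have hN := (H898.J3Cent.base h).2.1
  obtain ⟨t, D, hD, -⟩ := H417.JThreeCols.exists_coded_iso h
  have h8 := (J3Type.CharTwo.cards hD).2.2.1
  have : Fact (Nat.Prime 17) := ⟨by norm_num⟩
  have : Fact (Nat.Prime 19) := ⟨by norm_num⟩
  obtain ⟨y17, hy17⟩ := exists_prime_orderOf_dvd_card' (G := T) 17 (by rw [hN]; norm_num)
  obtain ⟨y19, hy19⟩ := exists_prime_orderOf_dvd_card' (G := T) 19 (by rw [hN]; norm_num)
  have c17 := (H898.J3Cent.seventeen h hy17).1
  have c19 := H898.J3Cent.card_nineteen h hy19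
  have ho : Nat.card (Cfsg.Out T) ≤ 2 := by
    obtain ⟨F, _, _, ω, hF, hω, ⟨e⟩⟩ := h
    rw [H55.OutGen.card_out_congr e]
    exact le_of_eq (Cfsg.Agent.S2067.result hF ω hω)
  have hk := EngG.card_conjClasses_le' (G := T) {2, 17, 19}
    (by intro r hr; simp only [Finset.mem_insert, Finset.mem_singleton] at hr
        rcases hr with rfl | rfl | rfl <;> norm_num)
    (fun r => if r = 2 then D 97 else if r = 17 then y17 else y19)
    (by intro r hr; simp only [Finset.mem_insert, Finset.mem_singleton] at hr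
        rcases hr with rfl | rfl | rfl
        · exact ⟨3, by simpa using hD.order8⟩
        · exact ⟨1, by simpa using hy17⟩
        · exact ⟨1, by simpa using hy19⟩)
  have h3 : ({2, 17, 19} : Finset ℕ) = insert 2 (insert 17 {19}) := rfl
  rw [h3, Finset.sum_insert (by decide), Finset.sum_insert (by decide), Finset.sum_singleton,
    Finset.prod_insert (by decide), Finset.prod_insert (by decide), Finset.prod_singleton, hN] at hk
  simp only [if_true, show ¬ (17 : ℕ) = 2 by decide, show ¬ (19 : ℕ) = 2 by decide,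
    show ¬ (19 : ℕ) = 17 by decide, if_false, h8, c17, c19] at hk
  refine Good.of_bounds (c := 164) (o := 2) (L := 19) (hk.trans (by norm_num)) ho
    (fun H hH => ?_) (by norm_num)
  exact GoodPSL.prime_le_index hT (by norm_num) (by rw [hN]; norm_num) H hH

end Cfsg.Agent.H539.GoodSporA
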