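import Cfsg.Agent.H540.EngG
import Cfsg.Agent.H539.GoodFin
import Cfsg.Agent.H417.BlockCount
import Cfsg.Agent.CoThreeStd.M12.Out
import Cfsg.Agent.MTwelve.SylowEleven
import Cfsg.Agent.NotCT.Orders
import Cfsg.Agent.S2061

set_option autoImplicit false

/-!
# `Good` for `M₁₂`
-/

namespace Cfsg.Agent.H539.GoodSporB

open Cfsg.Agent.H540.Good (Good Good.congr Good.of_bounds)
open Cfsg.Agent.H540 Cfsg.Agent.H867.Engine Subgroup
open Equiv MulAction

/-! ### the class number -/

open Cfsg.Agent.Characters.Core Cfsg.Agent.OddOrderCharacters.VChar Cfsg.Agent.H867.KBound in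
theorem k_le {G : Type*} [Group G] [Finite G] [IsSimpleGroup G] (hc : Nat.card G = 95040)
    {x5 x8 : G} (h5 : ∃ k : ℕ, orderOf x5 = 5 ^ k) (h8 : ∃ k : ℕ, orderOf x8 = 2 ^ k)
    (c5 : Nat.card (centralizer ({x5} : Set G)) ≤ 10)
    (c8 : Nat.card (centralizer ({x8} : Set G)) ≤ 8) : Nat.card (ConjClasses G) ≤ 32 := by
  classical
  have := Fintype.ofFinite G
  have := finite_irr (G := G)
  have := Fintype.ofFinite (IrrCharacter G)
  have : Fact (Nat.Prime 11) := ⟨by norm_num⟩
  have : Fact (Nat.Prime 5) := ⟨by norm_num⟩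
  have : Fact (Nat.Prime 2) := ⟨by norm_num⟩
  -- the characters of degree prime to 11
  have hC : ∀ y : G, orderOf y = 11 → Nat.card (centralizer ({y} : Set G)) = 11 := by
    intro y hy
    obtain ⟨P, hP⟩ := IsPGroup.exists_le_sylow (p := 11) (P := zpowers y)
      (IsPGroup.of_card (n := 1) (by rw [Nat.card_zpowers, hy, pow_one]))
    have hPc : Nat.card (P : Subgroup G) = 11 :=
      Cfsg.Agent.SmallSimple.PrimeLocal.card_of_not_sq_dvd (by rw [hc]; norm_num)
        (by rw [hc]; norm_num) P
    have hPe : zpowers y = (P : Subgroup G) := by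
      apply Subgroup.eq_of_le_of_card_ge hP
      rw [hPc, Nat.card_zpowers, hy]
    have h1 := MTwelve.SylowEleven.card_centralizer_sylow11 hc P
    have h2 : centralizer ((P : Subgroup G) : Set G) = centralizer ({y} : Set G) := by
      rw [← hPe, zpowers_eq_closure, centralizer_closure]
    have h3 : centralizer (P : Set G) = centralizer ({y} : Set G) := h2
    rw [h3] at h1
    exact h1
  obtain ⟨P, hP, ⟨D⟩⟩ := H417.BlockCount.exists_SC (G := G) 11 (by norm_num) (by rw [hc]; norm_num)
    (by rw [hc]; norm_num) hC (e := 5) (t := 2) (by rw [hc]) (by norm_num)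
  have h7 := H417.BlockCount.card_ne_zero D (by norm_num) (by norm_num) (by norm_num)
  rw [← card_irr, Nat.card_eq_fintype_card]
  choose d hd0 hd using fun χ : IrrCharacter G => isIrr_apply_one χ.2
  have hdg : ∀ χ : IrrCharacter G, M23Order.Base.dg χ = d χ := by
    intro χ
    exact M23Order.Base.dg_of_eq (hd χ)
  set A : G → Finset (IrrCharacter G) := fun x =>
    Finset.univ.filter (fun χ => (χ : G → ℂ) x ≠ 0) with hA
  set E : Finset (IrrCharacter G) := Finset.univ.filter (fun χ => d χ % 11 ≠ 0) with hE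
  set B : Finset (IrrCharacter G) := Finset.univ.filter (fun χ => 110 ∣ d χ) with hB
  have hcover : (Finset.univ : Finset (IrrCharacter G)) ⊆ E ∪ (A x5 ∪ (A x8 ∪ B)) := by
    intro χ _
    rw [Finset.mem_union, Finset.mem_union, Finset.mem_union]
    by_cases h11 : 11 ∣ d χ
    · by_cases h51 : 5 ∣ d χ
      · by_cases h21 : 2 ∣ d χ
        · right; right; right
          refine Finset.mem_filter.2 ⟨Finset.mem_univ _, ?_⟩
          omega
        · right; right; left
          exact Finset.mem_filter.2 ⟨Finset.mem_univ _,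
            apply_ne_zero (isIrr_isCharacter χ.2) (hd χ) h21 x8 h8⟩
      · right; left
        exact Finset.mem_filter.2 ⟨Finset.mem_univ _,
          apply_ne_zero (isIrr_isCharacter χ.2) (hd χ) h51 x5 h5⟩
    · left
      refine Finset.mem_filter.2 ⟨Finset.mem_univ _, ?_⟩
      omega
  have h1 : Fintype.card (IrrCharacter G) ≤ E.card + ((A x5).card + ((A x8).card + B.card)) := by
    rw [← Finset.card_univ]
    refine (Finset.card_le_card hcover).trans ((Finset.card_union_le _ _).trans ?_)
    refine Nat.add_le_add_left ((Finset.card_union_le _ _).trans ?_) _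
    exact Nat.add_le_add_left (Finset.card_union_le _ _) _
  have h2 : ∀ x : G, (A x).card ≤ Nat.card (Subgroup.centralizer ({x} : Set G)) := by
    intro x
    have h3 := card_apply_ne_zero_le x
    rwa [Nat.card_eq_fintype_card, Fintype.card_subtype] at h3
  have hE7 : E.card = 7 := by
    have h3 : E = Finset.univ.filter (fun χ : IrrCharacter G => M23Order.Base.dg χ % 11 ≠ 0) := by
      ext χ
      rw [hE, Finset.mem_filter, Finset.mem_filter, hdg]
    rw [h3, h7]
  have h3 : B.card * 110 ^ 2 ≤ Nat.card G := by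
    have h4 : ((∑ χ : IrrCharacter G, d χ ^ 2 : ℕ) : ℝ) = (Nat.card G : ℝ) := by
      have h5 := sum_norm_sq (G := G) 1
      have h6 : Subgroup.centralizer ({1} : Set G) = ⊤ := by
        ext y
        rw [Subgroup.mem_centralizer_singleton_iff]
        simp
      rw [h6] at h5
      have h7 : Nat.card (⊤ : Subgroup G) = Nat.card G := Subgroup.card_top
      rw [h7] at h5
      rw [← h5]
      push_cast
      refine Finset.sum_congr rfl fun χ _ => ?_
      rw [hd χ, Complex.norm_natCast]
    have h5 : (∑ χ : IrrCharacter G, d χ ^ 2) = Nat.card G := by exact_mod_cast h4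
    rw [← h5]
    calc B.card * 110 ^ 2 = ∑ χ ∈ B, 110 ^ 2 := by
          rw [Finset.sum_const, smul_eq_mul]
      _ ≤ ∑ χ ∈ B, d χ ^ 2 := by
          refine Finset.sum_le_sum fun χ hχ => ?_
          exact Nat.pow_le_pow_left (Nat.le_of_dvd (hd0 χ) (Finset.mem_filter.1 hχ).2) 2
      _ ≤ _ := Finset.sum_le_sum_of_subset (Finset.subset_univ _)
  have h9 := h2 x5
  have h10 := h2 x8
  rw [hc] at h3
  omega

/-! ### elements of order 5 and 8 -/

open CoThreeStd.M12 CoThreeStd.M12.Out

/-- the centralizer acts semiregularly on the long cycles -/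
theorem card_cent_le {u : G12} (p : Fin 12) (s : Finset (Fin 12)) (hs : 5 ≤ s.card)
    (hu : ∀ i ∈ s, ∃ k : Fin 12, ((u ^ (k : ℕ) : G12) : P12) p = i) (j : ℕ)
    (M : Finset (Fin 12)) (hM : ∀ i, i ∉ M → ((u ^ j : G12) : P12) i = i)
    (hp : ((u ^ j : G12) : P12) p ≠ p) :
    Nat.card (centralizer ({u} : Set G12)) ≤ M.card := by
  classical
  let F : centralizer ({u} : Set G12) → M := fun x => ⟨((x : G12) : P12) p, by
    by_contra hx
    apply hp
    have h1 := hM _ hx
    have h2 : (x : G12) * u ^ j = u ^ j * (x : G12) :=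
      (Commute.pow_right (show Commute (x : G12) u from (mem_centralizer_singleton_iff.1 x.2)) j)
    have h3 := congrArg (fun z : G12 => (z : P12) p) h2
    change ((x : G12) : P12) (((u ^ j : G12) : P12) p) =
      ((u ^ j : G12) : P12) (((x : G12) : P12) p) at h3
    rw [h1] at h3
    exact ((x : G12) : P12).injective h3⟩
  have hF : Function.Injective F := by
    intro x x' hxx
    have h0 : ((x : G12) : P12) p = ((x' : G12) : P12) p := congrArg Subtype.val hxx
    have h1 : (x' : G12)⁻¹ * (x : G12) = 1 := by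
      apply fix_orbit (u := u) (p := p) _ _ s hs hu
      · exact ((show Commute (x' : G12) u from mem_centralizer_singleton_iff.1 x'.2).inv_left.mul_left
          (show Commute (x : G12) u from mem_centralizer_singleton_iff.1 x.2))
      · rw [Subgroup.coe_mul, Perm.mul_apply, h0, Subgroup.coe_inv]
        exact Perm.inv_eq_iff_eq.mpr rfl
    exact Subtype.ext (inv_mul_eq_one.mp h1).symm
  have h1 := Nat.card_le_card_of_injective F hF
  rwa [Nat.card_eq_fintype_card (α := M), Fintype.card_coe] at h1

theorem apply_el (w : List (Fin 6)) (k : ℕ) (i : Fin 12) :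
    (((el w ^ k : G12) : P12) i : ℕ) = dg (wt (pw w k)) i := by
  rw [← el_pw, el_apply]

theorem card_cent_n : Nat.card (centralizer ({n} : Set G12)) ≤ 10 := by
  have h := card_cent_le (u := n) 0 {0, 10, 4, 5, 2} (by decide) orb_n0 1
    (Finset.univ.filter fun i => i ≠ 9 ∧ i ≠ 11) (by
      intro i hi
      rw [Finset.mem_filter] at hi
      push Not at hi
      rw [pow_one]
      by_cases h9 : i = 9
      · rw [h9, fix_n9]
      · rw [hi (Finset.mem_univ _) h9, fix_n11]) (by rw [pow_one]; exact apply_n0)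
  exact h.trans (by decide)

/-- an element of order 8 -/
def u8 : G12 := el [2, 3, 5]

theorem u8_pow : u8 ^ 8 = 1 := by
  rw [u8, ← el_pw, ← el_nil]
  exact el_eq (by decide +kernel)

theorem orb_u8 : ∀ i ∈ ({1, 2, 7, 6, 9, 8, 4, 5} : Finset (Fin 12)),
    ∃ k : Fin 12, ((u8 ^ (k : ℕ) : G12) : P12) 1 = i := by
  have h : ∀ i ∈ ({1, 2, 7, 6, 9, 8, 4, 5} : Finset (Fin 12)),
      ∃ k : Fin 12, dg (wt (pw [2, 3, 5] k)) 1 = i := by decide +kernel
  intro i hi
  obtain ⟨k, hk⟩ := h i hi
  exact ⟨k, Fin.ext (by rw [u8, apply_el]; exact hk)⟩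

theorem card_cent_u8 : Nat.card (centralizer ({u8} : Set G12)) ≤ 8 := by
  have h := card_cent_le (u := u8) 1 {1, 2, 7, 6, 9, 8, 4, 5} (by decide) orb_u8 4
    {1, 2, 7, 6, 9, 8, 4, 5} (by
      have h : ∀ i ∉ ({1, 2, 7, 6, 9, 8, 4, 5} : Finset (Fin 12)),
        dg (wt (pw [2, 3, 5] 4)) i = i := by decide +kernel
      intro i hi
      exact Fin.ext (by rw [u8, apply_el]; exact h i hi))
    (by
      intro h1
      have h2 := congrArg (fun i : Fin 12 => (i : ℕ)) h1
      simp only [u8] at h2
      rw [apply_el] at h2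
      revert h2
      decide +kernel)
  exact h.trans (by decide)

theorem y_ne : y ≠ 1 := by
  rw [y, ← el_single, ← el_nil, Ne, el_eq_iff]
  decide +kernel

/-! ### no subgroup of index 11 -/

theorem not_sit {T : Type*} [Group T] [Finite T] (hc : Nat.card T = 95040) {x z : T}
    (hx : orderOf x = 5) (hz : orderOf z = 2) (hxz : x * z = z * x) : ¬ Sit T 11 := by
  classical
  intro h
  obtain ⟨f, hf, hprim⟩ := h.exists_hom
  have : Fact (Nat.Prime 5) := ⟨by norm_num⟩
  -- `f x` has ten moved points
  have hord : orderOf (f x) = 5 := by rw [orderOf_injective f hf, hx]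
  obtain ⟨m, hm⟩ := Perm.cycleType_prime_order (σ := f x) (by rw [hord]; norm_num)
  rw [hord] at hm
  have hsum : (f x).cycleType.sum = (m + 1) * 5 := by
    rw [hm, Multiset.sum_replicate, smul_eq_mul]
  have hle : (m + 1) * 5 ≤ 11 := by
    rw [← hsum, Perm.sum_cycleType]
    exact (Finset.card_le_univ _).trans (by rw [Fintype.card_fin])
  have hm1 : m = 1 := by
    by_contra hne
    have hm0 : m = 0 := by omega
    subst hm0
    have hcyc : (f x).IsCycle := by
      rw [← Perm.card_cycleType_eq_one, hm, Multiset.card_replicate]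
    have hsup : (f x).support.card = 5 := by
      rw [← Perm.sum_cycleType, hsum]
    have h1 := S0713.result f.range hprim (p := 5) (by norm_num) (by rw [Fintype.card_fin]; norm_num)
      (by rw [Fintype.card_fin]; norm_num) hcyc hsup ⟨x, rfl⟩
    have h2 := le_antisymm (h.range_le_alt f) h1
    have h3 : Nat.card f.range = Nat.card T := (Nat.card_congr (MonoidHom.ofInjective hf).toEquiv).symm
    have : Nontrivial (Fin 11) := Fin.nontrivial_iff_two_le.2 (by norm_num)
    have h4 : 2 * Nat.card (alternatingGroup (Fin 11)) = (11).factorial := by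
      rw [two_mul_nat_card_alternatingGroup, Nat.card_perm, Nat.card_eq_fintype_card, Fintype.card_fin]
    rw [← h2, h3, hc] at h4
    revert h4
    decide
  have hsup : (f x).support.card = 10 := by
    rw [← Perm.sum_cycleType, hsum, hm1]
  -- `f z` has `2 k` moved points, `k` even
  have hordz : orderOf (f z) = 2 := by rw [orderOf_injective f hf, hz]
  obtain ⟨k, hk⟩ := Perm.cycleType_prime_order (σ := f z) (by rw [hordz]; norm_num)
  rw [hordz] at hk
  have hsz : (f z).support.card = (k + 1) * 2 := by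
    rw [← Perm.sum_cycleType, hk, Multiset.sum_replicate, smul_eq_mul]
  have hsg : Perm.sign (f z) = 1 := h.range_le_alt f ⟨z, rfl⟩
  rw [Perm.sign_of_cycleType, hk, Multiset.sum_replicate, Multiset.card_replicate, smul_eq_mul] at hsg
  have hev : Even (k + 1) := by
    have h1 : ((-1 : ℤˣ)) ^ ((k + 1) * 2 + (k + 1)) = (-1) ^ (k + 1) := by
      rw [pow_add, mul_comm, pow_mul]
      simp
    rw [h1] at hsg
    by_contra hodd
    rw [Nat.not_even_iff_odd] at hodd
    rw [hodd.neg_one_pow] at hsg
    revert hsg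
    decide
  -- `f x` acts on the points moved by `f z` without fixed points
  have hcomm : f x * f z = f z * f x := by rw [← map_mul, hxz, map_mul]
  have hfix : ((f x).supportᶜ).card = 1 := by
    rw [Finset.card_compl, hsup, Fintype.card_fin]
  obtain ⟨p, hp⟩ := Finset.card_eq_one.1 hfix
  have hpx : ∀ i, (f x) i = i → i = p := by
    intro i hi
    have : i ∈ (f x).supportᶜ := by
      rw [Finset.mem_compl, Perm.mem_support, not_not]; exact hi
    rw [hp, Finset.mem_singleton] at this
    exact this
  have hxp : (f x) p = p := by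
    have : p ∈ (f x).supportᶜ := by rw [hp]; exact Finset.mem_singleton_self _
    rwa [Finset.mem_compl, Perm.mem_support, not_not] at this
  have hzp : (f z) p = p := by
    apply hpx
    have h1 := congrArg (fun g : Perm (Fin 11) => g p) hcomm
    change (f x) ((f z) p) = (f z) ((f x) p) at h1
    rw [h1, hxp]
  -- restrict `f x` to the support of `f z`
  have hmem : ∀ i, i ∈ (f z).support ↔ (f x) i ∈ (f z).support := by
    intro i
    rw [Perm.mem_support, Perm.mem_support]
    have h1 := congrArg (fun g : Perm (Fin 11) => g i) hcomm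
    change (f x) ((f z) i) = (f z) ((f x) i) at h1
    rw [← h1]
    exact (f x).injective.ne_iff.symm
  let σ : Perm {i // i ∈ (f z).support} := (f x).subtypePerm (fun i => (hmem i).symm)
  have hσ : σ ^ 5 ^ 1 = 1 := by
    rw [pow_one]
    have h1 : (f x) ^ 5 = 1 := by rw [← hord, pow_orderOf_eq_one]
    rw [Perm.subtypePerm_pow]
    ext i
    simp [h1]
  have hdv : 5 ∣ Fintype.card {i // i ∈ (f z).support} := by
    by_contra hnd
    obtain ⟨a, ha⟩ := Perm.exists_fixed_point_of_prime hnd hσ
    have h1 : (f x) (a : Fin 11) = a := congrArg Subtype.val ha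
    have h2 := hpx _ h1
    have h3 := a.2
    rw [h2, Perm.mem_support] at h3
    exact h3 hzp
  rw [Fintype.card_coe, hsz] at hdv
  have h11 : (k + 1) * 2 ≤ 11 := by
    rw [← hsz]
    exact (Finset.card_le_univ _).trans (by rw [Fintype.card_fin])
  obtain ⟨j, hj⟩ := hev
  omega

/-! ### the main theorem -/

theorem m12 (T : Type) [Group T] [Finite T] [IsSimpleGroup T] (hT : ¬ IsMulCommutative T)
    (h : Cfsg.Spor.IsoM12 T) : Good T := by
  have hN := NotCT.Orders.m12 h
  have ho : Nat.card (Cfsg.Out T) ≤ 2 := by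
    obtain ⟨e⟩ := h
    rw [H55.OutGen.card_out_congr e]
    exact le_of_eq Cfsg.Agent.S2061.result
  obtain ⟨e0⟩ := h
  let e : T ≃* G12 := e0.trans equiv
  have hcen : ∀ u : G12, Nat.card (centralizer ({e.symm u} : Set T)) = Nat.card (centralizer ({u} : Set G12)) := by
    intro u
    refine Nat.card_congr ⟨fun a => ⟨e a, ?_⟩, fun a => ⟨e.symm a, ?_⟩, fun a => ?_, fun a => ?_⟩
    · rw [mem_centralizer_singleton_iff]
      have h1 := mem_centralizer_singleton_iff.1 a.2
      have h2 := congrArg e h1
      rwa [map_mul, map_mul, e.apply_symm_apply] at h2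
    · rw [mem_centralizer_singleton_iff]
      have h1 := mem_centralizer_singleton_iff.1 a.2
      have h2 := congrArg e.symm h1
      rwa [map_mul, map_mul] at h2
    · exact Subtype.ext (e.symm_apply_apply _)
    · exact Subtype.ext (e.apply_symm_apply _)
  have : Fact (Nat.Prime 5) := ⟨by norm_num⟩
  have : Fact (Nat.Prime 2) := ⟨Nat.prime_two⟩
  have hn5 : orderOf (e.symm n) = 5 := by
    rw [MulEquiv.orderOf_eq]
    exact orderOf_eq_prime n_pow n_ne
  have hy2 : orderOf (e.symm y) = 2 := by
    rw [MulEquiv.orderOf_eq]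
    exact orderOf_eq_prime (by rw [pow_two]; exact y_sq) y_ne
  have hu8 : ∃ k : ℕ, orderOf (e.symm u8) = 2 ^ k := by
    rw [MulEquiv.orderOf_eq]
    have h1 : orderOf u8 ∣ 2 ^ 3 := orderOf_dvd_of_pow_eq_one u8_pow
    obtain ⟨k, -, hk⟩ := (Nat.dvd_prime_pow Nat.prime_two).1 h1
    exact ⟨k, hk⟩
  have hk := k_le hN ⟨1, by rw [hn5]; norm_num⟩ hu8 (by rw [hcen]; exact card_cent_n)
    (by rw [hcen]; exact card_cent_u8)
  have h11 : ∀ K : Subgroup T, K ≠ ⊤ → 11 ≤ K.index :=
    GoodPSL.prime_le_index hT (by norm_num) (by rw [hN]; norm_num)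
  have h12 := GoodFin.step hT h11 (not_sit hN hn5 hy2 (by
    rw [← map_mul, ← map_mul, y_n]))
  exact Good.of_bounds (c := 32) (o := 2) (L := 12) hk ho h12 (by norm_num)

end Cfsg.Agent.H539.GoodSporB
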