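import Cfsg.Agent.H540.Good
import Cfsg.Agent.H539.GoodPSL
import Cfsg.Agent.H235.TitsRow
import Cfsg.Agent.H235.TitsIdx
import Cfsg.Agent.H867.TitsOut
import Cfsg.Agent.NotCT.Orders

set_option autoImplicit false

/-!
# `Good` for the Tits group
-/

namespace Cfsg.Agent.H539.GoodTits

open Cfsg.Agent.H540.Good (Good Good.of_bounds k_le_of_index)

theorem row (T : Type) [Group T] [Finite T] [IsSimpleGroup T] (hT : ¬ IsMulCommutative T)
    (h : Cfsg.Lie.IsoTits T) : Good T := by
  have hN := NotCT.Orders.tits h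
  have F := H235.TitsRow.facts h
  have hidx : ∀ H : Subgroup T, H ≠ ⊤ → 42 ≤ H.index := fun H hH =>
    H235.TitsIdx.Facts.le_index F hH
  have hk := k_le_of_index (H539.center_eq_bot hT) hidx
  rw [hN] at hk
  exact Good.of_bounds (c := 427886) (o := 2) (L := 42) (by omega) (H867.TitsOut.card_out_le h) hidx
    (by norm_num)

end Cfsg.Agent.H539.GoodTits
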