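import Cfsg.Agent.H539.IdxOK
import Cfsg.Agent.H539.AltCase
import Cfsg.Agent.SmallSimple.Embed
import Cfsg.Agent.S2119
import Cfsg.Agent.S2602
import Cfsg.Agent.S0254
import Cfsg.Agent.S2480
import Mathlib.GroupTheory.SpecificGroups.Alternating.Simple

set_option autoImplicit false

/-!
# `IdxOK` for the alternating groups
-/

namespace Cfsg.Agent.H539.IdxAlt

open Cfsg.Agent.H540.ClassNum

theorem simple {n : ℕ} (hn : 5 ≤ n) : IsSimpleGroup (alternatingGroup (Fin n)) :=
  alternatingGroup.isSimpleGroup (by simpa using hn)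

theorem two_mul_card {n : ℕ} (hn : 5 ≤ n) : 2 * Nat.card (alternatingGroup (Fin n)) = n.factorial := by
  have : Nontrivial (Fin n) := Fin.nontrivial_iff_two_le.2 (by omega)
  rw [two_mul_nat_card_alternatingGroup, Nat.card_eq_fintype_card, Fintype.card_perm,
    Fintype.card_fin]

theorem not_comm {n : ℕ} (hn : 5 ≤ n) : ¬ IsMulCommutative (alternatingGroup (Fin n)) := by
  have := simple hn
  apply SmallSimple.Embed.not_comm_of_card_not_prime
  intro hp
  have h1 := two_mul_card hn
  have h2 : Nat.factorial 4 ∣ n.factorial := Nat.factorial_dvd_factorial (by omega)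
  rw [← h1] at h2
  have h3 : Nat.factorial 4 = 2 * 12 := rfl
  rw [h3] at h2
  have h4 : 12 ∣ Nat.card (alternatingGroup (Fin n)) := Nat.dvd_of_mul_dvd_mul_left (by norm_num) h2
  have h5 : 2 ∣ Nat.card (alternatingGroup (Fin n)) := (by norm_num : 2 ∣ 12).trans h4
  have h6 : 3 ∣ Nat.card (alternatingGroup (Fin n)) := (by norm_num : 3 ∣ 12).trans h4
  rw [Nat.prime_dvd_prime_iff_eq (by norm_num) hp] at h5 h6
  omega

theorem le_index {n : ℕ} (hn : 5 ≤ n) (K : Subgroup (alternatingGroup (Fin n))) (hK : K ≠ ⊤) :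
    n ≤ K.index := by
  have := simple hn
  have h1 := SmallSimple.Embed.two_mul_card_dvd_factorial_index (not_comm hn) K hK
  rw [two_mul_card hn] at h1
  have h2 := Nat.le_of_dvd (Nat.factorial_pos _) h1
  by_contra hcon
  push Not at hcon
  have h3 : K.index.factorial < n.factorial := by
    have h5 := SmallSimple.Embed.five_le_index (not_comm hn) K hK
    exact (Nat.factorial_lt (by omega)).2 hcon
  omega

theorem card_out {n : ℕ} (hn : 5 ≤ n) (h6 : n ≠ 6) :
    Nat.card (Cfsg.Out (alternatingGroup (Fin n))) = 2 := by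
  have := simple hn
  have hZ := center_eq_bot (not_comm hn)
  have h1 : Nat.card (MulAut (alternatingGroup (Fin n))) = n.factorial := by
    rw [← Nat.card_congr (Equiv.ofBijective _ (S2119.result n (by omega) h6)),
      Nat.card_eq_fintype_card, Fintype.card_perm, Fintype.card_fin]
  have hinj : Function.Injective (MulAut.conj : alternatingGroup (Fin n) →* _) := by
    rw [← MonoidHom.ker_eq_bot_iff, eq_bot_iff]
    intro x hx
    have h2 : x ∈ Subgroup.center (alternatingGroup (Fin n)) := by
      rw [Subgroup.mem_center_iff]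
      intro y
      have h3 := congrArg (fun a : MulAut (alternatingGroup (Fin n)) => a y) hx
      have h4 : x * y * x⁻¹ = y := h3
      rw [mul_inv_eq_iff_eq_mul] at h4
      exact h4.symm
    rwa [hZ] at h2
  have h2 : Nat.card (MulAut.conj : alternatingGroup (Fin n) →* _).range =
      Nat.card (alternatingGroup (Fin n)) :=
    (Nat.card_congr (MonoidHom.ofInjective hinj).toEquiv).symm
  have h3 : Nat.card (Cfsg.Out (alternatingGroup (Fin n))) =
      (MulAut.conj : alternatingGroup (Fin n) →* _).range.index := rfl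
  have h4 := (MulAut.conj : alternatingGroup (Fin n) →* _).range.card_mul_index
  rw [h2, h1, ← two_mul_card hn, mul_comm 2] at h4
  rw [h3]
  exact Nat.eq_of_mul_eq_mul_left Nat.card_pos h4

theorem idxOK {n : ℕ} (hn : 5 ≤ n) (h6 : n ≠ 6) : IdxOK (alternatingGroup (Fin n)) := by
  refine IdxOK.of_k (card_out hn h6).le (k := 2 ^ (n - 2)) ?_ (le_index hn) ?_
  · have h1 := PartCount.card_conjClasses_alternating_lt (α := Fin n) (by simpa using hn)
    have h2 := AltCase.card_perm_le (α := Fin n) (by simpa using hn)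
    rw [Fintype.card_fin] at h2
    omega
  · rw [← pow_succ']
    exact Nat.pow_le_pow_right (by norm_num) (by omega)

theorem idxOK_six : IdxOK (alternatingGroup (Fin 6)) := by
  classical
  let F := GaloisField 3 2
  have hF9 : Nat.card F = 9 := by
    have := GaloisField.card 3 2 (by norm_num)
    rw [this]; norm_num
  have hFf : Finite F := Nat.finite_of_card_ne_zero (by rw [hF9]; norm_num)
  have : Fintype F := Fintype.ofFinite F
  have hF : Fintype.card F = 9 := by rw [← Nat.card_eq_fintype_card, hF9]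
  obtain ⟨e⟩ := S0254.result hF
  refine IdxOK.congr ?_ e
  have h3 : Fact (Nat.Prime 3) := ⟨Nat.prime_three⟩
  obtain ⟨φ, hφ, _, hker⟩ := S2602.result (F := F) (p := 3) (f := 2) (by norm_num)
    (by rw [hF]; norm_num) (by norm_num)
  have hout : Nat.card (Cfsg.Out (Matrix.ProjectiveSpecialLinearGroup (Fin 2) F)) ≤ 4 := by
    have h4 := φ.ker.card_mul_index
    rw [Subgroup.index_ker, hker, MonoidHom.range_eq_top.2 hφ, Subgroup.card_top] at h4
    have h5 : Nat.card (Multiplicative (ZMod 2)) = 2 := by
      rw [Nat.card_congr (Multiplicative.toAdd), Nat.card_eq_fintype_card, ZMod.card]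
    rw [h5] at h4
    have h6 : Nat.gcd 2 (3 ^ 2 - 1) = 2 := by norm_num
    rw [h6] at h4
    omega
  have hk := (S2480.result (F := F) 2 (by norm_num)).2
  rw [hF] at hk
  have hk2 : Nat.card (ConjClasses (Matrix.ProjectiveSpecialLinearGroup (Fin 2) F)) ≤ 7 := by
    have h6 : Nat.gcd 2 (9 - 1) = 2 := by norm_num
    rw [h6] at hk
    omega
  refine IdxOK.of_k hout hk2 (b := 6) ?_ (by norm_num)
  intro K hK
  have h1 : K.map e.toMonoidHom ≠ ⊤ := by
    intro h
    apply hK
    rw [eq_top_iff]
    intro x _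
    have h2 : e x ∈ K.map e.toMonoidHom := by rw [h]; trivial
    obtain ⟨y, hy, hyx⟩ := h2
    have : y = x := e.injective hyx
    rwa [← this]
  have h2 := le_index (n := 6) (by norm_num) _ h1
  have h3 : (K.map e.toMonoidHom).index = K.index := Subgroup.index_map_equiv K e
  rwa [h3] at h2

/-- **`IdxOK` for `A_n`, `n ≥ 5`.** -/
theorem main {n : ℕ} (hn : 5 ≤ n) : IdxOK (alternatingGroup (Fin n)) := by
  by_cases h6 : n = 6
  · subst h6
    exact idxOK_six
  · exact idxOK hn h6

end Cfsg.Agent.H539.IdxAlt
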