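import Cfsg.Agent.H539.BlockRed

set_option autoImplicit false

/-!
# Class numbers of permutation groups: reduction to primitive groups, with induction hypothesis

* `reduction_ih`: as `BlockRed.reduction`, the bound for smaller degrees is available in the
  primitive case.
* `family'`: the bound `k(N) ≤ ∏ C i` for a group `N` mapping onto groups containing `L i`, where
  `N` contains elements with prescribed `i`-th coordinate in `L i` and trivial other coordinates.
-/

open MulAction

namespace Cfsg.Agent.H539.PrimRed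

open Cfsg.Agent.H540.ClassNum Cfsg.Agent.H539.BlockRed

/-- **Reduction to primitive groups.** -/
theorem reduction_ih (c : ℕ) (hc : 1 ≤ c)
    (hprim : ∀ (n : ℕ), (∀ m < n, Bd c m) → ∀ (S : Subgroup (Equiv.Perm (Fin n))),
      IsPreprimitive S (Fin n) → Nat.card (ConjClasses S) ≤ c ^ (n - 1)) (n : ℕ) : Bd c n := by
  induction n using Nat.strong_induction_on with
  | _ n ih =>
  intro S
  by_cases hS : IsPreprimitive S (Fin n)
  · exact hprim n ih S hS
  · rcases exists_setoid (G := S) (α := Fin n) hS with h | ⟨r, hr, hbot, htop⟩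
    · have h1 : Nat.card S = 1 := by
        rw [Nat.card_eq_one_iff_unique]
        exact ⟨⟨fun a b => (h a).trans (h b).symm⟩, ⟨1⟩⟩
      have h2 := card_conjClasses_le_card (G := S)
      rw [h1] at h2
      exact h2.trans (Nat.one_le_pow _ _ hc)
    · have h1 := le_of_setoid (c := c) (G := S) (α := Fin n) r hr hbot htop (by
        rw [Fintype.card_fin]; exact ih)
      rwa [Fintype.card_fin] at h1

theorem family_aux' {N : Type*} [Group N] [Finite N] {ι : Type*} [DecidableEq ι]
    {H : ι → Type*} [∀ i, Group (H i)] (f : ∀ i, N →* H i) (L : ∀ i, Subgroup (H i)) (C : ι → ℕ)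
    (hC : ∀ i (M : Subgroup (H i)), L i ≤ M → Nat.card (ConjClasses M) ≤ C i)
    (hL : ∀ i, ∀ a ∈ L i, ∃ x : N, f i x = a ∧ ∀ j, j ≠ i → f j x = 1) (s : Finset ι) :
    Nat.card (ConjClasses N) ≤ (∏ i ∈ s, C i) *
      Nat.card (ConjClasses (⨅ i ∈ s, (f i).ker : Subgroup N)) := by
  induction s using Finset.induction_on with
  | empty =>
    rw [Finset.prod_empty, one_mul]
    have h1 : (⨅ i ∈ (∅ : Finset ι), (f i).ker : Subgroup N) = ⊤ := by simp
    rw [h1, card_conjClasses_congr (Subgroup.topEquiv (G := N))]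
  | insert a s ha ih =>
    refine ih.trans ?_
    rw [Finset.prod_insert ha, mul_comm (C a), mul_assoc]
    refine Nat.mul_le_mul_left _ ?_
    set K : Subgroup N := ⨅ i ∈ s, (f i).ker with hK
    have h2 : (⨅ i ∈ insert a s, (f i).ker : Subgroup N) = (f a).ker ⊓ K := by
      rw [Finset.iInf_insert]
    rw [h2]
    let g : K →* H a := (f a).comp K.subtype
    have h3 := le_ker_mul_range g
    have h4 : Nat.card (ConjClasses g.ker) = Nat.card (ConjClasses ((f a).ker ⊓ K : Subgroup N)) := by
      apply card_conjClasses_congr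
      refine MulEquiv.symm ?_
      refine MulEquiv.mk' (Equiv.mk (fun x => ⟨⟨x.1, x.2.2⟩, x.2.1⟩) (fun x => ⟨x.1.1, x.2, x.1.2⟩)
        (fun x => rfl) (fun x => rfl)) ?_
      intro x y
      rfl
    rw [h4] at h3
    have h5 : L a ≤ g.range := by
      intro b hb
      obtain ⟨x, hx, hx'⟩ := hL a b hb
      refine ⟨⟨x, ?_⟩, hx⟩
      rw [hK]
      simp only [Subgroup.mem_iInf, MonoidHom.mem_ker]
      intro i hi
      apply hx'
      rintro rfl
      exact ha hi
    calc Nat.card (ConjClasses K) ≤ _ := h3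
      _ ≤ Nat.card (ConjClasses ((f a).ker ⊓ K : Subgroup N)) * C a :=
          Nat.mul_le_mul_left _ (hC a _ h5)
      _ = _ := mul_comm _ _

/-- as `BlockRed.family`, using only the subgroups containing `L i`. -/
theorem family' {N : Type*} [Group N] [Finite N] {ι : Type*} [Fintype ι]
    {H : ι → Type*} [∀ i, Group (H i)] (f : ∀ i, N →* H i) (L : ∀ i, Subgroup (H i)) (C : ι → ℕ)
    (hC : ∀ i (M : Subgroup (H i)), L i ≤ M → Nat.card (ConjClasses M) ≤ C i)
    (hL : ∀ i, ∀ a ∈ L i, ∃ x : N, f i x = a ∧ ∀ j, j ≠ i → f j x = 1)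
    (hker : ∀ x : N, (∀ i, f i x = 1) → x = 1) :
    Nat.card (ConjClasses N) ≤ ∏ i, C i := by
  classical
  refine (family_aux' f L C hC hL Finset.univ).trans ?_
  have h1 : (⨅ i ∈ (Finset.univ : Finset ι), (f i).ker : Subgroup N) = ⊥ := by
    rw [eq_bot_iff]
    intro x hx
    simp only [Finset.mem_univ, iInf_pos, Subgroup.mem_iInf, MonoidHom.mem_ker] at hx
    exact hker x hx
  rw [h1]
  have h2 : Nat.card (ConjClasses (⊥ : Subgroup N)) ≤ 1 := by
    have := card_conjClasses_le_card (G := (⊥ : Subgroup N))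
    simpa using this
  calc (∏ i, C i) * Nat.card (ConjClasses (⊥ : Subgroup N)) ≤ (∏ i, C i) * 1 :=
        Nat.mul_le_mul_left _ h2
    _ = _ := mul_one _

end Cfsg.Agent.H539.PrimRed
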