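import Cfsg.Agent.H475.KGL.Rows
import Cfsg.Agent.H698.FinePR
import Cfsg.Agent.H831.RepLift
import Cfsg.Agent.H95.LSx.Sub
import Cfsg.Agent.H539.IdxOK
import Cfsg.Agent.SmallSimple.Embed

/-!
# Tools for the rows `RowS T` of project KGL

* `lbp_of_rep` : `LBp T p δ` from `Rep p m T → δ ≤ m`; `ubk` : `UBk T (k(T) |Out T|)`;
* `of_bounds` : the general criterion; `of_rep`, `of_ls`, `of_ls_card` : degree bound `d`, all primes `p` not dividing
  the order at least `P`, `2 κ ≤ P ^ (d - 1)` (`|T| |Out T| ≤ P ^ (d - 1)`);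
* `rep_prime` : `(r - 1) / 2 ≤ m`, and `< m` if `T` is not `PSL₂(r)`;
* `RowS.congr`, `of_comm`.
-/

set_option autoImplicit false

namespace Cfsg.Agent.H539.RowSTools

open Cfsg.Agent.H475.KGL Cfsg.Agent.H540.ClassNum
open Cfsg.Agent.H698 (Rep)
open Cfsg.Agent.H203.LS (LS)

/-! ### lower bounds -/

/-- `LBp` from the bounds for `Rep` -/
theorem lbp_of_rep {T : Type} [Group T] [IsSimpleGroup T] {p δ : ℕ}
    (h : ∀ m, Rep.{0, 0} p m T → δ ≤ m) : LBp T p δ := by
  intro L _ _ hpL hL π hπ hker F _ _ _ n ρ hρ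
  have hk := H95.LSx.ker_le_of_ne hπ hker hL hρ
  apply h
  let π' : (L ⧸ ρ.ker) →* T := QuotientGroup.lift ρ.ker π hk
  have hπ' : ∀ x : L, π' (x : L ⧸ ρ.ker) = π x := fun x => rfl
  refine ⟨F, inferInstance, inferInstance, inferInstance, L ⧸ ρ.ker, inferInstance, inferInstance, π',
    QuotientGroup.kerLift ρ, ?_, ?_, ?_, QuotientGroup.kerLift_injective ρ, ?_⟩
  · intro t
    obtain ⟨x, hx⟩ := hπ t
    exact ⟨x, hx⟩
  · intro x hx
    obtain ⟨y, rfl⟩ := QuotientGroup.mk_surjective x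
    have h1 : y ∈ Subgroup.center L := hker (by
      rw [MonoidHom.mem_ker] at hx ⊢
      rwa [hπ'] at hx)
    rw [Subgroup.mem_center_iff]
    intro z
    obtain ⟨w, rfl⟩ := QuotientGroup.mk_surjective z
    rw [← QuotientGroup.mk_mul, ← QuotientGroup.mk_mul, Subgroup.mem_center_iff.1 h1 w]
  · exact H95.LSx.perfect_of_surj hL (QuotientGroup.mk'_surjective ρ.ker)
  · intro h1
    exact hpL (h1.trans (Subgroup.card_quotient_dvd_card _))

/-- degree bounds from the primes dividing the order -/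
theorem rep_prime {T : Type} [Group T] [Finite T] [IsSimpleGroup T] (hna : ¬ IsMulCommutative T) {p m r : ℕ}
    (hp : p.Prime) (h : Rep.{0, 0} p m T) (hr : r.Prime) (hrT : r ∣ Nat.card T) : r ≤ 2 * m + 1 :=
  (H831.RepLift.prime_le hna hp h hr hrT).1

/-- degree bounds from the primes dividing the order exactly once -/
theorem rep_prime' {T : Type} [Group T] [Finite T] [IsSimpleGroup T] (hna : ¬ IsMulCommutative T) {p m r : ℕ}
    (hp : p.Prime) (h : Rep.{0, 0} p m T) (hr : r.Prime) (hrT : r ∣ Nat.card T) (hr2 : ¬ r ^ 2 ∣ Nat.card T)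
    (hT : IsEmpty (T ≃* Matrix.ProjectiveSpecialLinearGroup (Fin 2) (ZMod r))) : r ≤ 2 * m := by
  obtain ⟨h1, h2⟩ := H831.RepLift.prime_le hna hp h hr hrT
  rcases Nat.lt_or_ge (2 * m) r with h3 | h3
  · obtain ⟨e⟩ := h2 (by omega) hr2
    exact hT.elim e
  · exact h3

/-! ### upper bounds -/

theorem kc_range {T : Type} [Group T] (hZ : Subgroup.center T = ⊥) :
    kc (MulAut.conj : T →* MulAut T).range = kc T := by
  have hinj : Function.Injective (MulAut.conj : T →* MulAut T) := by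
    rw [injective_iff_map_eq_one]
    intro a ha
    have h1 : a ∈ Subgroup.center T := by
      rw [Subgroup.mem_center_iff]
      intro x
      have h2 : a * x * a⁻¹ = x := DFunLike.congr_fun ha x
      calc x * a = (a * x * a⁻¹) * a := by rw [h2]
        _ = a * x := by group
    rwa [hZ, Subgroup.mem_bot] at h1
  exact (card_conjClasses_congr (MonoidHom.ofInjective hinj)).symm

/-- the class number of a group between `T` and `Aut T`: `k(Y) ≤ k(T) |Y : T|`. -/
theorem kc_le {T : Type} [Group T] [Finite T] (hZ : Subgroup.center T = ⊥) (Y : Subgroup (MulAut T))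
    (hY : (MulAut.conj : T →* MulAut T).range ≤ Y) :
    kc Y ≤ kc T * ((MulAut.conj : T →* MulAut T).range.relIndex Y) := by
  let I : Subgroup Y := (MulAut.conj : T →* MulAut T).range.subgroupOf Y
  have hn : (MulAut.conj : T →* MulAut T).range.Normal := by
    constructor
    rintro _ ⟨t, rfl⟩ a
    refine ⟨a t, ?_⟩
    ext x
    simp [MulAut.conj_apply]
  have hI : I.Normal := hn.subgroupOf Y
  have e : I ≃* (MulAut.conj : T →* MulAut T).range := Subgroup.subgroupOfEquivOfLe hY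
  have h1 := le_normal_mul_quotient (X := Y) I
  rw [card_conjClasses_congr e] at h1
  refine h1.trans ?_
  rw [show Nat.card (ConjClasses ↥(MulAut.conj : T →* MulAut T).range) = kc T from kc_range hZ]
  exact Nat.mul_le_mul_left _ card_conjClasses_le_card

theorem relIndex_le {T : Type} [Group T] [Finite T] (Y : Subgroup (MulAut T)) :
    (MulAut.conj : T →* MulAut T).range.relIndex Y ≤ Nat.card (Cfsg.Out T) := by
  have h1 : Nat.card (Cfsg.Out T) = (MulAut.conj : T →* MulAut T).range.index := rfl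
  rw [h1]
  exact Nat.le_of_dvd (Nat.pos_of_ne_zero Subgroup.index_ne_zero_of_finite)
    (Subgroup.relIndex_dvd_index_of_normal _ _)

theorem ubk {T : Type} [Group T] [Finite T] (hZ : Subgroup.center T = ⊥) {κ : ℕ}
    (h : Nat.card (ConjClasses T) * Nat.card (Cfsg.Out T) ≤ κ) : UBk T κ := fun Y hY =>
  (kc_le hZ Y hY).trans ((Nat.mul_le_mul_left _ (relIndex_le Y)).trans h)

/-! ### criteria -/

/-- **The general criterion.** -/
theorem of_bounds {T : Type} [Group T] [Finite T] [IsSimpleGroup T] (hT : ¬ IsMulCommutative T) {κ : ℕ}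
    (hκ : Nat.card (ConjClasses T) * Nat.card (Cfsg.Out T) ≤ κ)
    (h : ∀ p, p.Prime → ¬ p ∣ Nat.card T → ∃ δ, 2 ≤ δ ∧ (∀ m, Rep.{0, 0} p m T → δ ≤ m) ∧
      2 * κ ≤ p ^ (δ - 1)) : RowS T := by
  intro p hp hpT
  obtain ⟨δ, h2, h3, h4⟩ := h p hp hpT
  exact ⟨κ, δ, ubk (center_eq_bot hT) hκ, lbp_of_rep h3, h2, h4⟩

/-- Criterion with a bound `P` for the primes and a degree bound `d`. -/
theorem of_rep {T : Type} [Group T] [Finite T] [IsSimpleGroup T] (hT : ¬ IsMulCommutative T) {κ P d : ℕ}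
    (hκ : Nat.card (ConjClasses T) * Nat.card (Cfsg.Out T) ≤ κ)
    (hP : ∀ p, p.Prime → ¬ p ∣ Nat.card T → P ≤ p) (hd2 : 2 ≤ d)
    (hd : ∀ p m : ℕ, p.Prime → ¬ p ∣ Nat.card T → Rep.{0, 0} p m T → d ≤ m) (h : 2 * κ ≤ P ^ (d - 1)) :
    RowS T :=
  of_bounds hT hκ fun p hp hpT =>
    ⟨d, hd2, fun m hm => hd p m hp hpT hm, h.trans (Nat.pow_le_pow_left (hP p hp hpT) _)⟩

/-- Criterion with `LS`. -/
theorem of_ls {T : Type} [Group T] [Finite T] [IsSimpleGroup T] (hT : ¬ IsMulCommutative T) {κ P d r : ℕ}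
    (hκ : Nat.card (ConjClasses T) * Nat.card (Cfsg.Out T) ≤ κ)
    (hP : ∀ p, p.Prime → ¬ p ∣ Nat.card T → P ≤ p) (hd2 : 2 ≤ d) (hr : r.Prime) (hrT : r ∣ Nat.card T)
    (hls : LS.{0, 0, 0} r d T) (h : 2 * κ ≤ P ^ (d - 1)) : RowS T :=
  of_rep hT hκ hP hd2 (fun _ _ hp hpT hm => hm.le_of_LS hp hr hrT hpT hls) h

/-- `2 k(T) ≤ |T|` -/
theorem two_mul_k_le {T : Type} [Group T] [Finite T] [IsSimpleGroup T] (hT : ¬ IsMulCommutative T) :
    2 * Nat.card (ConjClasses T) ≤ Nat.card T := by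
  have h5 : ∀ K : Subgroup T, K ≠ ⊤ → 5 ≤ K.index := SmallSimple.Embed.five_le_index hT
  have h1 := card_conjClasses_le_div (center_eq_bot hT) (by norm_num) h5
  have h2 : 5 ≤ Nat.card T := by
    have h3 := h5 ⊥ (by
      intro h4
      have h6 : Nontrivial T := inferInstance
      exact bot_ne_top h4)
    rwa [Subgroup.index_bot] at h3
  omega

/-- Criterion with `|Aut T|`. -/
theorem of_rep_card {T : Type} [Group T] [Finite T] [IsSimpleGroup T] (hT : ¬ IsMulCommutative T) {P d : ℕ}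
    (hP : ∀ p, p.Prime → ¬ p ∣ Nat.card T → P ≤ p) (hd2 : 2 ≤ d)
    (hd : ∀ p m : ℕ, p.Prime → ¬ p ∣ Nat.card T → Rep.{0, 0} p m T → d ≤ m)
    (h : Nat.card T * Nat.card (Cfsg.Out T) ≤ P ^ (d - 1)) : RowS T := by
  refine of_rep hT le_rfl hP hd2 hd (le_trans ?_ h)
  rw [← mul_assoc]
  exact Nat.mul_le_mul_right _ (two_mul_k_le hT)

/-- Criterion with `LS` and `|Aut T|`. -/
theorem of_ls_card {T : Type} [Group T] [Finite T] [IsSimpleGroup T] (hT : ¬ IsMulCommutative T) {P d r : ℕ}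
    (hP : ∀ p, p.Prime → ¬ p ∣ Nat.card T → P ≤ p) (hd2 : 2 ≤ d) (hr : r.Prime) (hrT : r ∣ Nat.card T)
    (hls : LS.{0, 0, 0} r d T) (h : Nat.card T * Nat.card (Cfsg.Out T) ≤ P ^ (d - 1)) : RowS T :=
  of_rep_card hT hP hd2 (fun _ _ hp hpT hm => hm.le_of_LS hp hr hrT hpT hls) h

/-- `k(T) ≤ 1 + (|T| - 1) / b` if all proper indices are at least `b` -/
theorem k_le_of_index {T : Type} [Group T] [Finite T] [IsSimpleGroup T] (hT : ¬ IsMulCommutative T) {b : ℕ}
    (hb0 : 0 < b) (hb : ∀ K : Subgroup T, K ≠ ⊤ → b ≤ K.index) :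
    Nat.card (ConjClasses T) ≤ 1 + (Nat.card T - 1) / b :=
  card_conjClasses_le_div (center_eq_bot hT) hb0 hb

/-- indices are at least the primes dividing the order -/
theorem prime_le_index {T : Type} [Group T] [Finite T] [IsSimpleGroup T]
    (hna : ¬ IsMulCommutative T) {r : ℕ} (hr : r.Prime) (h : r ∣ Nat.card T)
    (K : Subgroup T) (hK : K ≠ ⊤) : r ≤ K.index := by
  have h1 := SmallSimple.Embed.two_mul_card_dvd_factorial_index hna K hK
  exact (hr.dvd_factorial).1 ((h.trans (Dvd.intro_left 2 rfl)).trans h1)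

/-- the primes not dividing `N` are at least `P` if the smaller ones divide `N` -/
theorem primes_ge {N P : ℕ} (h : ∀ q < P, q.Prime → q ∣ N) : ∀ p, p.Prime → ¬ p ∣ N → P ≤ p := by
  intro p hp hpN
  by_contra hlt
  exact hpN (h p (by omega) hp)

/-! ### isomorphisms and the commutative case -/

theorem RowS.congr {T T' : Type} [Group T] [Group T'] (e : T ≃* T') (h : RowS T) : RowS T' := by
  intro p hp hpT
  obtain ⟨κ, δ, h1, h2, h3, h4⟩ := h p hp (by rwa [Nat.card_congr e.toEquiv])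
  refine ⟨κ, δ, ?_, ?_, h3, h4⟩
  · intro Y hY
    let f : MulAut T' ≃* MulAut T := MulAut.congr e.symm
    have h5 := h1 (Y.map f.toMonoidHom) (by
      rintro _ ⟨t, rfl⟩
      refine ⟨MulAut.conj (e t), hY ⟨e t, rfl⟩, ?_⟩
      ext x
      change e.symm (e t * e x * (e t)⁻¹) = t * x * t⁻¹
      simp)
    exact (card_conjClasses_congr (Y.equivMapOfInjective f.toMonoidHom f.injective)).le.trans h5
  · intro L _ _ hpL hL π hπ hker F _ _ _ n ρ hρ
    refine h2 L hpL hL (e.symm.toMonoidHom.comp π) (e.symm.surjective.comp hπ) ?_ F n ρ hρ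
    intro x hx
    apply hker
    rw [MonoidHom.mem_ker] at hx ⊢
    exact (MulEquiv.map_eq_one_iff e.symm).1 hx

/-- commutative groups have no perfect extensions -/
theorem of_comm {T : Type} [Group T] [Finite T] [Nontrivial T] (hT : IsMulCommutative T) : RowS T := by
  intro p hp _
  have hno : ∀ δ, LBp T p δ := by
    intro δ L _ _ _ hL π hπ
    exfalso
    have h1 := H95.LSx.perfect_of_surj hL hπ
    have h2 : commutator T = ⊥ := by
      rw [commutator_def, Subgroup.commutator_eq_bot_iff_le_centralizer]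
      intro x _
      rw [Subgroup.mem_centralizer_iff]
      intro y _
      exact hT.is_comm.comm y x
    rw [h1] at h2
    exact absurd h2 top_ne_bot
  refine ⟨Nat.card (MulAut T), 2 * Nat.card (MulAut T) + 2, ?_, hno _, by omega, ?_⟩
  · intro Y _
    exact card_conjClasses_le_card.trans (Subgroup.card_le_card_group Y)
  · have h1 : 2 * Nat.card (MulAut T) < 2 ^ (2 * Nat.card (MulAut T)) := Nat.lt_two_pow_self
    have h2 : 2 ^ (2 * Nat.card (MulAut T)) ≤ 2 ^ (2 * Nat.card (MulAut T) + 2 - 1) :=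
      Nat.pow_le_pow_right (by norm_num) (by omega)
    have h3 : 2 ^ (2 * Nat.card (MulAut T) + 2 - 1) ≤ p ^ (2 * Nat.card (MulAut T) + 2 - 1) :=
      Nat.pow_le_pow_left hp.two_le _
    omega

end Cfsg.Agent.H539.RowSTools
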